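import Mathlib

/-!
# Transitive groups of degree `2pq` are not elusive: definitions

`Ω` has `2pq` points, `q < p` odd primes, every element of prime order has a fixed point.
`P` is a Sylow `p`-subgroup. Its orbits have length `p` or `p²`; there is at most one orbit
`Δ = orbit P b` of length `p²`; `Γ` is the complement of `Δ`.
-/

set_option autoImplicit false

namespace Cfsg.Agent.E2Q

open MulAction

variable {G : Type*} [Group G] {Ω : Type*} [MulAction G Ω]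

/-- The standing hypotheses (a counterexample with `q < p`). -/
structure Su (G Ω : Type*) [Group G] [MulAction G Ω] (p q : ℕ) : Prop where
  trans : IsPretransitive G Ω
  faith : ∀ g : G, (∀ ω : Ω, g • ω = ω) → g = 1
  pp : p.Prime
  qp : q.Prime
  q2 : 2 < q
  qlt : q < p
  card : Nat.card Ω = 2 * p * q
  el : ∀ g : G, (orderOf g).Prime → ∃ ω : Ω, g • ω = ω

/-- The length of the orbit of `ω` under the subgroup `H`. -/
noncomputable abbrev ol (H : Subgroup G) (ω : Ω) : ℕ := (stabilizer G ω).relIndex H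

theorem ol_eq_ncard (H : Subgroup G) (ω : Ω) : ol H ω = (orbit H ω).ncard :=
  index_stabilizer H ω

theorem mem_orbit_sub {H : Subgroup G} {a c : Ω} : c ∈ orbit H a ↔ ∃ h ∈ H, h • a = c :=
  ⟨fun ⟨h, e⟩ => ⟨h, h.2, e⟩, fun ⟨h, hh, e⟩ => ⟨⟨h, hh⟩, e⟩⟩

/-- `P` is a Sylow `r`-subgroup of the subgroup `K`. -/
structure Syl (r : ℕ) (P K : Subgroup G) : Prop where
  pg : IsPGroup r P
  le : P ≤ K
  nd : ¬ r ∣ P.relIndex K

/-- Case II: the Sylow `p`-subgroup `P` has the orbit `Δ = orbit P b` of length `p²`. -/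
structure C2 (p : ℕ) (P : Subgroup G) (b : Ω) : Prop where
  syl : Syl p P ⊤
  olb : ol P b = p ^ 2
  olo : ∀ a, a ∉ orbit P b → ol P a = p
  ne : ∃ a, a ∉ orbit P b
  few : ∃ s : Finset Ω, s.card + 2 ≤ p ∧ (∀ a ∈ s, a ∉ orbit P b) ∧
    ∀ a, a ∉ orbit P b → ∃ c ∈ s, P ⊓ stabilizer G a = P ⊓ stabilizer G c
  conj : ∀ a c, a ∉ orbit P b → c ∉ orbit P b →
    ∃ g : G, ∀ x : G, x ∈ P ⊓ stabilizer G a ↔ g * x * g⁻¹ ∈ P ⊓ stabilizer G c

/-- Case II B, short form: all points outside `Δ` have the same stabiliser `B` in `P`. -/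
structure CB0 (p : ℕ) (P B : Subgroup G) (b : Ω) : Prop where
  c2 : C2 p P b
  fix : ∀ a, a ∉ orbit P b → P ⊓ stabilizer G a = B
  stb : P ⊓ stabilizer G b ≤ B

/-- Case II B, with all the easy consequences. `Δ = orbit P b`, `Γ = (orbit P b)ᶜ`. -/
structure CB (p q : ℕ) (P B : Subgroup G) (b : Ω) : Prop where
  syl : Syl p P ⊤
  le : B ≤ P
  idx : B.relIndex P = p
  norm : P ≤ Subgroup.normalizer (B : Set G)
  pow_mem : ∀ x ∈ P, x ^ p ∈ B
  comm : ∀ u ∈ B, ∀ v ∈ B, u * v = v * u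
  expo : ∀ u ∈ B, u ^ p = 1
  nexp : ∀ x ∈ P, x ∉ B → x ^ p ≠ 1
  exP : ∃ x ∈ P, x ∉ B
  gen : ∀ x ∈ P, x ∉ B → ∀ z ∈ P, ∃ i : ℕ, ∃ u ∈ B, z = x ^ i * u
  olb : ol P b = p ^ 2
  cardD : (orbit P b).ncard = p ^ 2
  cardG : (orbit P b)ᶜ.ncard + p ^ 2 = 2 * p * q
  ne : ∃ a, a ∉ orbit P b
  olB : ∀ c ∈ orbit P b, ol B c = p
  stab : ∀ ω : Ω, P ⊓ stabilizer G ω ≤ B
  mem_fix : ∀ ω : Ω, ω ∉ orbit P b ↔ ∀ u ∈ B, u • ω = ω
  sylB : ∀ a, a ∉ orbit P b → Syl p B (stabilizer G a)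
  witt : ∀ a c, a ∉ orbit P b → c ∉ orbit P b →
    ∃ n ∈ Subgroup.normalizer (B : Set G), n • a = c
  witt2 : ∀ a c a' c', a ∉ orbit P b → c ∉ orbit P b → a' ∉ orbit P b → c' ∉ orbit P b →
    ∀ g : G, g • a = a' → g • c = c' →
      ∃ n ∈ Subgroup.normalizer (B : Set G), n • a = a' ∧ n • c = c'

/-- The cyclic case: `P = ⟨x⟩` of order `p²`, `B = ⟨x ^ p⟩`, regular on `Δ`. -/
structure CC (p q : ℕ) (P B : Subgroup G) (b : Ω) (x : G) : Prop where
  cb : CB p q P B b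
  eP : P = Subgroup.zpowers x
  ox : orderOf x = p ^ 2
  eB : B = Subgroup.zpowers (x ^ p)
  oy : orderOf (x ^ p) = p
  reg : ∀ z ∈ P, ∀ c ∈ orbit P b, z • c = c → z = 1

end Cfsg.Agent.E2Q
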