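import Mathlib
import Cfsg.Agent.E2Q.Def
import Cfsg.Agent.Perm.PrimRel
import Cfsg.Agent.Solv.CoprimeSylow

set_option autoImplicit false

namespace Cfsg.Agent.E2Q

open MulAction

variable {G : Type*} [Group G] {Ω : Type*} [MulAction G Ω]

/-- Orbit lengths of an `r`-group are powers of `r`. (`IsPGroup.index`.) -/
theorem ol_pow [Finite G] {r : ℕ} (hr : r.Prime) {P : Subgroup G} (hP : IsPGroup r P) (ω : Ω) :
    ∃ i, ol P ω = r ^ i := by
  haveI := Fact.mk hr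
  exact hP.index _

/-- Orbit lengths are constant on orbits. -/
theorem ol_smul (H : Subgroup G) {h : G} (hh : h ∈ H) (ω : Ω) : ol H (h • ω) = ol H ω := by
  rw [ol_eq_ncard, ol_eq_ncard, orbit_eq_iff.2 (mem_orbit_sub.2 ⟨h, hh, rfl⟩)]

/-- `|K : P_ω| = |K : P| |P : P_ω| = |K : K_ω| |K_ω : P_ω|`. -/
theorem Syl.dvd_ol [Finite G] {r : ℕ} (hr : r.Prime) {P K : Subgroup G} (h : Syl r P K) {ω : Ω}
    (hd : r ∣ ol K ω) : r ∣ ol P ω := by
  have e := Subgroup.relIndex_inf_mul_relIndex (stabilizer G ω) P K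
  rw [inf_of_le_left h.le] at e
  have e2 : r ∣ ol P ω * P.relIndex K :=
    e ▸ hd.trans (Subgroup.relIndex_dvd_of_le_left K inf_le_left)
  exact (hr.dvd_mul.1 e2).resolve_right h.nd

/-- A subgroup of index `r` in an `r`-group is normal, contains `r`-th powers and commutators, is
maximal, and any outside element generates the quotient
(`Subgroup.normal_of_index_eq_minFac_card`; the quotient has prime order). -/
theorem idx_prime [Finite G] {r : ℕ} (hr : r.Prime) {P M : Subgroup G} (hP : IsPGroup r P)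
    (hi : M.relIndex P = r) :
    (∀ x ∈ P, ∀ u ∈ P, u ∈ M → x * u * x⁻¹ ∈ M) ∧ (∀ x ∈ P, x ^ r ∈ M) ∧
    (∀ x ∈ P, ∀ z ∈ P, x * z * x⁻¹ * z⁻¹ ∈ M) ∧
    (∀ X : Subgroup G, P ⊓ M ≤ X → X ≤ P → X = P ⊓ M ∨ X = P) ∧
    (∀ x ∈ P, x ∉ M → ∀ z ∈ P, ∃ i : ℕ, ∃ u ∈ P, u ∈ M ∧ z = x ^ i * u) := by
  haveI := Fact.mk hr
  have hN : (M.subgroupOf P).Normal := by
    obtain ⟨n, hn⟩ := IsPGroup.iff_card.1 hP
    have hd : r ∣ r ^ n := by
      have := (M.subgroupOf P).index_dvd_card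
      rwa [hn, show (M.subgroupOf P).index = r from hi] at this
    have n0 : n ≠ 0 := by
      rintro rfl
      exact hr.one_lt.ne' (Nat.dvd_one.1 (by simpa using hd))
    exact Subgroup.normal_of_index_eq_minFac_card (by rw [hn, hr.pow_minFac n0]; exact hi)
  have h1 : ∀ x ∈ P, ∀ u ∈ P, u ∈ M → x * u * x⁻¹ ∈ M := fun x hx u hu hM =>
    hN.conj_mem ⟨u, hu⟩ hM ⟨x, hx⟩
  have h5 : ∀ x ∈ P, x ∉ M → ∀ z ∈ P, ∃ i : ℕ, ∃ u ∈ P, u ∈ M ∧ z = x ^ i * u := by
    intro x hx hM z hz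
    obtain ⟨i, e⟩ := mem_powers_of_prime_card (G := P ⧸ M.subgroupOf P) (p := r) hi
      (g := QuotientGroup.mk ⟨x, hx⟩) (g' := QuotientGroup.mk ⟨z, hz⟩)
      (fun e => hM ((QuotientGroup.eq_one_iff (N := M.subgroupOf P) ⟨x, hx⟩).1 e))
    have e' : (QuotientGroup.mk (⟨x, hx⟩ ^ i) : P ⧸ M.subgroupOf P) = QuotientGroup.mk ⟨z, hz⟩ := by
      rw [QuotientGroup.mk_pow]; exact e
    exact ⟨i, (x ^ i)⁻¹ * z, mul_mem (inv_mem (pow_mem hx i)) hz,
      (QuotientGroup.eq (s := M.subgroupOf P)).1 e', by group⟩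
  refine ⟨h1, fun x hx => ?_, fun x hx z hz => ?_, fun X h6 h7 => ?_, h5⟩
  · have := (M.subgroupOf P).pow_index_mem ⟨x, hx⟩
    rwa [show (M.subgroupOf P).index = r from hi] at this
  · by_cases hM : x ∈ M
    · have := mul_mem hM (h1 z hz x⁻¹ (inv_mem hx) (inv_mem hM))
      simpa [mul_assoc] using this
    · obtain ⟨i, u, hu, uM, rfl⟩ := h5 x hx hM z hz
      have k := mul_mem (h1 x hx u hu uM) (inv_mem uM)
      have := h1 _ (pow_mem hx i) _ (mul_mem (mul_mem (mul_mem hx hu) (inv_mem hx)) (inv_mem hu)) k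
      convert this using 1
      group
  · by_cases hX : X ≤ M
    · exact Or.inl (le_antisymm (le_inf h7 hX) h6)
    · obtain ⟨x, hx, hM⟩ := SetLike.not_le_iff_exists.1 hX
      refine Or.inr (le_antisymm h7 fun z hz => ?_)
      obtain ⟨i, u, hu, uM, rfl⟩ := h5 x (h7 hx) hM z hz
      exact mul_mem (pow_mem hx i) (h6 ⟨hu, uM⟩)

/-- A faithful `r`-group whose orbits have length at most `r` is elementary abelian
(each orbit length is `1` or `r`; use `idx_prime`). -/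
theorem elab_of_ol [Finite G] {r : ℕ} (hr : r.Prime) (faith : ∀ g : G, (∀ ω : Ω, g • ω = ω) → g = 1)
    {H : Subgroup G} (hH : IsPGroup r H) (hol : ∀ ω : Ω, ol H ω ≤ r) :
    (∀ u ∈ H, ∀ v ∈ H, u * v = v * u) ∧ ∀ u ∈ H, u ^ r = 1 := by
  have key : ∀ ω : Ω, (∀ x ∈ H, x ^ r ∈ stabilizer G ω) ∧
      ∀ x ∈ H, ∀ z ∈ H, x * z * x⁻¹ * z⁻¹ ∈ stabilizer G ω := fun ω => by
    obtain ⟨i, hi⟩ := ol_pow hr hH ω
    have h1 : i ≤ 1 := (Nat.pow_le_pow_iff_right hr.one_lt).1 (by rw [← hi, pow_one]; exact hol ω)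
    obtain rfl | rfl : i = 0 ∨ i = 1 := by omega
    · have h2 : H ≤ stabilizer G ω := Subgroup.relIndex_eq_one.1 (by simpa using hi)
      exact ⟨fun x hx => h2 (pow_mem hx r), fun x hx z hz =>
        h2 (mul_mem (mul_mem (mul_mem hx hz) (inv_mem hx)) (inv_mem hz))⟩
    · have h2 := idx_prime hr hH (M := stabilizer G ω) (by simpa using hi)
      exact ⟨h2.2.1, h2.2.2.1⟩
  refine ⟨fun u hu v hv => ?_, fun u hu => faith _ fun ω => (key ω).1 u hu⟩
  have := faith _ fun ω => (key ω).2 u hu v hv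
  rwa [mul_inv_eq_one, mul_inv_eq_iff_eq_mul] at this

/-- `Cfsg.Agent.Perm.exists_sylow_in`. -/
theorem Syl.exists_ge [Finite G] {r : ℕ} (hr : r.Prime) {R K : Subgroup G} (hR : IsPGroup r R)
    (hRK : R ≤ K) : ∃ P : Subgroup G, Syl r P K ∧ R ≤ P := by
  haveI := Fact.mk hr
  obtain ⟨P, h1, h2, h3, h4⟩ := Cfsg.Agent.Perm.exists_sylow_in r K R hR hRK
  exact ⟨P, ⟨h1, h3, h4⟩, h2⟩

/-- Sylow's theorem in ambient form (`IsPGroup.toSylow` for `P.subgroupOf K`,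
`IsPGroup.exists_le_sylow`, `MulAction.exists_smul_eq`). -/
theorem Syl.conj_into [Finite G] {r : ℕ} (hr : r.Prime) {P K R : Subgroup G} (h : Syl r P K)
    (hR : IsPGroup r R) (hRK : R ≤ K) : ∃ k ∈ K, ∀ x ∈ R, k * x * k⁻¹ ∈ P := by
  haveI := Fact.mk hr
  obtain ⟨Q, hQ⟩ := (hR.comap_subtype (K := K)).exists_le_sylow
  obtain ⟨k, hk⟩ := MulAction.exists_smul_eq K Q ((h.pg.comap_subtype (K := K)).toSylow h.nd)
  refine ⟨k, k.2, fun x hx => ?_⟩
  have e := Subgroup.smul_mem_pointwise_smul _ (MulAut.conj k) (Q : Subgroup K)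
    (hQ (show (⟨x, hRK hx⟩ : K) ∈ R.comap K.subtype from hx))
  rw [← Sylow.coe_subgroup_smul, hk] at e
  exact e

theorem Syl.card_le [Finite G] {r : ℕ} (hr : r.Prime) {P K R : Subgroup G} (h : Syl r P K)
    (hR : IsPGroup r R) (hRK : R ≤ K) : Nat.card R ≤ Nat.card P := by
  obtain ⟨k, -, e⟩ := h.conj_into hr hR hRK
  exact Nat.card_le_card_of_injective (fun x : R => (⟨_, e x x.2⟩ : P)) fun a b e' =>
    Subtype.ext (by simpa using e')

theorem Syl.eq_of_le [Finite G] {r : ℕ} (hr : r.Prime) {P K R : Subgroup G} (h : Syl r P K)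
    (hR : IsPGroup r R) (hPR : P ≤ R) (hRK : R ≤ K) : R = P := by
  exact (Subgroup.eq_of_le_of_card_ge hPR (h.card_le hr hR hRK)).symm

/-- An `r`-subgroup of `K` at least as large as a Sylow subgroup is Sylow. -/
theorem Syl.of_card_le [Finite G] {r : ℕ} (hr : r.Prime) {P K R : Subgroup G} (h : Syl r P K)
    (hR : IsPGroup r R) (hRK : R ≤ K) (hc : Nat.card P ≤ Nat.card R) : Syl r R K := by
  obtain ⟨Q, h1, h2⟩ := Syl.exists_ge hr hR hRK
  rwa [Subgroup.eq_of_le_of_card_ge h2 ((h.card_le hr h1.pg h1.le).trans hc)]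

/-- Two Sylow subgroups of `K` are conjugate in `K`. -/
theorem Syl.conj [Finite G] {r : ℕ} (hr : r.Prime) {P K R : Subgroup G} (h : Syl r P K)
    (hR : Syl r R K) : ∃ k ∈ K, ∀ x : G, x ∈ R ↔ k * x * k⁻¹ ∈ P := by
  obtain ⟨k, hk, e⟩ := h.conj_into hr hR.pg hR.le
  refine ⟨k, hk, fun x => ⟨e x, fun hx => ?_⟩⟩
  have hi : Function.Injective (fun x : R => (⟨_, e x x.2⟩ : P)) := fun a b e' =>
    Subtype.ext (by simpa using e')
  obtain ⟨y, hy⟩ := (hi.bijective_of_nat_card_le (hR.card_le hr h.pg h.le)).2 ⟨_, hx⟩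
  have : (y : G) = x := by simpa using hy
  exact this ▸ y.2

theorem Syl.mono [Finite G] {r : ℕ} {P K L : Subgroup G} (h : Syl r P K) (hPL : P ≤ L)
    (hLK : L ≤ K) : Syl r P L := by
  exact ⟨h.pg, hPL, fun hd => h.nd (hd.trans (Dvd.intro _ (Subgroup.relIndex_mul_relIndex P L K hPL hLK)))⟩

/-- A Sylow subgroup meets a normal subgroup in a Sylow subgroup. -/
theorem Syl.inf_normal [Finite G] {r : ℕ} (hr : r.Prime) {P N : Subgroup G} [N.Normal]
    (h : Syl r P ⊤) : Syl r (P ⊓ N) N := by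
  have hp : IsPGroup r (P ⊓ N : Subgroup G) := h.pg.to_inf_left
  obtain ⟨Q, h1, -⟩ := Syl.exists_ge hr hp (inf_le_right : P ⊓ N ≤ N)
  obtain ⟨k, -, e⟩ := h.conj_into hr h1.pg le_top
  refine h1.of_card_le hr hp inf_le_right ?_
  exact Nat.card_le_card_of_injective (fun x : Q => (⟨_, e x x.2,
    Subgroup.Normal.conj_mem ‹_› _ (h1.le x.2) k⟩ : (P ⊓ N : Subgroup G))) fun a b e' =>
    Subtype.ext (by simpa using congrArg Subtype.val e')

/-- A `p`-group normalising a `p'`-group normalises one of its Sylow `r`-subgroups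
(`Cfsg.Agent.Solv.exists_invariant_sylow`; `p`-groups are nilpotent, so solvable). -/
theorem exists_inv_syl [Finite G] {p r : ℕ} (hp : p.Prime) (hr : r.Prime) {A K : Subgroup G}
    (hA : IsPGroup p A) (hAK : A ≤ Subgroup.normalizer (K : Set G)) (hK : ¬ p ∣ Nat.card K) :
    ∃ R : Subgroup G, Syl r R K ∧ A ≤ Subgroup.normalizer (R : Set G) := by
  haveI := Fact.mk hr
  haveI := Fact.mk hp
  obtain ⟨n, hn⟩ := IsPGroup.iff_card.1 hA
  haveI := hA.isNilpotent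
  obtain ⟨Q, hQ⟩ := Cfsg.Agent.Solv.exists_invariant_sylow A K hAK
    (hn ▸ Nat.Coprime.pow_left n ((Nat.Prime.coprime_iff_not_dvd hp).2 hK)) (Or.inl inferInstance) r
  refine ⟨_, ⟨Q.isPGroup'.map _, Subgroup.map_subtype_le _, ?_⟩, hQ⟩
  rw [Subgroup.relIndex, Subgroup.subgroupOf, Subgroup.comap_map_eq_self_of_injective
    K.subtype_injective]
  exact Q.not_dvd_index

end Cfsg.Agent.E2Q
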