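import Mathlib
import Cfsg.Agent.E2Q.Def

set_option autoImplicit false

namespace Cfsg.Agent.E2Q

open MulAction

variable {G : Type*} [Group G] {Ω : Type*} [MulAction G Ω]

open Classical in
theorem cov_card {H : Type*} [Group H] [Fintype H] (K : Subgroup H) {r : ℕ} (h : r ≤ K.index) :
    r * (Finset.univ.filter fun g => g ∈ K).card ≤ Fintype.card H := by
  have h1 : (Finset.univ.filter fun g => g ∈ K).card = Nat.card K := by
    rw [Nat.card_eq_fintype_card, Fintype.card_subtype]
  rw [h1, ← Nat.card_eq_fintype_card, ← K.index_mul_card]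
  exact Nat.mul_le_mul_right _ h

/-- A finite group is not the union of at most `r` subgroups of index at least `r ≥ 2`.
Proof: count: `|⋃ (B ⊓ M i)| ≤ 1 + ∑ (|B ⊓ M i| - 1) ≤ 1 + r (|B|/r - 1) < |B|` (for `s = ∅` take
`g = 1`). Or Mathlib `GroupTheory/CosetCover`: `Subgroup.one_le_sum_inv_index_of_leftCoset_cover`,
`Subgroup.pairwiseDisjoint_leftCoset_cover_of_sum_inv_index_eq_one` in the group `↥B`. -/
theorem cov [Finite G] {ι : Type*} (B : Subgroup G) {r : ℕ} (hr : 2 ≤ r) (s : Finset ι)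
    (M : ι → Subgroup G) (hs : s.card ≤ r) (hM : ∀ i ∈ s, r ≤ (M i).relIndex B) :
    ∃ g ∈ B, ∀ i ∈ s, g ∉ M i := by
  classical
  have := Fintype.ofFinite B
  by_contra hc
  push Not at hc
  let T : ι → Finset B := fun i => (Finset.univ.filter fun g => g ∈ (M i).subgroupOf B).erase 1
  have h1 : ∀ i ∈ s, r * (T i).card + r ≤ Fintype.card B := by
    intro i hi
    have e := cov_card ((M i).subgroupOf B) (hM i hi)
    have e' : (T i).card + 1 = (Finset.univ.filter fun g => g ∈ (M i).subgroupOf B).card :=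
      Finset.card_erase_add_one (Finset.mem_filter.2 ⟨Finset.mem_univ _, one_mem _⟩)
    rw [← e'] at e
    exact e
  have h2 : (Finset.univ.erase (1 : B)).card ≤ ∑ i ∈ s, (T i).card := by
    refine le_trans (Finset.card_le_card fun g hg => ?_) Finset.card_biUnion_le
    obtain ⟨i, hi, hg'⟩ := hc g g.2
    exact Finset.mem_biUnion.2 ⟨i, hi, Finset.mem_erase.2 ⟨Finset.ne_of_mem_erase hg,
      Finset.mem_filter.2 ⟨Finset.mem_univ _, hg'⟩⟩⟩
  have h3 : (Finset.univ.erase (1 : B)).card + 1 = Fintype.card B :=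
    Finset.card_erase_add_one (Finset.mem_univ _)
  have h4 := Finset.sum_le_sum h1
  rw [Finset.sum_add_distrib, ← Finset.mul_sum, Finset.sum_const, Finset.sum_const, smul_eq_mul,
    smul_eq_mul] at h4
  obtain ⟨i, hi, -⟩ := hc 1 (one_mem _)
  obtain ⟨d, hd⟩ : ∃ d, Fintype.card B = r + d := Nat.exists_eq_add_of_le (by have := h1 i hi; omega)
  rw [hd] at h3 h4
  have h5 : r * (Finset.univ.erase (1 : B)).card ≤ r * d := by
    have := Nat.mul_le_mul_left r h2
    have := Nat.mul_le_mul_right d hs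
    nlinarith
  have := Nat.le_of_mul_le_mul_left h5 (by omega)
  omega

/-- Coset version. Proof: for each `i` the set `{g ∈ B | g * x ∈ M i}` is empty or a right coset of
`B ⊓ M i` (`g x, g' x ∈ M i → g g'⁻¹ ∈ M i`), so has at most `|B ⊓ M i|` elements. If for every
`i` with a nonempty set the index is `≥ r`, then `|B| ≤ s.card * |B| / r < |B|`. So some `i` has a
nonempty set and `B ≤ M i`; then `x ∈ M i`. -/
theorem cov_coset [Finite G] {ι : Type*} (B : Subgroup G) (x : G) {r : ℕ} (s : Finset ι)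
    (M : ι → Subgroup G) (hs : s.card < r) (hM : ∀ i ∈ s, B ≤ M i ∨ r ≤ (M i).relIndex B)
    (hc : ∀ g ∈ B, ∃ i ∈ s, g * x ∈ M i) : ∃ i ∈ s, B ≤ M i ∧ x ∈ M i := by
  classical
  have := Fintype.ofFinite B
  by_contra hn
  push Not at hn
  let T : ι → Finset B := fun i => Finset.univ.filter fun g => (g : G) * x ∈ M i
  have h1 : ∀ i ∈ s, r * (T i).card ≤ Fintype.card B := by
    intro i hi
    rcases (T i).eq_empty_or_nonempty with e | ⟨g0, hg0⟩
    · simp [e]
    have hg0' : (g0 : G) * x ∈ M i := (Finset.mem_filter.1 hg0).2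
    rcases hM i hi with h | h
    · exact absurd (((M i).mul_mem_cancel_left (h g0.2)).1 hg0') (hn i hi h)
    refine le_trans (Nat.mul_le_mul_left r ?_) (cov_card ((M i).subgroupOf B) h)
    refine Finset.card_le_card_of_injOn (fun g => g * g0⁻¹) (fun g hg => ?_)
      fun a _ b _ e => mul_right_cancel e
    have hg' : (g : G) * x ∈ M i := (Finset.mem_filter.1 hg).2
    refine Finset.mem_coe.2 (Finset.mem_filter.2 ⟨Finset.mem_univ _, ?_⟩)
    have := (M i).mul_mem hg' ((M i).inv_mem hg0')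
    rw [Subgroup.mem_subgroupOf]
    simpa [mul_assoc] using this
  have h2 : Fintype.card B ≤ ∑ i ∈ s, (T i).card := by
    refine le_trans (Finset.card_le_card fun g hg => ?_) Finset.card_biUnion_le
    obtain ⟨i, hi, hg'⟩ := hc g g.2
    exact Finset.mem_biUnion.2 ⟨i, hi, Finset.mem_filter.2 ⟨Finset.mem_univ _, hg'⟩⟩
  have h4 := Finset.sum_le_sum h1
  rw [← Finset.mul_sum, Finset.sum_const, smul_eq_mul] at h4
  have h5 := Nat.mul_le_mul_left r h2
  have h6 : 0 < Fintype.card B := Fintype.card_pos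
  have h7 := Nat.mul_lt_mul_of_pos_right hs h6
  omega

end Cfsg.Agent.E2Q
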