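import Mathlib
import Cfsg.Agent.E2Q.Def
import Cfsg.Agent.E2Q.Cov
import Cfsg.Agent.E2Q.Bas

set_option autoImplicit false

namespace Cfsg.Agent.E2Q

open MulAction

variable {G : Type*} [Group G] {Ω : Type*} [MulAction G Ω]

theorem a0_succ (u x : G) (n : ℕ) :
    (u * x) ^ (n + 1) * (x ^ (n + 1))⁻¹ = (u * x) ^ n * (x ^ n)⁻¹ * (x ^ n * u * (x ^ n)⁻¹) := by
  rw [pow_succ (u * x), pow_succ x]
  group

theorem a0_mem {B : Subgroup G} {x : G} (hn : ∀ n : ℕ, ∀ u ∈ B, x ^ n * u * (x ^ n)⁻¹ ∈ B)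
    {u : G} (hu : u ∈ B) (n : ℕ) : (u * x) ^ n * (x ^ n)⁻¹ ∈ B := by
  induction n with
  | zero => simp
  | succ n ih => rw [a0_succ]; exact B.mul_mem ih (hn n u hu)

theorem a0_mul {B : Subgroup G} {x : G} (hn : ∀ n : ℕ, ∀ u ∈ B, x ^ n * u * (x ^ n)⁻¹ ∈ B)
    (comm : ∀ u ∈ B, ∀ v ∈ B, u * v = v * u) {u v : G} (hu : u ∈ B) (hv : v ∈ B) (n : ℕ) :
    (u * v * x) ^ n * (x ^ n)⁻¹ = (u * x) ^ n * (x ^ n)⁻¹ * ((v * x) ^ n * (x ^ n)⁻¹) := by
  induction n with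
  | zero => simp
  | succ n ih =>
    rw [a0_succ, a0_succ, a0_succ, ih]
    have e := comm _ (a0_mem hn hv n) _ (hn n u hu)
    have e2 : x ^ n * (u * v) * (x ^ n)⁻¹ = (x ^ n * u * (x ^ n)⁻¹) * (x ^ n * v * (x ^ n)⁻¹) := by
      group
    rw [e2]
    generalize (u * x) ^ n * (x ^ n)⁻¹ = a at *
    generalize (v * x) ^ n * (x ^ n)⁻¹ = c at *
    generalize x ^ n * u * (x ^ n)⁻¹ = d at *
    generalize x ^ n * v * (x ^ n)⁻¹ = f at *
    calc a * c * (d * f) = a * (c * d) * f := by simp only [mul_assoc]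
      _ = a * (d * c) * f := by rw [e]
      _ = a * d * (c * f) := by simp only [mul_assoc]

theorem a0_fin {p : ℕ} (hp : p.Prime) (h2 : p ≠ 2) (R : ℕ → ℕ → Prop)
    (h1 : ∀ i, i < p → ∃ j, j < p ∧ R j i)
    (hinj : ∀ j i i', i < p → i' < p → R j i → R j i' → i = i') :
    ∃ I : ℕ → ℕ, (∀ j, j < p → R j (I j)) ∧ p ∣ ∑ j ∈ Finset.range p, I j := by
  classical
  choose J hJ using fun i : Fin p => h1 i i.2
  let J' : Fin p → Fin p := fun i => ⟨J i, (hJ i).1⟩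
  have hi : Function.Injective J' := by
    intro i i' e
    have e' : J i = J i' := congrArg Fin.val e
    exact Fin.ext (hinj (J i) i i' i.2 i'.2 (hJ i).2 (e' ▸ (hJ i').2))
  let e : Fin p ≃ Fin p := Equiv.ofBijective J' (Finite.injective_iff_bijective.1 hi)
  refine ⟨fun j => if h : j < p then (e.symm ⟨j, h⟩ : ℕ) else 0, fun j hj => ?_, ?_⟩
  · simp only [dif_pos hj]
    have h3 : J (e.symm ⟨j, hj⟩) = j := congrArg Fin.val (e.apply_symm_apply ⟨j, hj⟩)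
    have h4 := (hJ (e.symm ⟨j, hj⟩)).2
    rwa [h3] at h4
  · rw [← Fin.sum_univ_eq_sum_range (fun j => if h : j < p then (e.symm ⟨j, h⟩ : ℕ) else 0) p]
    have h3 : ∑ j : Fin p, (if h : (j : ℕ) < p then (e.symm ⟨j, h⟩ : ℕ) else 0) =
        ∑ j : Fin p, (e.symm j : ℕ) := Finset.sum_congr rfl fun j _ => by simp
    rw [h3, Equiv.sum_comp e.symm (fun i : Fin p => (i : ℕ)),
      Fin.sum_univ_eq_sum_range (fun i => i) p]
    have h4 := Finset.sum_range_id_mul_two p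
    have h5 : p ∣ (∑ i ∈ Finset.range p, i) * 2 := h4 ▸ Dvd.intro _ rfl
    rcases (Nat.Prime.dvd_mul hp).1 h5 with h | h
    · exact h
    · exact absurd ((Nat.prime_dvd_prime_iff_eq hp Nat.prime_two).1 h) h2

/-- Case II A with an element of order `p` outside `B`. Notation `Δ = orbit P b`, `M_a = P ⊓ G_a`
(`a ∉ Δ`, index `p` in `P`), `K = P ⊓ G_b ≤ B`.

Proof. `B` is elementary abelian (`elab_of_ol`), normal in `P` (`idx_prime`), contains `P_c` for all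
`c ∈ Δ` (conjugates of `K`), so elements of `P` outside `B` fix no point of `Δ`. `B ⊓ M_a` has index
`p` in `B` (`hol`). Put `N u = (u * x) ^ p` for `u ∈ B`.
(i) `(u * x) ^ n * (x ^ n)⁻¹ = ∏_{t<n} x^t u x^{-t} ∈ B`; by induction on `n` the map
`u ↦ (u * x) ^ n * (x ^ n)⁻¹` is multiplicative on `B` (step: multiply by `x^n u x^{-n}`); so `N` is a
homomorphism `B → B`. `N u ∈ M_a` for all `a ∉ Δ` (`p`-th power), `N u` commutes with `u * x` and
with `B`, so is central in `P`; a central element fixing `Δᶜ` and one point of `Δ` is trivial. So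
the image of `N` meets `K` trivially, has order `≤ |B : K| = p`: `B₁ = ker N` has index `≤ p` in `B`.
(ii) for `u ∈ B₁`, `u * x ∉ B` has order `p`, so lies in some `M_a`, `a ∈ s` (`few`). `cov_coset`
(`(M_a).relIndex B₁` is a power of `p`) gives `i` with `B₁ ≤ M_i`, `x ∈ M_i`; so `B₁ = B ⊓ M_i` (index),
`B₁ ≠ B`. `M_i` has exponent `p`: for `m ∈ M_i` outside `B`, `x = m ^ j * u` with `u ∈ B`
(`idx_prime`), `p ∤ j`, `u ∈ B ⊓ M_i = B₁`, `m ^ j = x * u⁻¹ = (x u⁻¹ x⁻¹) * x` with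
`x u⁻¹ x⁻¹ ∈ B ⊓ M_i = B₁`, so `(m ^ j) ^ p = 1`, so `m ^ p = 1` (`m` is a `p`-element). By `conj` every
`M_a` has exponent `p`. `M_a ≠ B`, so some `v * x ∈ M_a` with `v ∈ B`; for `w ∈ B ⊓ M_a` both
`w * v * x` and `v * x` have `p`-th power `1`, so `N w = 1`: `B ⊓ M_a ≤ B₁`.
(iii) take `u ∈ B`, `z = N u ≠ 1`; `z ∈ B₁` (`z ∈ B ⊓ M_i`), central, of order `p`, fixing no point of
`Δ`. For `i < p`, `u * z ^ i ∉ B₁` has order `p` and fixes no point outside `Δ`, so fixes a point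
of `Δ`, so lies in `K_j = x^{-j} K x^j` for some `j = j(i) < p` (the stabilisers in `B` of the points
of `Δ` are the `K_j`: `P = ⋃ x^{-j} B`, `B` abelian). `i ↦ j(i)` is injective (else
`z^{i-i'} ∈ K_j`), so bijective on `Fin p`, with inverse `j ↦ i(j)`: `x^j u x^{-j} z^{i(j)} ∈ K`. By
induction `(u * x)^n (x^n)⁻¹ z^{∑_{j<n} i(j)} ∈ K`; for `n = p`, `∑ i(j) = p (p-1)/2 ≡ 0 (mod p)`,
so `z ∈ K`: contradiction. -/
theorem lemA0 [Finite G] [Finite Ω] {p q : ℕ} (su : Su G Ω p q) {P B : Subgroup G} {b : Ω}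
    (h : C2 p P b) (hle : B ≤ P) (hi : B.relIndex P = p) (hK : P ⊓ stabilizer G b ≤ B)
    (hol : ∀ ω : Ω, ol B ω = p) {x : G} (hx : x ∈ P) (hxB : x ∉ B) (hxp : x ^ p = 1) : False := by
  classical
  have hp := su.pp
  have := Fact.mk hp
  have hp2 : p ≠ 2 := by have := su.q2; have := su.qlt; omega
  have hP : IsPGroup p P := h.syl.pg
  have hB : IsPGroup p B := hP.to_le hle
  obtain ⟨comm, expo⟩ := elab_of_ol hp su.faith hB fun ω => (hol ω).le
  obtain ⟨n1, n2, -, -, n5⟩ := idx_prime hp hP hi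
  have hn : ∀ n : ℕ, ∀ u ∈ B, x ^ n * u * (x ^ n)⁻¹ ∈ B := fun n u hu =>
    n1 _ (P.pow_mem hx n) u (hle hu) hu
  have notle : ∀ ω : Ω, ¬ B ≤ stabilizer G ω := by
    intro ω hh
    have h1 : ol B ω = 1 := Subgroup.relIndex_eq_one.2 hh
    rw [hol ω] at h1
    exact hp.one_lt.ne' h1
  -- stabilisers of points of `Δ`
  have stabD : ∀ c ∈ orbit P b, ∀ y ∈ P, y • c = c → y ∈ B := by
    intro c hc y hy hyc
    obtain ⟨g, hg, rfl⟩ := mem_orbit_sub.1 hc
    have h1 : g⁻¹ * y * g ∈ P := P.mul_mem (P.mul_mem (P.inv_mem hg) hy) hg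
    have h2 : g⁻¹ * y * g ∈ B := hK (Subgroup.mem_inf.2 ⟨h1, by
      rw [mem_stabilizer_iff, mul_smul, mul_smul, hyc, inv_smul_smul]⟩)
    have h3 := n1 g hg _ h1 h2
    simpa [mul_assoc] using h3
  have uxB : ∀ u ∈ B, u * x ∉ B := fun u hu hh => hxB ((B.mul_mem_cancel_left hu).1 hh)
  have uxP : ∀ u ∈ B, u * x ∈ P := fun u hu => P.mul_mem (hle hu) hx
  -- the norm map
  have Nmem : ∀ u ∈ B, (u * x) ^ p ∈ B := fun u hu => n2 _ (uxP u hu)
  have Nmul : ∀ u ∈ B, ∀ v ∈ B, (u * v * x) ^ p = (u * x) ^ p * (v * x) ^ p := by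
    intro u hu v hv
    have := a0_mul hn comm hu hv p
    simpa [hxp] using this
  have Npow : ∀ u ∈ B, ∀ j : ℕ, (u ^ j * x) ^ p = ((u * x) ^ p) ^ j := by
    intro u hu j
    induction j with
    | zero => simpa using hxp
    | succ j ih => rw [pow_succ u, Nmul _ (B.pow_mem hu j) u hu, ih, pow_succ]
  have Ncen : ∀ u ∈ B, ∀ g ∈ P, Commute ((u * x) ^ p) g := by
    intro u hu g hg
    obtain ⟨i, v, -, hv, rfl⟩ := n5 _ (uxP u hu) (uxB u hu) g hg
    exact ((Commute.refl (u * x)).pow_pow p i).mul_right (comm _ (Nmem u hu) v hv)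
  have NG : ∀ u ∈ B, ∀ a, a ∉ orbit P b → (u * x) ^ p ∈ stabilizer G a := fun u hu a ha =>
    (idx_prime hp hP (h.olo a ha)).2.1 _ (uxP u hu)
  have Ntriv : ∀ u ∈ B, (u * x) ^ p ∈ stabilizer G b → (u * x) ^ p = 1 := by
    intro u hu hb
    refine su.faith _ fun ω => ?_
    by_cases hω : ω ∈ orbit P b
    · obtain ⟨g, hg, rfl⟩ := mem_orbit_sub.1 hω
      rw [← mul_smul, (Ncen u hu g hg).eq, mul_smul, mem_stabilizer_iff.1 hb]
    · exact NG u hu ω hω
  have key : ∀ u ∈ B, (u * x) ^ p ≠ 1 → ∀ w ∈ B, ∃ j : ℕ, (w * (u ^ j)⁻¹ * x) ^ p = 1 := by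
    intro u hu hz w hw
    obtain ⟨j, k, hk, hkb, e⟩ := (idx_prime hp hB (hol b)).2.2.2.2 _ (Nmem u hu)
      (fun hh => hz (Ntriv u hu hh)) _ (Nmem w hw)
    have hw' : w * (u ^ j)⁻¹ ∈ B := B.mul_mem hw (B.inv_mem (B.pow_mem hu j))
    refine ⟨j, Ntriv _ hw' ?_⟩
    have e1 := Nmul _ hw' _ (B.pow_mem hu j)
    rw [inv_mul_cancel_right, Npow u hu, e, comm _ (B.pow_mem (Nmem u hu) j) k hk] at e1
    rw [← mul_right_cancel e1]
    exact hkb
  let B₁ : Subgroup G :=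
    { carrier := {u | u ∈ B ∧ (u * x) ^ p = 1}
      one_mem' := ⟨B.one_mem, by simpa using hxp⟩
      mul_mem' := fun {u v} hu hv => ⟨B.mul_mem hu.1 hv.1, by
        rw [Nmul u hu.1 v hv.1, hu.2, hv.2, one_mul]⟩
      inv_mem' := fun {u} hu => ⟨B.inv_mem hu.1, by
        have e := Nmul u hu.1 _ (B.inv_mem hu.1)
        rw [mul_inv_cancel, one_mul, hxp, hu.2, one_mul] at e
        exact e.symm⟩ }
  have hB₁ : IsPGroup p B₁ := hB.to_le fun u hu => hu.1
  have fixp : ∀ y : G, y ≠ 1 → y ^ p = 1 → ∃ ω : Ω, y • ω = ω := fun y hy hy' =>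
    su.el y (by rw [orderOf_eq_prime hy' hy]; exact hp)
  obtain ⟨s, hs, hs1, hs2⟩ := h.few
  obtain ⟨i, his, hi1, hi2⟩ := cov_coset B₁ x (r := p) s (fun a => stabilizer G a) (by omega)
    (fun a _ => by
      obtain ⟨k, hk⟩ := ol_pow hp hB₁ a
      rcases k with _ | k
      · exact Or.inl (Subgroup.relIndex_eq_one.1 (by simpa using hk))
      · refine Or.inr ?_
        have hk' : (stabilizer G a).relIndex B₁ = p ^ (k + 1) := hk
        rw [hk']
        exact Nat.le_self_pow (by omega) p)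
    (fun u hu => by
      obtain ⟨ω, hω⟩ := fixp (u * x) (fun e => uxB u hu.1 (e ▸ B.one_mem)) hu.2
      have hωD : ω ∉ orbit P b := fun hh => uxB u hu.1 (stabD ω hh _ (uxP u hu.1) hω)
      obtain ⟨c, hc, e⟩ := hs2 ω hωD
      have h1 : u * x ∈ P ⊓ stabilizer G ω := ⟨uxP u hu.1, hω⟩
      rw [e] at h1
      exact ⟨c, hc, h1.2⟩)
  have hiD := hs1 i his
  have eqi : ∀ w ∈ B, w ∈ stabilizer G i → (w * x) ^ p = 1 := by
    intro w hw hwi
    by_contra hz
    refine notle i fun w' hw' => ?_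
    obtain ⟨j, hj⟩ := key w hw hz w' hw'
    have h1 : w' * (w ^ j)⁻¹ ∈ stabilizer G i :=
      hi1 ⟨B.mul_mem hw' (B.inv_mem (B.pow_mem hw j)), hj⟩
    simpa using (stabilizer G i).mul_mem h1 ((stabilizer G i).pow_mem hwi j)
  have form : ∀ m ∈ P, m ∉ B → ∃ j : ℕ, ∃ v ∈ B, ¬ p ∣ j ∧ m ^ j = v * x := by
    intro m hm hmB
    obtain ⟨j, u, hu, huB, e⟩ := n5 m hm hmB x hx
    refine ⟨j, x * u⁻¹ * x⁻¹, n1 x hx _ (P.inv_mem hu) (B.inv_mem huB), ?_, ?_⟩
    · rintro ⟨k, rfl⟩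
      refine hxB ?_
      rw [e, pow_mul]
      exact B.mul_mem (B.pow_mem (n2 m hm) k) huB
    · rw [inv_mul_cancel_right, eq_mul_inv_iff_mul_eq]
      exact e.symm
  have expi : ∀ m ∈ P ⊓ stabilizer G i, m ^ p = 1 := by
    intro m hm
    by_cases hmB : m ∈ B
    · exact expo m hmB
    obtain ⟨j, v, hv, hj, e⟩ := form m hm.1 hmB
    have h1 : v ∈ stabilizer G i :=
      ((stabilizer G i).mul_mem_cancel_right hi2).1 (e ▸ (stabilizer G i).pow_mem hm.2 j)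
    have h2 : (m ^ p) ^ j = 1 := by rw [← pow_mul, mul_comm, pow_mul, e]; exact eqi v hv h1
    have h3 := pow_gcd_eq_one.2 ⟨expo _ (n2 m hm.1), h2⟩
    rwa [((Nat.Prime.coprime_iff_not_dvd hp).2 hj).gcd_eq_one, pow_one] at h3
  have expa : ∀ a, a ∉ orbit P b → ∀ m ∈ P ⊓ stabilizer G a, m ^ p = 1 := by
    intro a ha m hm
    obtain ⟨g, hg⟩ := h.conj a i ha hiD
    have h1 := expi _ ((hg m).1 hm)
    rw [conj_pow] at h1
    simpa using h1
  have eqa : ∀ a, a ∉ orbit P b → ∀ w ∈ B, w ∈ stabilizer G a → (w * x) ^ p = 1 := by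
    intro a ha w hw hwa
    obtain ⟨m, hm, hmB⟩ : ∃ m ∈ P ⊓ stabilizer G a, m ∉ B := by
      by_contra hc
      push Not at hc
      rcases (idx_prime hp hP (h.olo a ha)).2.2.2.1 B hc hle with e | e
      · exact notle a (e ▸ inf_le_right)
      · exact hxB (e ▸ hx)
    obtain ⟨j, v, hv, -, e⟩ := form m hm.1 hmB
    have h1 : v * x ∈ P ⊓ stabilizer G a := e ▸ (P ⊓ stabilizer G a).pow_mem hm j
    have h2 : w * v * x ∈ P ⊓ stabilizer G a := by
      rw [mul_assoc]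
      exact (P ⊓ stabilizer G a).mul_mem ⟨hle hw, hwa⟩ h1
    have h3 := Nmul w hw v hv
    rw [expa a ha _ h1, expa a ha _ h2, mul_one] at h3
    exact h3.symm
  obtain ⟨u, hu, hz⟩ : ∃ u ∈ B, (u * x) ^ p ≠ 1 := by
    by_contra hc
    push Not at hc
    exact notle i fun u hu => hi1 ⟨hu, hc u hu⟩
  obtain ⟨z, hzd⟩ : ∃ z, z = (u * x) ^ p := ⟨_, rfl⟩
  have hzB : z ∈ B := hzd ▸ Nmem u hu
  have hz1 : (z * x) ^ p = 1 := eqi z hzB (hzd ▸ NG u hu i hiD)
  have hzc : ∀ g ∈ P, Commute z g := fun g hg => hzd ▸ Ncen u hu g hg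
  have hzo : orderOf z = p := orderOf_eq_prime (expo z hzB) (hzd ▸ hz)
  have hzk : ∀ k : ℕ, z ^ k ∈ stabilizer G b → p ∣ k := by
    intro k hk
    rw [← hzo, orderOf_dvd_iff_pow_eq_one, hzd, ← Npow u hu]
    refine Ntriv _ (B.pow_mem hu k) ?_
    rw [Npow u hu, ← hzd]
    exact hk
  obtain ⟨I, hI, hS⟩ := a0_fin hp hp2
    (fun j k => x ^ j * u * (x ^ j)⁻¹ * z ^ k ∈ stabilizer G b)
    (fun k _ => by
      have hy : u * z ^ k ∈ B := B.mul_mem hu (B.pow_mem hzB k)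
      have hN : (u * z ^ k * x) ^ p ≠ 1 := by
        rw [Nmul u hu _ (B.pow_mem hzB k), Npow z hzB, hz1, one_pow, mul_one]
        exact hz
      obtain ⟨ω, hω⟩ := fixp (u * z ^ k) (fun e => hN (by rw [e, one_mul, hxp])) (expo _ hy)
      have hωD : ω ∈ orbit P b := by
        by_contra hh
        exact hN (eqa ω hh _ hy hω)
      obtain ⟨g, hg, rfl⟩ := mem_orbit_sub.1 hωD
      obtain ⟨j, v, -, hv, rfl⟩ := n5 x⁻¹ (P.inv_mem hx) (fun hh => hxB (by simpa using hh)) g hg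
      refine ⟨j % p, Nat.mod_lt _ hp.pos, ?_⟩
      have e1 : x ^ (j % p) = x ^ j := (pow_eq_pow_mod j hxp).symm
      have e2 : x ^ j * u * (x ^ j)⁻¹ * z ^ k = x ^ j * (u * z ^ k) * (x ^ j)⁻¹ := by
        have := ((hzc _ (P.inv_mem (P.pow_mem hx j))).pow_left k).eq
        rw [mul_assoc, ← this]
        simp only [mul_assoc]
      show x ^ (j % p) * u * (x ^ (j % p))⁻¹ * z ^ k ∈ stabilizer G b
      rw [e1, e2, mem_stabilizer_iff]
      have e3 := comm _ (hn j _ hy) v hv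
      have e4 : (x ^ j * (u * z ^ k) * (x ^ j)⁻¹ * v) • b = v • b := by
        rw [inv_pow] at hω
        have e5 : x ^ j * (u * z ^ k) * (x ^ j)⁻¹ * v = x ^ j * ((u * z ^ k) * ((x ^ j)⁻¹ * v)) := by
          simp only [mul_assoc]
        rw [e5, mul_smul, mul_smul, hω, mul_smul, smul_inv_smul]
      rw [e3, mul_smul] at e4
      exact smul_left_cancel v e4)
    (fun j k k' hk hk' h1 h2 => by
      have aux : ∀ k k' : ℕ, k ≤ k' → k' < p →
          x ^ j * u * (x ^ j)⁻¹ * z ^ k ∈ stabilizer G b →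
          x ^ j * u * (x ^ j)⁻¹ * z ^ k' ∈ stabilizer G b → k = k' := by
        intro k k' hle' hlt h1 h2
        obtain ⟨d, rfl⟩ := Nat.exists_eq_add_of_le hle'
        rw [pow_add, ← mul_assoc] at h2
        have h3 := hzk d (((stabilizer G b).mul_mem_cancel_left h1).1 h2)
        have := Nat.eq_zero_of_dvd_of_lt h3 (by omega)
        omega
      rcases le_total k k' with hh | hh
      · exact aux k k' hh hk' h1 h2
      · exact (aux k' k hh hk h2 h1).symm)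
  have ind : ∀ n, n ≤ p →
      (u * x) ^ n * (x ^ n)⁻¹ * z ^ (∑ j ∈ Finset.range n, I j) ∈ stabilizer G b := by
    intro n
    induction n with
    | zero => intro _; simp
    | succ n ih =>
      intro hn'
      have h1 := (stabilizer G b).mul_mem (ih (by omega)) (hI n (by omega))
      have e := comm _ (hn n u hu) _ (B.pow_mem hzB (∑ j ∈ Finset.range n, I j))
      rw [a0_succ, Finset.sum_range_succ, pow_add]
      generalize (u * x) ^ n * (x ^ n)⁻¹ = a at *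
      generalize x ^ n * u * (x ^ n)⁻¹ = d at *
      generalize z ^ (∑ j ∈ Finset.range n, I j) = c at *
      have e' : a * d * (c * z ^ I n) = a * c * (d * z ^ I n) := by
        rw [mul_assoc, ← mul_assoc d, e]
        simp only [mul_assoc]
      rw [e']
      exact h1
  have h1 := ind p le_rfl
  rw [hxp, inv_one, mul_one, ← hzd, ← pow_succ'] at h1
  have h2 := (Nat.dvd_add_right hS).1 (hzk _ h1)
  exact hp.one_lt.ne' (Nat.dvd_one.1 h2)

end Cfsg.Agent.E2Q
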