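import Mathlib
import Cfsg.Agent.E2Q.Def
import Cfsg.Agent.E2Q.Bas

set_option autoImplicit false

namespace Cfsg.Agent.E2Q

open MulAction

variable {G : Type*} [Group G] {Ω : Type*} [MulAction G Ω]

/-- Case II B with `K = B ⊓ G_b ≠ ⊥`: a second conjugate `B'` of `B` containing `K`.
`Δ = orbit P b`, `Γ = Δᶜ`, `β₀ = orbit B b`.

Proof. `K` fixes `β₀` (`B` abelian) and `Γ`. For `c = z • b ∈ Δ \ β₀` (`z ∈ P`, `z ∉ B`) `K` moves `c`:
else `K ≤ B_c = z K z⁻¹`, equal by cardinality, so `z` and `B` normalise `K`, so `P` does (`gen`), `K`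
fixes `Δ` pointwise, `K = ⊥`. So `Fix K = F = β₀ ∪ Γ` and `K` is transitive on `orbit B c` for such `c`
(`idx_prime` for `stabilizer c` in `B`, index `p`). Take `a ∈ Γ`, `g • b = a`; `g K g⁻¹` is a
`p`-subgroup of `G_a`, so (`sylB`, `Syl.conj_into`) some `k ∈ G_a` has `k g K (k g)⁻¹ ≤ B`; put
`g' = (k g)⁻¹`, `B' = g' B g'⁻¹ ⊇ K`; `g' • a = b`. `B'` is abelian of exponent `p`, fixes exactly
`g' • Γ ∋ b`, its other orbits have length `p` (`olB`). `B'` centralises `K`, so preserves `F`;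
`g' • Γ ⊆ F`, `|F| = |Γ| + p`; so `β' = F \ g' • Γ` has `p` points, is `B'`-invariant, so is one
`B'`-orbit. For `c ∈ Δ \ β₀`, `v ∈ B'`: `v` permutes the `K`-orbits in `Δ \ β₀ = Fᶜ` (`p² - p` points,
orbits of length `p`); the sets `v^i • orbit K c`, `i < p`, are all equal or pairwise disjoint, and
`p` disjoint ones do not fit; so `v • c = k • c` with `k ∈ K`, and for `e = k' • c` (`k' ∈ K`)
`v • e = k' • v • c = k • e`. -/
theorem b2a1 [Finite G] [Finite Ω] {p q : ℕ} (su : Su G Ω p q) {P B : Subgroup G} {b : Ω}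
    (h : CB p q P B b) (hK : B ⊓ stabilizer G b ≠ ⊥) :
    ∃ (B' : Subgroup G) (β' : Set Ω), (∀ v ∈ B', v ^ p = 1) ∧
      (∀ v ∈ B', ∀ w ∈ B', v * w = w * v) ∧ β'.ncard = p ∧
      β' ⊆ orbit B b ∪ (orbit P b)ᶜ ∧ b ∉ β' ∧ (∀ v ∈ B', ∀ e ∈ β', v • e ∈ β') ∧
      (∀ e ∈ β', ∀ e' ∈ β', ∃ v ∈ B', v • e = e') ∧
      (∀ v ∈ B', ∀ e ∈ orbit B b ∪ (orbit P b)ᶜ, e ∉ β' → v • e = e) ∧
      (∀ c ∈ orbit P b, c ∉ orbit B b → ∀ v ∈ B', ∃ u ∈ B, ∀ e ∈ orbit B c, v • e = u • e) := by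
  have pp := su.pp
  have hB : IsPGroup p B := h.syl.pg.to_le h.le
  set K := B ⊓ stabilizer G b with hKdef
  have nrm : ∀ x ∈ P, ∀ u ∈ B, x * u * x⁻¹ ∈ B := fun x hx u hu =>
    (Subgroup.mem_normalizer_iff.1 (h.norm hx) u).1 hu
  have orbP : ∀ x ∈ P, ∀ e ∈ orbit P b, x • e ∈ orbit P b := by
    intro x hx e he
    obtain ⟨y, hy, rfl⟩ := mem_orbit_sub.1 he
    exact mem_orbit_sub.2 ⟨x * y, mul_mem hx hy, mul_smul _ _ _⟩
  have fixF : ∀ k ∈ K, ∀ e ∈ orbit B b ∪ (orbit P b)ᶜ, k • e = e := by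
    rintro k hk e (he | he)
    · obtain ⟨u, hu, rfl⟩ := mem_orbit_sub.1 he
      rw [← mul_smul, h.comm k hk.1 u hu, mul_smul, show k • b = b from hk.2]
    · exact (h.mem_fix e).1 he k hk.1
  have moves : ∀ c ∈ orbit P b, c ∉ orbit B b → ∃ k ∈ K, k • c ≠ c := by
    intro c hc hc'
    by_contra hn
    push Not at hn
    obtain ⟨z, hz, rfl⟩ := mem_orbit_sub.1 hc
    have hzB : z⁻¹ ∉ B := fun e => hc' (mem_orbit_sub.2 ⟨z, by simpa using inv_mem e, rfl⟩)
    have c1 : ∀ k ∈ K, z⁻¹ * k * z⁻¹⁻¹ ∈ K := fun k hk => ⟨nrm _ (inv_mem hz) k hk.1, by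
      show (z⁻¹ * k * z⁻¹⁻¹) • b = b
      rw [inv_inv, mul_smul, mul_smul, hn k hk, inv_smul_smul]⟩
    have c2 : ∀ i : ℕ, ∀ k ∈ K, z⁻¹ ^ i * k * (z⁻¹ ^ i)⁻¹ ∈ K := by
      intro i
      induction i with
      | zero => intro k hk; simpa using hk
      | succ i ih =>
        intro k hk
        have := c1 _ (ih k hk)
        convert this using 1
        rw [pow_succ']; group
    apply hK
    rw [eq_bot_iff]
    intro k hk
    refine su.faith k fun ω => ?_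
    by_cases hω : ω ∈ orbit P b
    · obtain ⟨y, hy, rfl⟩ := mem_orbit_sub.1 hω
      obtain ⟨i, u, hu, e⟩ := h.gen _ (inv_mem hz) hzB y⁻¹ (inv_mem hy)
      have h1 : y⁻¹ * k * y⁻¹⁻¹ ∈ K := by
        have := c2 i k hk
        convert this using 1
        rw [e, mul_assoc _ u k, h.comm u hu k hk.1]; group
      have h2 : (y⁻¹ * k * y⁻¹⁻¹) • b = b := h1.2
      rw [inv_inv, mul_smul, mul_smul, inv_smul_eq_iff] at h2
      exact h2
    · exact (h.mem_fix ω).1 hω k hk.1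
  have memF : ∀ e, (∀ k ∈ K, k • e = e) → e ∈ orbit B b ∪ (orbit P b)ᶜ := by
    intro e he
    by_contra hn
    rw [Set.mem_union, not_or, Set.mem_compl_iff, not_not] at hn
    obtain ⟨k, hk, hk'⟩ := moves e hn.2 hn.1
    exact hk' (he k hk)
  have transK : ∀ c ∈ orbit P b, c ∉ orbit B b → ∀ u ∈ B, ∃ k ∈ K, k • c = u • c := by
    intro c hc hc' u hu
    obtain ⟨k, hk, hk'⟩ := moves c hc hc'
    obtain ⟨i, u', -, hu', rfl⟩ := (idx_prime pp hB (M := stabilizer G c) (h.olB c hc)).2.2.2.2 k hk.1 hk' u hu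
    exact ⟨k ^ i, pow_mem hk i, by rw [mul_smul, show u' • c = c from hu']⟩
  obtain ⟨a, ha⟩ := h.ne
  obtain ⟨g, hg⟩ := su.trans.exists_smul_eq b a
  obtain ⟨k0, hk0, hk0'⟩ := (h.sylB a ha).conj_into pp (R := K.map (MulAut.conj g).toMonoidHom)
    ((hB.to_le inf_le_left).map _) (by
      rintro _ ⟨x, hx, rfl⟩
      show (g * x * g⁻¹) • a = a
      rw [← hg, mul_smul, inv_smul_smul, mul_smul, show x • b = b from hx.2])
  set t := k0 * g with ht
  have htb : t • b = a := by rw [ht, mul_smul, hg]; exact hk0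
  let B' : Subgroup G := B.comap (MulAut.conj t).toMonoidHom
  have mB' : ∀ v, v ∈ B' ↔ t * v * t⁻¹ ∈ B := fun v => Iff.rfl
  have KB' : ∀ k ∈ K, k ∈ B' := by
    intro k hk
    have := hk0' _ ⟨k, hk, rfl⟩
    rw [mB']
    convert this using 1
    simp [ht, mul_assoc]
  have comm' : ∀ v ∈ B', ∀ w ∈ B', v * w = w * v := by
    intro v hv w hw
    have := h.comm _ hv _ hw
    simpa using this
  have tsm : ∀ (v : G) (e : Ω), t • v • e = (t * v * t⁻¹) • t • e := fun v e => by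
    rw [mul_smul (t * v), inv_smul_smul, mul_smul t v]
  have fix' : ∀ v ∈ B', ∀ e, t • e ∉ orbit P b → v • e = e := by
    intro v hv e he
    have := (h.mem_fix _).1 he _ ((mB' v).1 hv)
    rw [← tsm] at this
    exact smul_left_cancel t this
  have card' : ∀ e, t • e ∈ orbit P b → (orbit B' e).ncard = p := by
    intro e he
    rw [← h.olB _ he, ol_eq_ncard, ← Set.ncard_image_of_injective _ (MulAction.injective t)]
    congr 1
    ext x
    constructor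
    · rintro ⟨y, hy, rfl⟩
      obtain ⟨v, hv, rfl⟩ := mem_orbit_sub.1 hy
      exact mem_orbit_sub.2 ⟨_, hv, (tsm v e).symm⟩
    · intro hx
      obtain ⟨u, hu, rfl⟩ := mem_orbit_sub.1 hx
      refine ⟨(t⁻¹ * u * t) • e, mem_orbit_sub.2 ⟨_, by rw [mB']; simpa [mul_assoc] using hu, rfl⟩, ?_⟩
      simp [mul_smul]
  have hb0 : b ∈ orbit P b := mem_orbit_self b
  have sub0 : orbit B b ⊆ orbit P b := fun e he => by
    obtain ⟨u, hu, rfl⟩ := mem_orbit_sub.1 he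
    exact orbP u (h.le hu) b hb0
  have cF : (orbit B b ∪ (orbit P b)ᶜ).ncard = p + (orbit P b)ᶜ.ncard := by
    have hd : Disjoint (orbit B b) (orbit P b)ᶜ := Set.disjoint_left.2 fun e he he' => he' (sub0 he)
    rw [Set.ncard_union_eq hd, ← ol_eq_ncard, h.olB b hb0]
  have cG : ((fun e => t • e) ⁻¹' (orbit P b)ᶜ).ncard = (orbit P b)ᶜ.ncard :=
    Set.ncard_preimage_of_injective_subset_range (MulAction.injective t)
      fun e _ => MulAction.surjective t e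
  have subG : (fun e => t • e) ⁻¹' (orbit P b)ᶜ ⊆ orbit B b ∪ (orbit P b)ᶜ := fun e he =>
    memF e fun k hk => fix' k (KB' k hk) e he
  set β' := (orbit B b ∪ (orbit P b)ᶜ) \ ((fun e => t • e) ⁻¹' (orbit P b)ᶜ) with hβ
  have mβ : ∀ e, e ∈ β' ↔ e ∈ orbit B b ∪ (orbit P b)ᶜ ∧ t • e ∈ orbit P b := fun e => by
    simp only [hβ, Set.mem_sdiff, Set.mem_preimage, Set.mem_compl_iff, not_not]
  have cβ : β'.ncard = p := by
    rw [hβ, Set.ncard_sdiff subG, cF, cG]; omega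
  have invβ : ∀ v ∈ B', ∀ e ∈ β', v • e ∈ β' := by
    intro v hv e he
    rw [mβ] at he ⊢
    refine ⟨memF _ fun k hk => ?_, ?_⟩
    · rw [← mul_smul, comm' k (KB' k hk) v hv, mul_smul, fixF k hk e he.1]
    · rw [tsm]; exact orbP _ (h.le hv) _ he.2
  refine ⟨B', β', fun v hv => ?_, comm', cβ, Set.sdiff_subset, fun hb => ?_, invβ, ?_, ?_, ?_⟩
  · have := h.expo _ hv
    simpa using this
  · exact ha (htb ▸ ((mβ b).1 hb).2)
  · intro e he e' he'
    have : orbit B' e = β' := Set.eq_of_subset_of_ncard_le (fun x hx => by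
      obtain ⟨v, hv, rfl⟩ := mem_orbit_sub.1 hx
      exact invβ v hv e he) (by rw [cβ, card' e ((mβ e).1 he).2])
    exact mem_orbit_sub.1 (this ▸ he')
  · intro v hv e he he'
    exact fix' v hv e fun h1 => he' ((mβ e).2 ⟨he, h1⟩)
  · intro c hc hc' v hv
    have h1 : t • c ∈ orbit P b := by
      by_contra hn
      rcases subG hn with h2 | h2
      · exact hc' h2
      · exact h2 hc
    have : orbit B c = orbit B' c := Set.eq_of_subset_of_ncard_le (fun x hx => by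
      obtain ⟨u, hu, rfl⟩ := mem_orbit_sub.1 hx
      obtain ⟨k, hk, e⟩ := transK c hc hc' u hu
      exact mem_orbit_sub.2 ⟨k, KB' k hk, e⟩) (by rw [card' c h1, ← ol_eq_ncard, h.olB c hc])
    obtain ⟨u, hu, e⟩ := mem_orbit_sub.1 (this ▸ mem_orbit_sub.2 ⟨v, hv, rfl⟩ : v • c ∈ orbit B c)
    refine ⟨u, hu, fun x hx => ?_⟩
    obtain ⟨u', hu', rfl⟩ := mem_orbit_sub.1 hx
    obtain ⟨k, hk, e'⟩ := transK c hc hc' u' hu'
    rw [← e', ← mul_smul, ← comm' k (KB' k hk) v hv, mul_smul, ← e, ← mul_smul, h.comm k hk.1 u hu,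
      mul_smul]

end Cfsg.Agent.E2Q
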