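import Mathlib
import Cfsg.Agent.E2Q.Def
import Cfsg.Agent.E2Q.Bas
import Cfsg.Agent.E2Q.B2a1

set_option autoImplicit false

namespace Cfsg.Agent.E2Q

open MulAction

variable {G : Type*} [Group G] {Ω : Type*} [MulAction G Ω]

/-- The elements acting on an `H`-invariant set `S` as some element of `H`. -/
def b2aActs (H : Subgroup G) (S : Set Ω) (hS : ∀ u ∈ H, ∀ e ∈ S, u • e ∈ S) : Subgroup G where
  carrier := {y | ∃ u ∈ H, ∀ e ∈ S, y • e = u • e}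
  one_mem' := ⟨1, one_mem _, fun _ _ => rfl⟩
  mul_mem' := by
    rintro y z ⟨u, hu, e1⟩ ⟨v, hv, e2⟩
    refine ⟨u * v, mul_mem hu hv, fun e he => ?_⟩
    rw [mul_smul, mul_smul, e2 e he, e1 _ (hS v hv e he)]
  inv_mem' := by
    rintro y ⟨u, hu, e1⟩
    refine ⟨u⁻¹, inv_mem hu, fun e he => ?_⟩
    rw [inv_smul_eq_iff, e1 _ (hS _ (inv_mem hu) e he), smul_inv_smul]

theorem b2aActs_pow {H : Subgroup G} {S : Set Ω} {hS : ∀ u ∈ H, ∀ e ∈ S, u • e ∈ S} {p : ℕ}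
    (hp : ∀ u ∈ H, u ^ p = 1) {y : G} (hy : y ∈ b2aActs H S hS) {e : Ω} (he : e ∈ S) :
    y ^ p • e = e := by
  obtain ⟨u, hu, e1⟩ := hy
  have : ∀ n : ℕ, y ^ n • e = u ^ n • e := fun n => by
    induction n with
    | zero => simp
    | succ n ih => rw [pow_succ', pow_succ', mul_smul, mul_smul, ih, e1 _ (hS _ (pow_mem hu n) e he)]
  rw [this, hp u hu, one_smul]

theorem b2aActs_comm {H : Subgroup G} {S : Set Ω} {hS : ∀ u ∈ H, ∀ e ∈ S, u • e ∈ S}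
    (hc : ∀ u ∈ H, ∀ v ∈ H, u * v = v * u) {y z : G} (hy : y ∈ b2aActs H S hS)
    (hz : z ∈ b2aActs H S hS) {e : Ω} (he : e ∈ S) : (y⁻¹ * z * y * z⁻¹) • e = e := by
  obtain ⟨w, hw, e3⟩ := inv_mem hz
  obtain ⟨u, hu, e1⟩ := hy
  obtain ⟨v, hv, e2⟩ := hz
  have h1 : z⁻¹ • e ∈ S := by rw [e3 e he]; exact hS w hw e he
  rw [mul_smul, mul_smul, mul_smul, inv_smul_eq_iff, e1 _ h1, e2 _ (hS u hu _ h1), e1 e he,
    ← mul_smul v, hc v hv u hu, mul_smul, ← e2 _ h1, smul_inv_smul]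

/-- If `T` is normal in `Y` and moves `b`, and the `Y`-orbit of `b` has less than `2p` points, then
all elements of `Y` of order dividing `p` preserve the `T`-orbit of `b`. -/
theorem b2a_block [Finite Ω] {p : ℕ} (hp : p.Prime) {Y T : Subgroup G} (hTY : T ≤ Y)
    (hN : ∀ y ∈ Y, ∀ t ∈ T, y * t * y⁻¹ ∈ T) {Λ : Set Ω} {b : Ω} (hΛ : ∀ y ∈ Y, y • b ∈ Λ)
    (hc : Λ.ncard < 2 * p) {t₀ : G} (ht : t₀ ∈ T) (hb : t₀ • b ≠ b) :
    ∃ S : Subgroup G, (∀ u ∈ Y, u ^ p = 1 → u ∈ S) ∧ ∀ y ∈ S, ∃ t ∈ T, t • b = y • b := by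
  classical
  let S : Subgroup G :=
    { carrier := {y | y ∈ Y ∧ ∃ t ∈ T, t • b = y • b}
      one_mem' := ⟨one_mem _, 1, one_mem _, rfl⟩
      mul_mem' := by
        rintro y z ⟨hy, t, ht, e1⟩ ⟨hz, s, hs, e2⟩
        refine ⟨mul_mem hy hz, y * s * y⁻¹ * t, mul_mem (hN y hy s hs) ht, ?_⟩
        rw [mul_smul, e1, mul_smul, inv_smul_smul, mul_smul, e2, mul_smul]
      inv_mem' := by
        rintro y ⟨hy, t, ht, e1⟩
        refine ⟨inv_mem hy, y⁻¹ * t⁻¹ * y⁻¹⁻¹, hN _ (inv_mem hy) _ (inv_mem ht), ?_⟩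
        rw [inv_inv, mul_smul, ← e1, mul_smul, inv_smul_smul] }
  refine ⟨S, fun u hu hup => ?_, fun y hy => hy.2⟩
  by_contra hS
  have k1 : ∀ m : ℕ, m < p → u ^ m ∈ S → m = 0 := fun m hm hmS => by
    by_contra h0
    have hco : m.Coprime (orderOf u) :=
      Nat.Coprime.coprime_dvd_right (orderOf_dvd_of_pow_eq_one hup)
        ((Nat.coprime_of_lt_prime h0 hm hp).symm)
    obtain ⟨k, hk⟩ := exists_pow_eq_self_of_coprime hco
    exact hS (hk ▸ pow_mem hmS k)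
  have k2 : ∀ i j : ℕ, i ≤ j → j < p → ∀ s ∈ T, ∀ s' ∈ T, u ^ i • s • b = u ^ j • s' • b → i = j := by
    intro i j hij hj s hs s' hs' e
    obtain ⟨m, rfl⟩ := Nat.exists_eq_add_of_le hij
    rw [pow_add, mul_smul, smul_left_cancel_iff, ← mul_smul] at e
    have h1 : u ^ m * s' ∈ S := ⟨mul_mem (pow_mem hu m) (hTY hs'), s, hs, e⟩
    have h2 : s' ∈ S := ⟨hTY hs', s', hs', rfl⟩
    have := k1 m (by omega) (by simpa using mul_mem h1 (inv_mem h2))
    omega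
  let s : Bool → G := fun ε => if ε then t₀ else 1
  have hs : ∀ ε, s ε ∈ T := fun ε => by
    cases ε
    · exact one_mem _
    · exact ht
  let f : Fin p × Bool → Λ := fun x => ⟨u ^ (x.1 : ℕ) • s x.2 • b, by
    rw [← mul_smul]; exact hΛ _ (mul_mem (pow_mem hu _) (hTY (hs _)))⟩
  have hf : Function.Injective f := by
    rintro ⟨i, ε⟩ ⟨j, δ⟩ e
    have e' : u ^ (i : ℕ) • s ε • b = u ^ (j : ℕ) • s δ • b := congrArg Subtype.val e
    have hij : (i : ℕ) = j := by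
      rcases le_total (i : ℕ) j with h | h
      · exact k2 i j h j.2 _ (hs ε) _ (hs δ) e'
      · exact (k2 j i h i.2 _ (hs δ) _ (hs ε) e'.symm).symm
    rw [hij, smul_left_cancel_iff] at e'
    obtain rfl : i = j := Fin.ext hij
    cases ε <;> cases δ
    · rfl
    · exact absurd (by simpa [s] using e'.symm) hb
    · exact absurd (by simpa [s] using e') hb
    · rfl
  have := Nat.card_le_card_of_injective f hf
  rw [Nat.card_prod, Nat.card_eq_fintype_card, Fintype.card_fin, Nat.card_eq_fintype_card,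
    Fintype.card_bool, Nat.card_coe_set_eq] at this
  omega

/-- Case II B with `B ⊓ G_b ≠ ⊥`: a group supported and transitive on a set `Λ ⊇ β₀ = orbit B b`
with `p < |Λ| < 2p`.

Proof. Take `B', β'` from `b2a1`, `Y = B ⊔ B'`, `Λ = β₀ ∪ β'`, `T = ⁅Y, Y⁆` (normal in `Y`). For
`c ∈ Δ \ β₀` every `y ∈ Y` acts on `orbit B c` as some element of `B` (such `y` form a subgroup), so
commutators and `p`-th powers of `Y` fix `Δ \ β₀` pointwise. `Y` preserves `Λ` and fixes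
`(β₀ ∪ Γ) \ Λ` pointwise. So `T ≤ fixingSubgroup G Λᶜ`. If `β₀ ∩ β' = ∅`: `β' ⊆ Γ` is fixed by `B`,
`β₀` is fixed by `B'`; each `y ∈ Y` acts on `β₀` as an element of `B`, on `β'` as an element of `B'`;
so `y ^ p = 1` for all `y ∈ Y`; `Y` is a `p`-group, conjugate into `P` (`Syl.conj_into`), so into `B`
(`nexp`), so `|Y| ≤ |B|`, `Y = B`, `B' ≤ B` fixes `β'`, though transitive on its `p ≥ 2` points.
So `β₀ ∩ β' ≠ ∅`: `Y` is transitive on `Λ`, `p < |Λ| < 2p` (`b ∉ β'`). The `T`-orbits in `Λ` have one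
length `d`. If `d = 1`, `T` fixes `Λ`; take `v ∈ B'` moving `e ∈ β'`, `e = y • b`; `v • b = b`, so
`v • e = y • v • b = e` (the commutator acts trivially on `Λ`): contradiction. If `d ≥ 2`: for a
`T`-orbit `O ⊆ Λ` and `u ∈ B ∪ B'` (`u ^ p = 1`) the sets `u^i • O`, `i < p`, are all equal or
pairwise disjoint, and `2p > |Λ|`; so `Y` preserves `O`, `O = Λ`. -/
theorem b2a [Finite G] [Finite Ω] {p q : ℕ} (su : Su G Ω p q) {P B : Subgroup G} {b : Ω}
    (h : CB p q P B b) (hK : B ⊓ stabilizer G b ≠ ⊥) :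
    ∃ Λ : Set Ω, orbit B b ⊆ Λ ∧ Λ ⊆ orbit B b ∪ (orbit P b)ᶜ ∧ p < Λ.ncard ∧ Λ.ncard < 2 * p ∧
      ∀ a ∈ Λ, ∀ c ∈ Λ, ∃ t ∈ fixingSubgroup G Λᶜ, t • a = c := by
  classical
  obtain ⟨B', β', hexp, hcomm, hcard, hsub, hb, hinv, htr, hfix, hact⟩ := b2a1 su h hK
  have hp := su.pp
  have hBo : ∀ c : Ω, ∀ u ∈ B, ∀ e ∈ orbit B c, u • e ∈ orbit B c := fun c u hu e he => by
    obtain ⟨w, hw, rfl⟩ := mem_orbit_sub.1 he
    exact mem_orbit_sub.2 ⟨u * w, mul_mem hu hw, mul_smul _ _ _⟩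
  have hbb : b ∈ orbit B b := mem_orbit_self b
  have hβ : (orbit B b).ncard = p := by
    rw [← ol_eq_ncard]; exact h.olB b (mem_orbit_self b)
  -- `Y` acts on the orbits of `B` in `Δ \ β₀` as `B`
  have hY1 : ∀ c ∈ orbit P b, c ∉ orbit B b → B ⊔ B' ≤ b2aActs B (orbit B c) (hBo c) :=
    fun c hc hc' => sup_le (fun u hu => ⟨u, hu, fun _ _ => rfl⟩) fun v hv => hact c hc hc' v hv
  -- `Y` fixes `Γ \ β'`
  have hY2 : B ⊔ B' ≤ fixingSubgroup G ((orbit P b)ᶜ \ β') := by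
    refine sup_le (fun u hu => ?_) fun v hv => ?_
    · exact (mem_fixingSubgroup_iff G).2 fun e he => (h.mem_fix e).1 he.1 u hu
    · exact (mem_fixingSubgroup_iff G).2 fun e he => hfix v hv e (Or.inr he.1) he.2
  -- `Y` preserves `Λ`
  have hY3 : ∀ y ∈ B ⊔ B', ∀ e, y • e ∈ orbit B b ∪ β' ↔ e ∈ orbit B b ∪ β' := by
    let S : Subgroup G :=
      { carrier := {y | ∀ e, y • e ∈ orbit B b ∪ β' ↔ e ∈ orbit B b ∪ β'}
        one_mem' := fun e => by rw [one_smul]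
        mul_mem' := fun {y z} hy hz e => by rw [mul_smul, hy, hz]
        inv_mem' := fun {y} hy e => by rw [← hy, smul_inv_smul] }
    have k : ∀ H : Subgroup G, (∀ u ∈ H, ∀ e ∈ orbit B b ∪ β', u • e ∈ orbit B b ∪ β') → H ≤ S :=
      fun H hH u hu e => ⟨fun he => by simpa only [inv_smul_smul] using hH _ (inv_mem hu) _ he,
        hH u hu e⟩
    refine fun y hy => (sup_le (k B fun u hu e he => ?_) (k B' fun v hv e he => ?_) : B ⊔ B' ≤ S) hy
    · by_cases h1 : e ∈ orbit B b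
      · exact Or.inl (hBo b u hu e h1)
      · rw [(h.mem_fix e).1 ((hsub (he.resolve_left h1)).resolve_left h1) u hu]
        exact he
    · by_cases h1 : e ∈ β'
      · exact Or.inr (hinv v hv e h1)
      · rw [hfix v hv e (Or.inl (he.resolve_right h1)) h1]
        exact he
  obtain ⟨e₁, he₁, e₂, he₂, h12⟩ : ∃ e₁ ∈ β', ∃ e₂ ∈ β', e₁ ≠ e₂ :=
    (Set.one_lt_ncard (Set.toFinite _)).1 (hcard ▸ hp.one_lt)
  obtain ⟨v, hv, hve⟩ := htr e₁ he₁ e₂ he₂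
  -- the two orbits meet
  obtain ⟨e₀, h0, h0'⟩ : ∃ e₀, e₀ ∈ orbit B b ∧ e₀ ∈ β' := by
    by_contra hne
    push Not at hne
    have hΓ : ∀ e ∈ β', e ∉ orbit P b := fun e he =>
      (hsub he).resolve_left fun h1 => hne e h1 he
    have hA : B ⊔ B' ≤ b2aActs B (orbit B b) (hBo b) :=
      sup_le (fun u hu => ⟨u, hu, fun _ _ => rfl⟩) fun w hw =>
        ⟨1, one_mem _, fun e he => by rw [one_smul]; exact hfix w hw e (Or.inl he) (hne e he)⟩
    have hA' : B ⊔ B' ≤ b2aActs B' β' hinv :=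
      sup_le (fun u hu => ⟨1, one_mem _, fun e he => by
        rw [one_smul]; exact (h.mem_fix e).1 (hΓ e he) u hu⟩) fun w hw => ⟨w, hw, fun _ _ => rfl⟩
    have hpow : ∀ y ∈ B ⊔ B', y ^ p = 1 := fun y hy => su.faith _ fun ω => by
      by_cases h1 : ω ∈ orbit B b
      · exact b2aActs_pow h.expo (hA hy) h1
      by_cases h2 : ω ∈ orbit P b
      · exact b2aActs_pow h.expo (hY1 ω h2 h1 hy) (mem_orbit_self ω)
      by_cases h3 : ω ∈ β'
      · exact b2aActs_pow hexp (hA' hy) h3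
      · exact (mem_fixingSubgroup_iff G).1 (hY2 (pow_mem hy p)) ω ⟨h2, h3⟩
    have hpg : IsPGroup p (B ⊔ B' : Subgroup G) := fun y =>
      ⟨1, Subtype.ext (by simpa using hpow y y.2)⟩
    obtain ⟨k, -, hk⟩ := h.syl.conj_into hp hpg le_top
    have hk' : ∀ x ∈ B ⊔ B', k * x * k⁻¹ ∈ B := fun x hx => by
      by_contra hn
      exact h.nexp _ (hk x hx) hn (by rw [conj_pow, hpow x hx, mul_one, mul_inv_cancel])
    have hle : Nat.card (B ⊔ B' : Subgroup G) ≤ Nat.card B :=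
      Nat.card_le_card_of_injective (fun x : (B ⊔ B' : Subgroup G) => (⟨_, hk' x x.2⟩ : B))
        fun a c e' => Subtype.ext (by simpa using e')
    have hE : B = B ⊔ B' := Subgroup.eq_of_le_of_card_ge le_sup_left hle
    have hvB : v ∈ B := hE ▸ Subgroup.mem_sup_right hv
    exact h12 (((h.mem_fix e₁).1 (hΓ e₁ he₁) v hvB).symm.trans hve)
  have hT : ∀ a ∈ orbit B b ∪ β', ∃ y ∈ B ⊔ B', y • b = a := by
    rintro a (ha | ha)
    · obtain ⟨u, hu, e⟩ := mem_orbit_sub.1 ha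
      exact ⟨u, Subgroup.mem_sup_left hu, e⟩
    · obtain ⟨u, hu, e⟩ := mem_orbit_sub.1 h0
      obtain ⟨w, hw, e'⟩ := htr e₀ h0' a ha
      exact ⟨w * u, mul_mem (Subgroup.mem_sup_right hw) (Subgroup.mem_sup_left hu), by
        rw [mul_smul, e, e']⟩
  have hlt : (orbit B b ∪ β').ncard < 2 * p := by
    have h1 := Set.ncard_union_add_ncard_inter (orbit B b) β'
    have h2 : 0 < (orbit B b ∩ β').ncard := (Set.ncard_pos (Set.toFinite _)).2 ⟨e₀, h0, h0'⟩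
    omega
  have hgt : p < (orbit B b ∪ β').ncard := by
    rw [← hcard]
    exact Set.ncard_lt_ncard ⟨Set.subset_union_right, fun h1 => hb (h1 (Or.inl hbb))⟩
  refine ⟨orbit B b ∪ β', Set.subset_union_left, Set.union_subset Set.subset_union_left hsub, hgt,
    hlt, ?_⟩
  -- the kernel `T` of `Y` outside `Λ`
  have hN : ∀ y ∈ B ⊔ B', ∀ t ∈ (B ⊔ B') ⊓ fixingSubgroup G (orbit B b ∪ β')ᶜ,
      y * t * y⁻¹ ∈ (B ⊔ B') ⊓ fixingSubgroup G (orbit B b ∪ β')ᶜ := by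
    intro y hy t ht
    refine Subgroup.mem_inf.2
      ⟨mul_mem (mul_mem hy ht.1) (inv_mem hy), (mem_fixingSubgroup_iff G).2 fun e he => ?_⟩
    rw [mul_smul, mul_smul, (mem_fixingSubgroup_iff G).1 ht.2 (y⁻¹ • e)
      (fun h1 => he ((hY3 _ (inv_mem hy) e).1 h1)), smul_inv_smul]
  obtain ⟨y, hy, hye⟩ := hT e₁ (Or.inr he₁)
  have hv' : v ∈ B ⊔ B' := Subgroup.mem_sup_right hv
  have ht : y⁻¹ * v * y * v⁻¹ ∈ (B ⊔ B') ⊓ fixingSubgroup G (orbit B b ∪ β')ᶜ := by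
    refine Subgroup.mem_inf.2 ⟨mul_mem (mul_mem (mul_mem (inv_mem hy) hv') hy) (inv_mem hv'),
      (mem_fixingSubgroup_iff G).2 fun e he => ?_⟩
    have h1 : e ∉ orbit B b := fun h1 => he (Or.inl h1)
    have h3 : e ∉ β' := fun h1 => he (Or.inr h1)
    by_cases h2 : e ∈ orbit P b
    · exact b2aActs_comm h.comm (hY1 e h2 h1 hy) (hY1 e h2 h1 hv') (mem_orbit_self e)
    · exact (mem_fixingSubgroup_iff G).1 (hY2 (mul_mem (mul_mem (mul_mem (inv_mem hy) hv') hy)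
        (inv_mem hv'))) e ⟨h2, h3⟩
  have htb : (y⁻¹ * v * y * v⁻¹) • b ≠ b := by
    intro e
    rw [mul_smul, mul_smul, mul_smul, hfix _ (inv_mem hv) b (Or.inl hbb) hb, inv_smul_eq_iff, hye,
      hve] at e
    exact h12 e.symm
  obtain ⟨S, hS1, hS2⟩ := b2a_block hp inf_le_left hN
    (fun z hz => (hY3 z hz b).2 (Or.inl hbb)) hlt ht htb
  have hYS : B ⊔ B' ≤ S :=
    sup_le (fun u hu => hS1 u (Subgroup.mem_sup_left hu) (h.expo u hu))
      fun w hw => hS1 w (Subgroup.mem_sup_right hw) (hexp w hw)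
  intro a ha c hc
  obtain ⟨ya, hya, rfl⟩ := hT a ha
  obtain ⟨yc, hyc, rfl⟩ := hT c hc
  obtain ⟨ta, hta, ea⟩ := hS2 ya (hYS hya)
  obtain ⟨tc, htc, ec⟩ := hS2 yc (hYS hyc)
  exact ⟨tc * ta⁻¹, mul_mem htc.2 (inv_mem hta.2), by rw [mul_smul, ← ea, inv_smul_smul, ec]⟩

end Cfsg.Agent.E2Q
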