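import Mathlib
import Cfsg.Agent.E2Q.Def
import Cfsg.Agent.E2Q.Bas

set_option autoImplicit false

namespace Cfsg.Agent.E2Q

open MulAction

variable {G : Type*} [Group G] {Ω : Type*} [MulAction G Ω]

/-- A subgroup normalised by the `p`-cycle `u` fixes `a ∈ β` or has `β` inside the orbit of `a`. -/
theorem lemL_key {p : ℕ} (hp : p.Prime) {u : G} (hu : u ^ p = 1) {X : Subgroup G}
    (huX : ∀ x ∈ X, u * x * u⁻¹ ∈ X) {β Λ : Set Ω}
    (htr : ∀ a ∈ β, ∀ c ∈ β, ∃ i : ℕ, u ^ i • a = c) (hfix : ∀ a ∈ Λ, a ∉ β → u • a = a)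
    {a : Ω} (ha : a ∈ β) (hXΛ : ∀ x ∈ X, x • a ∈ Λ) :
    (∀ x ∈ X, x • a = a) ∨ β ⊆ orbit X a := by
  have hpow : ∀ i : ℕ, ∀ x ∈ X, u ^ i * x * (u ^ i)⁻¹ ∈ X := by
    intro i
    induction i with
    | zero => intro x hx; simpa using hx
    | succ i ih =>
      intro x hx
      have := huX _ (ih x hx)
      convert this using 1
      rw [pow_succ']; group
  have hinv : ∀ g : G, (∀ x ∈ X, g * x * g⁻¹ ∈ X) → ∀ c ∈ orbit X a, g • c ∈ orbit X a →
      ∀ z ∈ orbit X a, g • z ∈ orbit X a := by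
    intro g hg c hc hgc z hz
    obtain ⟨x, hx, rfl⟩ := mem_orbit_sub.1 hc
    obtain ⟨y, hy, rfl⟩ := mem_orbit_sub.1 hz
    obtain ⟨w, hw, e⟩ := mem_orbit_sub.1 hgc
    refine mem_orbit_sub.2 ⟨g * (y * x⁻¹) * g⁻¹ * w, mul_mem (hg _ (mul_mem hy (inv_mem hx))) hw, ?_⟩
    rw [mul_smul, e]
    simp only [mul_smul, inv_smul_smul]
  have hit : ∀ g : G, (∀ z ∈ orbit X a, g • z ∈ orbit X a) →
      ∀ k : ℕ, ∀ z ∈ orbit X a, g ^ k • z ∈ orbit X a := by
    intro g hg k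
    induction k with
    | zero => intro z hz; simpa using hz
    | succ k ih => intro z hz; rw [pow_succ', mul_smul]; exact hg _ (ih z hz)
  by_cases h : ∀ x ∈ X, x • a = a
  · exact Or.inl h
  right
  push Not at h
  obtain ⟨x, hx, hxa⟩ := h
  have hm : x • a ∈ orbit X a := mem_orbit_sub.2 ⟨x, hx, rfl⟩
  have hU : ∀ z ∈ orbit X a, u • z ∈ orbit X a := by
    by_cases hb : x • a ∈ β
    · obtain ⟨i, hi⟩ := htr a ha _ hb
      have hpi : ¬ p ∣ i := by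
        rintro ⟨k, rfl⟩
        rw [pow_mul, hu, one_pow, one_smul] at hi
        exact hxa hi.symm
      have h1 := hinv (u ^ i) (hpow i) a (mem_orbit_self a) (hi ▸ hm)
      have hc : Nat.Coprime i p := ((Nat.Prime.coprime_iff_not_dvd hp).2 hpi).symm
      obtain ⟨k, -, hk⟩ := Nat.exists_mul_mod_eq_one_of_coprime hc hp.one_lt
      have e : (u ^ i) ^ k = u := by
        rw [← pow_mul, ← Nat.div_add_mod (i * k) p, hk, pow_add, pow_mul, hu, one_pow, one_mul,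
          pow_one]
      intro z hz
      have := hit _ h1 k z hz
      rwa [e] at this
    · exact hinv u huX _ hm (by rw [hfix _ (hXΛ x hx) hb]; exact hm)
  intro c hc
  obtain ⟨i, rfl⟩ := htr a ha c hc
  exact hit u hU i a (mem_orbit_self a)

/-- The `r`-group case. -/
theorem lemL_syl [Finite G] [Finite Ω] {p r : ℕ} (hp : p.Prime) (hr : r.Prime) (hrp : r ≠ p)
    {u : G} (hu : u ^ p = 1) {R : Subgroup G} (hR : IsPGroup r R)
    (huR : ∀ x ∈ R, u * x * u⁻¹ ∈ R) {β Λ : Set Ω} (hβ : β.ncard = p)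
    (htr : ∀ a ∈ β, ∀ c ∈ β, ∃ i : ℕ, u ^ i • a = c) (hfix : ∀ a ∈ Λ, a ∉ β → u • a = a)
    (hβΛ : β ⊆ Λ) (hRΛ : ∀ t ∈ R, ∀ a ∈ Λ, t • a ∈ Λ) (h2 : Λ.ncard < 2 * p)
    {a : Ω} (ha : a ∈ β) (hd : r ∣ ol R a) : ∃ m : ℕ, p + 1 = r ^ m := by
  have hnf : ∀ z ∈ β, u • z ≠ z := by
    intro z hz e
    have hs : β ⊆ {z} := by
      intro c hc
      obtain ⟨i, rfl⟩ := htr z hz c hc
      exact (show u ^ i ∈ stabilizer G z from pow_mem (show u ∈ stabilizer G z from e) i)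
    have := Set.ncard_le_ncard hs
    rw [Set.ncard_singleton, hβ] at this
    exact absurd hp.one_lt (by omega)
  obtain ⟨m, hm⟩ := ol_pow hr hR a
  have hm0 : r ∣ r ^ m := hm ▸ hd
  rw [ol_eq_ncard] at hm
  have hOΛ : orbit R a ⊆ Λ := by
    intro z hz
    obtain ⟨t, ht, rfl⟩ := mem_orbit_sub.1 hz
    exact hRΛ t ht a (hβΛ ha)
  have hOR : ∀ t ∈ R, ∀ z ∈ orbit R a, t • z ∈ orbit R a := by
    intro t ht z hz
    obtain ⟨s, hs, rfl⟩ := mem_orbit_sub.1 hz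
    exact mem_orbit_sub.2 ⟨t * s, mul_mem ht hs, mul_smul _ _ _⟩
  have hOt : ∀ y ∈ orbit R a, ∀ z ∈ orbit R a, ∃ t ∈ R, t • y = z := by
    intro y hy z hz
    obtain ⟨s, hs, rfl⟩ := mem_orbit_sub.1 hy
    obtain ⟨t, ht, rfl⟩ := mem_orbit_sub.1 hz
    exact ⟨t * s⁻¹, mul_mem ht (inv_mem hs), by rw [mul_smul, inv_smul_smul]⟩
  have hβO : β ⊆ orbit R a := by
    refine (lemL_key hp hu huR htr hfix ha fun x hx => hRΛ x hx a (hβΛ ha)).resolve_left fun h => ?_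
    have h1 : ol R a = 1 := Subgroup.relIndex_eq_one.2 fun x hx => h x hx
    exact hr.one_lt.ne' (Nat.dvd_one.1 (h1 ▸ hd))
  have hlt : r ^ m < 2 * p := hm ▸ (Set.ncard_le_ncard hOΛ).trans_lt h2
  have hrp' : ¬ r ∣ p := fun h => hrp ((Nat.prime_dvd_prime_iff_eq hr hp).1 h)
  have hex : ∃ c ∈ orbit R a, c ∉ β := by
    by_contra h
    push Not at h
    have e : orbit R a = β := Set.Subset.antisymm h hβO
    rw [e, hβ] at hm
    exact hrp' (hm ▸ hm0)
  -- stabilisers of points outside `β` fix `β`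
  have hA : ∀ c ∈ orbit R a, c ∉ β → ∀ x ∈ R, x • c = c → ∀ z ∈ β, x • z = z := by
    intro c hc hcβ x hx hxc z hz
    have huc : u • c = c := hfix c (hOΛ hc) hcβ
    have hk := lemL_key hp hu (X := R ⊓ stabilizer G c) (fun y hy => ⟨huR y hy.1, by
      have h3 : u⁻¹ • c = c := by rw [inv_smul_eq_iff, huc]
      have h4 : y • c = c := hy.2
      show (u * y * u⁻¹) • c = c
      rw [mul_smul, mul_smul, h3, h4, huc]⟩) htr hfix hz
      (fun y hy => hRΛ y hy.1 z (hβΛ hz))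
    refine hk.resolve_right (fun h => ?_) x ⟨hx, hxc⟩
    obtain ⟨j, hj⟩ := ol_pow hr (hR.to_inf_left (K := stabilizer G c)) z
    rw [ol_eq_ncard] at hj
    have h5 : p ≤ r ^ j := by rw [← hj, ← hβ]; exact Set.ncard_le_ncard h
    have h6 : orbit (R ⊓ stabilizer G c : Subgroup G) z ⊂ orbit R a := by
      refine ⟨fun w hw => ?_, fun h7 => ?_⟩
      · obtain ⟨t, ht, rfl⟩ := mem_orbit_sub.1 hw
        exact hOR t ht.1 z (hβO hz)
      · obtain ⟨t, ht, e⟩ := mem_orbit_sub.1 (h7 hc)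
        have h8 : t • c = c := ht.2
        have : z = c := by
          rw [← h8] at e
          exact smul_left_cancel t e
        exact hcβ (this ▸ hz)
    have h7 := Set.ncard_lt_ncard h6
    rw [hj, hm] at h7
    have h8 : j + 1 ≤ m := (Nat.pow_lt_pow_iff_right hr.one_lt).1 h7
    have h9 : r ^ (j + 1) ≤ r ^ m := Nat.pow_le_pow_right hr.pos h8
    rw [pow_succ] at h9
    have := hr.two_le
    nlinarith
  -- and so fix the whole orbit
  have hB : ∀ c ∈ orbit R a, c ∉ β → ∀ x ∈ R, x • a = a → x • c = c := by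
    intro c hc hcβ
    obtain ⟨t, ht, e⟩ := mem_orbit_sub.1 hc
    have hle : R ⊓ stabilizer G c ≤ R ⊓ stabilizer G a := fun x hx =>
      ⟨hx.1, hA c hc hcβ x hx.1 hx.2 a ha⟩
    have hmem : ∀ x : (R ⊓ stabilizer G a : Subgroup G),
        t * x * t⁻¹ ∈ (R ⊓ stabilizer G c : Subgroup G) := fun x =>
      ⟨R.mul_mem (R.mul_mem ht x.2.1) (R.inv_mem ht), by
        have h4 : (x : G) • a = a := x.2.2
        show (t * x * t⁻¹) • c = c
        rw [← e, mul_smul, mul_smul, inv_smul_smul, h4]⟩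
    have heq := Subgroup.eq_of_le_of_card_ge hle (Nat.card_le_card_of_injective
      (fun x : (R ⊓ stabilizer G a : Subgroup G) =>
        (⟨_, hmem x⟩ : (R ⊓ stabilizer G c : Subgroup G))) fun x y e' =>
      Subtype.ext (by simpa using congrArg Subtype.val e'))
    intro x hx hxa
    have : x ∈ (R ⊓ stabilizer G c : Subgroup G) := heq ▸ ⟨hx, hxa⟩
    exact this.2
  obtain ⟨c, hc, hcβ⟩ := hex
  have huc : u • c = c := hfix c (hOΛ hc) hcβ
  have huc' : u⁻¹ • c = c := by rw [inv_smul_eq_iff, huc]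
  have hC : ∀ x ∈ R, x • c = c → ∀ z ∈ orbit R a, x • z = z := by
    intro x hx hxc z hz
    by_cases hzβ : z ∈ β
    · exact hA c hc hcβ x hx hxc z hzβ
    · exact hB z hz hzβ x hx (hA c hc hcβ x hx hxc a ha)
  have hD : ∀ t ∈ R, u • t • c = t • c → ∀ z ∈ orbit R a, (u * t * u⁻¹) • z = t • z := by
    intro t ht e z hz
    have := hC (t⁻¹ * (u * t * u⁻¹)) (mul_mem (inv_mem ht) (huR t ht)) (by
      rw [mul_smul, mul_smul, mul_smul, huc', e, inv_smul_smul]) z hz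
    rw [mul_smul, inv_smul_eq_iff] at this
    exact this
  let S : Subgroup G :=
    { carrier := {t | t ∈ R ∧ u • t • c = t • c}
      one_mem' := ⟨one_mem _, by rw [one_smul, huc]⟩
      mul_mem' := by
        rintro t s ⟨ht, et⟩ ⟨hs, es⟩
        refine ⟨mul_mem ht hs, ?_⟩
        have h1 := hD t ht et (s • c) (hOR s hs c hc)
        have h3 : u⁻¹ • s • c = s • c := by rw [inv_smul_eq_iff, es]
        rw [mul_smul, mul_smul, h3] at h1
        rw [mul_smul, h1]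
      inv_mem' := by
        rintro t ⟨ht, et⟩
        refine ⟨inv_mem ht, ?_⟩
        have h1 := hD t ht et (t⁻¹ • c) (hOR _ (inv_mem ht) c hc)
        rw [smul_inv_smul, mul_smul, mul_smul, ← huc, smul_left_cancel_iff, huc,
          ← eq_inv_smul_iff, inv_smul_eq_iff] at h1
        exact h1.symm }
  have hS : IsPGroup r S := hR.to_le fun t ht => ht.1
  have hSo : orbit S c = orbit R a \ β := by
    ext z
    constructor
    · intro hz
      obtain ⟨t, ht, rfl⟩ := mem_orbit_sub.1 hz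
      exact ⟨hOR t ht.1 c hc, fun h => hnf _ h ht.2⟩
    · rintro ⟨hz, hzβ⟩
      obtain ⟨t, ht, rfl⟩ := hOt c hc z hz
      exact mem_orbit_sub.2 ⟨t, ⟨ht, hfix _ (hOΛ hz) hzβ⟩, rfl⟩
  obtain ⟨j, hj⟩ := ol_pow hr hS c
  rw [ol_eq_ncard, hSo, Set.ncard_diff hβO, hm, hβ] at hj
  have hle : p ≤ r ^ m := by rw [← hm, ← hβ]; exact Set.ncard_le_ncard hβO
  rcases j with _ | j
  · exact ⟨m, by rw [pow_zero] at hj; omega⟩
  · exfalso
    have h3 : r ∣ r ^ m - p := hj ▸ dvd_pow_self r (Nat.succ_ne_zero j)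
    exact hrp' ((Nat.dvd_sub_iff_right hle hm0).1 h3)

/-- **Lemma L.** `u` acts on `Λ` as a `p`-cycle with support `β` and normalises a `p'`-group `T`
which is transitive on `Λ`, `p < |Λ| < 2p`. Then `|Λ| = p + 1` is a power of two.

Proof. `u` fixes no point of `β` (`|β| = p ≥ 2`, `htr`). Let `r` be any prime divisor of
`|Λ| = ol T a`; `r ∣ |T|`, so `r ≠ p`. `exists_inv_syl` for `zpowers u` gives a Sylow `r`-subgroup `R`
of `T` normalised by `u`; `r ∣ ol R a` for `a ∈ Λ` (`Syl.dvd_ol`). KEY: for a subgroup `X ≤ T`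
normalised by `u` and `a ∈ β`, `O = orbit X a`: the sets `u^i • O = orbit X (u^i • a)` (`i < p`) are
either all equal (then `β ⊆ O`) or pairwise disjoint (then `p |O| ≤ |Λ| < 2p`, so `|O| = 1`)
[if `u^i • O = O` for some `0 < i < p` then `u • O = O`]. For `X = R`: `β ⊆ Λ₀ = orbit R a`,
`|Λ₀| = r^m`, `p < r^m < 2p`. For `c ∈ Λ₀ \ β` take `X = R_c = R ⊓ stabilizer c` (`u` fixes `c`): if
`β ⊆ orbit X a` then its length `r^j ≥ p > r^m / 2 ≥ r^(m-1)` and `orbit X a ⊆ Λ₀ \ {c}`, impossible;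
so `R_c` fixes every `a ∈ β`, `R_c = R_a` (same index). So all points of `Λ₀` have one stabiliser in
`R`, which fixes `Λ₀` pointwise. Fix `c ∈ Λ₀ \ β`; `S = {t ∈ R | u • t • c = t • c}` is a subgroup
(`u t = (u t u⁻¹) u`, and `t ∈ S ↔ t⁻¹ (u t u⁻¹) ∈ R_c`, which acts trivially on `Λ₀`), and
`orbit S c = Λ₀ \ β`; so `r^m - p = r^j`; `j ≥ 1` gives `r ∣ p`; so `p + 1 = r^m`, even, `r = 2`.
Hence `|Λ|` is a power of two with `p + 1 = 2^m ≤ |Λ| < 2p < 2^(m+1)`. -/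
theorem lemL [Finite G] [Finite Ω] {p : ℕ} (hp : p.Prime) (hp2 : 2 < p) {u : G} (hu : u ^ p = 1)
    {T : Subgroup G} (huT : u ∈ Subgroup.normalizer (T : Set G)) (hT : ¬ p ∣ Nat.card T)
    {β Λ : Set Ω} (hβ : β.ncard = p) (hβΛ : β ⊆ Λ) (hinv : ∀ a ∈ β, u • a ∈ β)
    (htr : ∀ a ∈ β, ∀ c ∈ β, ∃ i : ℕ, u ^ i • a = c) (hfix : ∀ a ∈ Λ, a ∉ β → u • a = a)
    (hTΛ : ∀ t ∈ T, ∀ a ∈ Λ, t • a ∈ Λ) (hTtr : ∀ a ∈ Λ, ∀ c ∈ Λ, ∃ t ∈ T, t • a = c)
    (h1 : p < Λ.ncard) (h2 : Λ.ncard < 2 * p) : Λ.ncard = p + 1 ∧ ∃ m : ℕ, p + 1 = 2 ^ m := by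
  obtain ⟨a, ha⟩ : β.Nonempty := Set.nonempty_of_ncard_ne_zero (by omega)
  have hO : orbit T a = Λ := by
    ext z
    constructor
    · intro hz
      obtain ⟨t, ht, rfl⟩ := mem_orbit_sub.1 hz
      exact hTΛ t ht a (hβΛ ha)
    · intro hz
      exact mem_orbit_sub.2 (hTtr a (hβΛ ha) z hz)
  have hpg : IsPGroup p (Subgroup.zpowers u) := by
    rintro ⟨x, k, rfl⟩
    refine ⟨1, Subtype.ext ?_⟩
    show (u ^ k) ^ p ^ 1 = 1
    rw [pow_one, ← zpow_natCast, ← zpow_mul, mul_comm, zpow_mul, zpow_natCast, hu, one_zpow]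
  have key : ∀ r : ℕ, r.Prime → r ∣ Λ.ncard → r = 2 ∧ ∃ m : ℕ, p + 1 = 2 ^ m := by
    intro r hr hd
    have hrp : r ≠ p := by
      rintro rfl
      obtain ⟨k, hk⟩ := hd
      rw [hk] at h1 h2
      have h3 : 1 < k := by
        by_contra h; have : k ≤ 1 := by omega
        nlinarith
      nlinarith
    obtain ⟨R, hR, hn⟩ := exists_inv_syl hp hr hpg ((Subgroup.zpowers_le).2 huT) hT
    have huR : ∀ x ∈ R, u * x * u⁻¹ ∈ R := fun x hx =>
      (Subgroup.mem_normalizer_iff.1 (hn (Subgroup.mem_zpowers u)) x).1 hx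
    obtain ⟨m, hm⟩ := lemL_syl hp hr hrp hu hR.pg huR hβ htr hfix hβΛ
      (fun t ht => hTΛ t (hR.le ht)) h2 ha (hR.dvd_ol hr (by rw [ol_eq_ncard, hO]; exact hd))
    have hodd := hp.odd_of_ne_two (by omega)
    have h3 : 2 ∣ r ^ m := hm ▸ hodd.add_one.two_dvd
    have h4 : 2 = r := (Nat.prime_dvd_prime_iff_eq Nat.prime_two hr).1
      (Nat.prime_two.dvd_of_dvd_pow h3)
    exact ⟨h4.symm, m, h4 ▸ hm⟩
  have hk := Nat.eq_prime_pow_of_unique_prime_dvd (n := Λ.ncard) (p := 2) (by omega)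
    fun {d} hd hdd => (key d hd hdd).1
  obtain ⟨r, hr, hd⟩ := Nat.exists_prime_and_dvd (n := Λ.ncard) (by omega)
  obtain ⟨m, hm⟩ := (key r hr hd).2
  refine ⟨?_, m, hm⟩
  generalize (Λ.ncard).primeFactorsList.length = k at hk
  rw [hk] at h1 h2 ⊢
  have h3 : 2 ^ m ≤ 2 ^ k := by omega
  have h4 : 2 ^ k < 2 ^ (m + 1) := by rw [pow_succ]; omega
  have h5 := (Nat.pow_le_pow_iff_right (by norm_num : 1 < 2)).1 h3
  have h6 := (Nat.pow_lt_pow_iff_right (by norm_num : 1 < 2)).1 h4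
  rw [hm, show k = m by omega]

end Cfsg.Agent.E2Q
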