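import Mathlib
import Cfsg.Agent.E2Q.Def
import Cfsg.Agent.E2Q.Bas

set_option autoImplicit false

namespace Cfsg.Agent.E2Q

open MulAction

variable {G : Type*} [Group G] {Ω : Type*} [MulAction G Ω]

theorem nc_pow {p t : ℕ} (hp : p.Prime) {B : Subgroup G} {x : G} (hx : x ^ p ∈ B) (h0 : 0 < t)
    (ht : t < p) (hxt : x ^ t ∈ B) : x ∈ B := by
  have e : ((Nat.gcd t p : ℕ) : ℤ) = t * Nat.gcdA t p + p * Nat.gcdB t p := Nat.gcd_eq_gcd_ab t p
  rw [(Nat.coprime_comm.1 (Nat.coprime_of_lt_prime h0.ne' ht hp) :)] at e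
  have : x = (x ^ t) ^ Nat.gcdA t p * (x ^ p) ^ Nat.gcdB t p := by
    rw [← zpow_natCast, ← zpow_natCast, ← zpow_mul, ← zpow_mul, ← zpow_add, ← e]; simp
  rw [this]
  exact mul_mem (zpow_mem hxt _) (zpow_mem hx _)

theorem nc_core [Finite G] [Finite Ω] {p q : ℕ} (su : Su G Ω p q) {P B : Subgroup G} {b : Ω}
    (h : CB p q P B b) {c : G} (hc : c ∈ B) (c1 : c ≠ 1) : 2 * p ≤ {ω : Ω | c • ω ≠ ω}.ncard := by
  by_contra! lt
  obtain ⟨e, he⟩ : ∃ e : Ω, c • e ≠ e := by
    by_contra! k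
    exact c1 (su.faith c k)
  have mD : ∀ ω : Ω, c • ω ≠ ω → ω ∈ orbit P b := fun ω k => by
    by_contra k'
    exact k ((h.mem_fix ω).1 k' c hc)
  have sub : ∀ ω : Ω, c • ω ≠ ω → orbit B ω ⊆ {ω : Ω | c • ω ≠ ω} := fun ω k a ha => by
    obtain ⟨u, hu, rfl⟩ := mem_orbit_sub.1 ha
    intro k'
    rw [smul_smul, h.comm c hc u hu, mul_smul] at k'
    exact k (smul_left_cancel u k')
  have one : ∀ ω : Ω, c • ω ≠ ω → ω ∈ orbit B e := fun ω k => by
    by_contra k'
    have d : Disjoint (orbit B ω) (orbit B e) := Set.disjoint_left.2 fun a h1 h2 =>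
      k' (orbit_eq_iff.2 h2 ▸ (orbit_eq_iff.2 h1).symm ▸ mem_orbit_self ω)
    have := Set.ncard_le_ncard (Set.union_subset (sub ω k) (sub e he))
    rw [Set.ncard_union_eq d, ← ol_eq_ncard, ← ol_eq_ncard, h.olB _ (mD ω k), h.olB _ (mD e he)] at this
    omega
  have out : ∀ y ∈ P, y ∉ B → c • y • e = y • e := fun y hy hyB => by
    by_contra k
    obtain ⟨u, hu, k'⟩ := mem_orbit_sub.1 (one _ k)
    have : u⁻¹ * y ∈ B := h.stab e (Subgroup.mem_inf.2 ⟨P.mul_mem (P.inv_mem (h.le hu)) hy, by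
      rw [mem_stabilizer_iff, mul_smul, ← k', inv_smul_smul]⟩)
    exact hyB ((mul_mem_cancel_left (inv_mem hu)).1 this)
  obtain ⟨x, hx, hxB⟩ := h.exP
  have xp := h.pow_mem x hx
  obtain ⟨i, u, hu, hue, e1⟩ := (idx_prime su.pp (h.syl.pg.to_le h.le) (h.olB e (mD e he))).2.2.2.2
    c hc he (x ^ p)⁻¹ (inv_mem xp)
  have di := pow_mem hc i
  have out' : ∀ y ∈ P, y ∉ B → c ^ i • y • e = y • e := fun y hy hyB =>
    pow_mem (show c ∈ stabilizer G (y • e) from out y hy hyB) i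
  generalize c ^ i = d at e1 di out'
  have hz : d * x ∈ P := mul_mem (h.le di) hx
  have hzB : d * x ∉ B := fun k => hxB ((mul_mem_cancel_left di).1 k)
  have st : ∀ n : ℕ, n < p → (d * x) ^ n • e = x ^ n • e := fun n => by
    induction n with
    | zero => simp
    | succ n ih =>
      intro hn
      rw [pow_succ', mul_smul, ih (by omega), mul_smul, smul_smul x, ← pow_succ']
      exact out' _ (pow_mem hx _) fun k => hxB (nc_pow su.pp xp n.succ_pos hn k)
  have we : (d * x) ^ p • e = e := by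
    obtain ⟨n, hn⟩ : ∃ n, p = n + 1 := ⟨p - 1, by have := su.pp.pos; omega⟩
    have : d * x ^ p = u⁻¹ := by
      rw [h.comm d di _ xp, eq_inv_iff_mul_eq_one, mul_assoc, ← e1, mul_inv_cancel]
    calc _ = (d * x) • (d * x) ^ n • e := by rw [hn, pow_succ', mul_smul]
      _ = (d * x ^ p) • e := by rw [st n (by omega), smul_smul, mul_assoc, ← pow_succ', ← hn]
      _ = e := by rw [this, inv_smul_eq_iff]; exact (mem_stabilizer_iff.1 hue).symm
  have wB := h.pow_mem _ hz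
  refine h.nexp _ hz hzB (su.faith _ fun ω => ?_)
  by_cases k : ω ∈ orbit P b
  · rw [← orbit_eq_iff.2 (mD e he)] at k
    obtain ⟨y, hy, rfl⟩ := mem_orbit_sub.1 k
    obtain ⟨j, v, hv, rfl⟩ := h.gen _ hz hzB y hy
    have : Commute ((d * x) ^ p) ((d * x) ^ j * v) :=
      Commute.mul_right (Commute.pow_pow_self _ _ _) (h.comm _ wB v hv)
    rw [smul_smul, this.eq, mul_smul, we]
  · exact (h.mem_fix ω).1 k _ wB

/-- In case II B there is no `p`-cycle: an element of order `p` moves at least `2p` points.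

Proof. Conjugate `g` into `P` (`Syl.conj_into` for `zpowers g`; the number of moved points is
unchanged): `c ∈ P`, `c ^ p = 1`, so `c ∈ B` (`nexp`), `c ≠ 1`. The set of points moved by `c` lies in
`Δ = orbit P b`, is nonempty and `B`-invariant (`B` abelian), and `B`-orbits in `Δ` have length `p`.
If it has `< 2p` points it is a single orbit `β = orbit B e`. Take `x ∈ P`, `x ∉ B`. For `0 < t < p`,
`x ^ t ∉ B` (else `x ∈ B`, using `x ^ p ∈ B`) and `(x^t)⁻¹ • e' ∉ β` for `e' ∈ β` (else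
`x^t ∈ B`, by `stab`), so `x^t c^i (x^t)⁻¹` fixes `β` pointwise. By induction on `1 ≤ n ≤ p`,
`w_n = (c^i * x)^n * (x^n)⁻¹ ∈ B` acts on `β` as `c^i` (`w_{n+1} = w_n * (x^n c^i (x^n)⁻¹)`).
`x^p ∈ B`, so `x^p • e ∈ β`, and the powers of `c` are transitive on `β` (`idx_prime` for
`stabilizer G e` in `B`): choose `i` with `c^i • x^p • e = e`. Then `w = (c^i * x)^p ∈ B` fixes `e`,
commutes with `c^i * x ∉ B` and with `B`, so is central in `P` (`gen`), so fixes all of `Δ`, and it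
fixes `Δᶜ`; `w = 1`, against `nexp`. -/
theorem noCyc [Finite G] [Finite Ω] {p q : ℕ} (su : Su G Ω p q) {P B : Subgroup G} {b : Ω}
    (h : CB p q P B b) {g : G} (hg : orderOf g = p) : 2 * p ≤ {ω : Ω | g • ω ≠ ω}.ncard := by
  have := Fact.mk su.pp
  obtain ⟨k, -, hk⟩ := h.syl.conj_into su.pp (R := Subgroup.zpowers g)
    (IsPGroup.of_card (n := 1) (by rw [Nat.card_zpowers, hg, pow_one])) le_top
  have hc := hk g (Subgroup.mem_zpowers g)
  have hB : k * g * k⁻¹ ∈ B := by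
    by_contra k'
    exact h.nexp _ hc k' (by rw [conj_pow, ← hg, pow_orderOf_eq_one]; simp)
  have c1 : k * g * k⁻¹ ≠ 1 := fun e => su.pp.one_lt.ne' (by
    rw [← hg, orderOf_eq_one_iff]; simpa using e)
  refine (nc_core su h hB c1).trans (Set.ncard_le_ncard_of_injOn (fun ω => k⁻¹ • ω)
    (fun ω hω e => hω ?_) fun a _ c _ e => smul_left_cancel k⁻¹ e)
  rw [mul_smul, mul_smul, e, smul_inv_smul]

end Cfsg.Agent.E2Q
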