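import Mathlib
import Cfsg.Agent.E2Q.Def
import Cfsg.Agent.E2Q.Bas
import Cfsg.Agent.E2Q.B2a
import Cfsg.Agent.E2Q.L
import Cfsg.Agent.E2Q.NoCyc

set_option autoImplicit false

namespace Cfsg.Agent.E2Q

open MulAction

variable {G : Type*} [Group G] {Ω : Type*} [MulAction G Ω]

theorem b2b_orb {B : Subgroup G} {n : G} (hn : n ∈ Subgroup.normalizer (B : Set G)) {e x : Ω}
    (hx : x ∈ orbit B e) : n • x ∈ orbit B (n • e) := by
  obtain ⟨v, hv, rfl⟩ := mem_orbit_sub.1 hx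
  exact mem_orbit_sub.2 ⟨n * v * n⁻¹, (Subgroup.mem_normalizer_iff.1 hn v).1 hv, by
    simp [mul_smul]⟩

/-- (L') -/
theorem b2b_L [Finite G] [Finite Ω] {p q : ℕ} (su : Su G Ω p q) {P B : Subgroup G} {b : Ω}
    (h : CB p q P B b) {Λ : Set Ω} (h1 : orbit B b ⊆ Λ) (h2 : Λ ⊆ orbit B b ∪ (orbit P b)ᶜ)
    (h3 : p < Λ.ncard) (h4 : Λ.ncard < 2 * p)
    (h5 : ∀ a ∈ Λ, ∀ c ∈ Λ, ∃ t ∈ fixingSubgroup G Λᶜ, t • a = c) :
    Λ.ncard = p + 1 ∧ ∃ m : ℕ, p + 1 = 2 ^ m := by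
  have := Fact.mk su.pp
  have ob : ol B b = p := h.olB b (mem_orbit_self b)
  obtain ⟨u, hu, ub⟩ : ∃ u ∈ B, u ∉ stabilizer G b := by
    by_contra k
    push Not at k
    exact su.pp.one_lt.ne' (ob.symm.trans (Subgroup.relIndex_eq_one.2 k))
  have inv : ∀ v ∈ B, ∀ a ∈ orbit B b, v • a ∈ orbit B b := fun v hv a ha => by
    obtain ⟨w, hw, rfl⟩ := mem_orbit_sub.1 ha
    exact mem_orbit_sub.2 ⟨v * w, mul_mem hv hw, mul_smul _ _ _⟩
  have pres : ∀ v ∈ B, ∀ a ∈ Λ, v • a ∈ Λ := fun v hv a ha => by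
    rcases h2 ha with k | k
    · exact h1 (inv v hv a k)
    · rwa [(h.mem_fix a).1 k v hv]
  have nrm : ∀ v ∈ B, ∀ t ∈ fixingSubgroup G Λᶜ, v * t * v⁻¹ ∈ fixingSubgroup G Λᶜ := fun v hv t ht => by
    rw [mem_fixingSubgroup_iff] at ht ⊢
    intro ω hω
    have : v⁻¹ • ω ∈ Λᶜ := fun k => hω (by simpa using pres v hv _ k)
    rw [mul_smul, mul_smul, ht _ this, smul_inv_smul]
  refine lemL su.pp (su.q2.trans su.qlt) (h.expo u hu) (T := fixingSubgroup G Λᶜ)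
    (Subgroup.mem_normalizer_iff.2 fun t => ⟨nrm u hu t, fun k => ?_⟩) (fun hd => ?_)
    ((ol_eq_ncard B b).symm.trans ob) h1 (inv u hu) (fun a ha c hc => ?_) (fun a ha k => ?_)
    (fun t ht a ha => ?_) h5 h3 h4
  · simpa [mul_assoc] using nrm u⁻¹ (inv_mem hu) _ k
  · obtain ⟨g, hg⟩ := exists_prime_orderOf_dvd_card' p hd
    have k := noCyc su h (g := (g : G)) ((Subgroup.orderOf_coe g).trans hg)
    have k2 : {ω : Ω | (g : G) • ω ≠ ω} ⊆ Λ := fun ω hω => by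
      by_contra c
      exact hω ((mem_fixingSubgroup_iff G).1 g.2 ω c)
    exact absurd (k.trans (Set.ncard_le_ncard k2)) (not_le.2 h4)
  · obtain ⟨v, hv, rfl⟩ := mem_orbit_sub.1 ha
    obtain ⟨w, hw, rfl⟩ := mem_orbit_sub.1 hc
    obtain ⟨i, s, hs, sb, e⟩ := (idx_prime su.pp (h.syl.pg.to_le h.le) (M := stabilizer G b) ob).2.2.2.2
      u hu ub (w * v⁻¹) (mul_mem hw (inv_mem hv))
    refine ⟨i, ?_⟩
    rw [mul_inv_eq_iff_eq_mul.1 e, mul_assoc, h.comm s hs v hv, mul_smul, mul_smul,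
      mem_stabilizer_iff.1 sb]
  · exact (h.mem_fix a).1 ((h2 ha).resolve_left k) u hu
  · by_contra c
    have := (mem_fixingSubgroup_iff G).1 ht _ c
    exact c (by rwa [smul_left_cancel t this])

/-- every point of `orbit B e ∪ {c}` is reached from `e` by an element supported on this set -/
def B2bA (B : Subgroup G) (e c : Ω) : Prop :=
  ∀ y, (y ∈ orbit B e ∨ y = c) → ∃ t : G, (∀ ω, ω ∉ orbit B e → ω ≠ c → t • ω = ω) ∧ t • e = y

theorem B2bA.smul {B : Subgroup G} {e c : Ω} (a : B2bA B e c) {n : G}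
    (hn : n ∈ Subgroup.normalizer (B : Set G)) : B2bA B (n • e) (n • c) := fun y hy => by
  obtain ⟨t, h1, h2⟩ := a (n⁻¹ • y) (hy.imp (fun k => by simpa using b2b_orb (inv_mem hn) k)
    fun k => by rw [k, inv_smul_smul])
  refine ⟨n * t * n⁻¹, fun ω k1 k2 => ?_, by rw [mul_smul, mul_smul, inv_smul_smul, h2, smul_inv_smul]⟩
  rw [mul_smul, mul_smul, h1 _ (fun k => k1 (by simpa using b2b_orb hn k))
    (fun k => k2 (by rw [← k, smul_inv_smul])), smul_inv_smul]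

theorem b2b_uniq [Finite G] [Finite Ω] {p q : ℕ} (su : Su G Ω p q) {P B : Subgroup G} {b : Ω}
    (h : CB p q P B b) {c c' : Ω} (hc : c ∉ orbit P b) (hc' : c' ∉ orbit P b) (a : B2bA B b c)
    (a' : B2bA B b c') : c = c' := by
  by_contra ne
  have sub : orbit B b ⊆ orbit P b := fun x hx => by
    obtain ⟨v, hv, rfl⟩ := mem_orbit_sub.1 hx
    exact mem_orbit_sub.2 ⟨v, h.le hv, rfl⟩
  have ob : (orbit B b).ncard = p := (ol_eq_ncard B b).symm.trans (h.olB b (mem_orbit_self b))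
  have cd : (insert c (insert c' (orbit B b))).ncard = p + 2 := by
    rw [Set.ncard_insert_of_notMem (by
      rintro (k | k)
      exacts [ne k, hc (sub k)]), Set.ncard_insert_of_notMem fun k => hc' (sub k), ob]
  have key : ∀ x ∈ insert c (insert c' (orbit B b)),
      ∃ t ∈ fixingSubgroup G (insert c (insert c' (orbit B b)))ᶜ, t • b = x := fun x hx => by
    have k : (x ∈ orbit B b ∨ x = c) ∨ (x ∈ orbit B b ∨ x = c') := by
      rcases hx with k | k | k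
      exacts [.inl (.inr k), .inr (.inr k), .inl (.inl k)]
    rcases k with k | k
    · obtain ⟨t, h1, h2⟩ := a x k
      exact ⟨t, (mem_fixingSubgroup_iff G).2 fun ω hω => h1 ω (fun j => hω (.inr (.inr j)))
        fun j => hω (.inl j), h2⟩
    · obtain ⟨t, h1, h2⟩ := a' x k
      exact ⟨t, (mem_fixingSubgroup_iff G).2 fun ω hω => h1 ω (fun j => hω (.inr (.inr j)))
        fun j => hω (.inr (.inl j)), h2⟩
  have q2 := su.q2
  have qlt := su.qlt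
  have := (b2b_L su h (Λ := insert c (insert c' (orbit B b))) (fun x hx => .inr (.inr hx))
    (by rintro x (rfl | rfl | k); exacts [.inr hc, .inr hc', .inl k]) (by omega) (by omega)
    fun x hx y hy => by
      obtain ⟨t, ht, rfl⟩ := key x hx
      obtain ⟨s, hs, rfl⟩ := key y hy
      exact ⟨s * t⁻¹, mul_mem hs (inv_mem ht), by rw [mul_smul, inv_smul_smul]⟩).1
  omega

/-- Case II B with `B ⊓ G_b ≠ ⊥` is impossible. `β₀ = orbit B b`, `Γ = (orbit P b)ᶜ`.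

Proof. (L') If `β₀ ⊆ Λ ⊆ β₀ ∪ Γ`, `p < |Λ| < 2p` and `T = fixingSubgroup G Λᶜ` is transitive on `Λ`,
then `|Λ| = p + 1 = 2 ^ m`: `lemL` with `u ∈ B` moving `b` (`olB`; its powers are transitive on
`β₀` by `idx_prime`; `u` preserves `Λ`, so normalises `T`); `p ∤ |T|` by Cauchy and `noCyc`.
By `b2a`, `Λ = β₀ ∪ {c₀}`, `c₀ ∈ Γ`, `p + 1 = 2 ^ m`. Say `A e c` if
`fixingSubgroup G (orbit B e ∪ {c})ᶜ` is transitive on `orbit B e ∪ {c}`. `A b c₀`. If `A b c` and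
`A b c'` with `c ≠ c'` in `Γ`, apply (L') to `β₀ ∪ {c, c'}` (`p + 2 < 2p` points; the fixing subgroup
contains both groups): `p + 2 = p + 1`. `A e c → A (n • e) (n • c)` for `n` normalising `B`. For
`c ∈ Γ` take `n ∈ N(B)` with `n • c₀ = c` (`witt`); `n • b ∈ Δ` (`mem_fix`), `n • b = z • b` with
`z ∈ P ≤ N(B)`; `A b (z⁻¹ • c)`, so `c = z • c₀`. So `Γ ⊆ orbit P c₀`, of length `p`
(`P ⊓ G_{c₀} = B`). `|Γ| + p² = 2pq`, `0 < |Γ| ≤ p`, `p ∣ |Γ|` give `2q = p + 1 = 2 ^ m`, but `q` is an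
odd prime. -/
theorem b2b [Finite G] [Finite Ω] {p q : ℕ} (su : Su G Ω p q) {P B : Subgroup G} {b : Ω}
    (h : CB p q P B b) (hK : B ⊓ stabilizer G b ≠ ⊥) : False := by
  obtain ⟨Λ, h1, h2, h3, h4, h5⟩ := b2a su h hK
  obtain ⟨cd, m, hm⟩ := b2b_L su h h1 h2 h3 h4 h5
  have ob : (orbit B b).ncard = p := (ol_eq_ncard B b).symm.trans (h.olB b (mem_orbit_self b))
  obtain ⟨c₀, e₀⟩ : ∃ c₀, Λ \ orbit B b = {c₀} := Set.ncard_eq_one.1 (by
    rw [Set.ncard_sdiff h1, cd, ob]; omega)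
  have m₀ : ∀ x, x ∈ Λ ↔ x ∈ orbit B b ∨ x = c₀ := fun x => by
    rw [← Set.mem_singleton_iff, ← e₀]
    exact ⟨fun k => (em _).imp_right fun j => ⟨k, j⟩, fun k => k.elim (fun j => h1 j) fun j => j.1⟩
  have k₀ : c₀ ∈ Λ \ orbit B b := e₀ ▸ rfl
  have hc₀ : c₀ ∉ orbit P b := (h2 k₀.1).resolve_left k₀.2
  have a₀ : B2bA B b c₀ := fun y hy => by
    obtain ⟨t, ht, e⟩ := h5 b (h1 (mem_orbit_self b)) y ((m₀ y).2 hy)
    exact ⟨t, fun ω k1 k2 => (mem_fixingSubgroup_iff G).1 ht ω fun k => ((m₀ ω).1 k).elim k1 k2, e⟩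
  have sub : (orbit P b)ᶜ ⊆ orbit P c₀ := fun c hc => by
    obtain ⟨n, hn, rfl⟩ := h.witt c₀ c hc₀ hc
    have nb : n • b ∈ orbit P b := by
      by_contra k
      refine (h.mem_fix b).2 (fun v hv => ?_) (mem_orbit_self b)
      have := (h.mem_fix _).1 k _ ((Subgroup.mem_normalizer_iff.1 hn v).1 hv)
      simpa [mul_smul] using this
    obtain ⟨z, hz, e⟩ := mem_orbit_sub.1 nb
    have a := (a₀.smul hn).smul (h.norm (inv_mem hz))
    rw [← e, inv_smul_smul] at a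
    have := b2b_uniq su h hc₀ (fun k => hc ?_) a₀ a
    · exact mem_orbit_sub.2 ⟨z, hz, by rw [eq_inv_smul_iff.1 this]⟩
    · obtain ⟨w, hw, e'⟩ := mem_orbit_sub.1 k
      exact mem_orbit_sub.2 ⟨z * w, mul_mem hz hw, by rw [mul_smul, e', smul_inv_smul]⟩
  have le : (orbit P b)ᶜ.ncard ≤ p := (Set.ncard_le_ncard sub).trans (by
    rw [← ol_eq_ncard]
    refine Nat.le_of_dvd su.pp.pos (h.idx ▸ Subgroup.relIndex_dvd_of_le_left P fun v hv => ?_)
    exact (h.mem_fix c₀).1 hc₀ v hv)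
  have pos : 0 < (orbit P b)ᶜ.ncard := (Set.ncard_pos).2 ⟨c₀, hc₀⟩
  have dv : p ∣ (orbit P b)ᶜ.ncard := (Nat.dvd_add_iff_left (dvd_pow_self p two_ne_zero)).2 (by
    rw [h.cardG]; exact Dvd.intro (2 * q) (by ring))
  have eq := h.cardG
  rw [le_antisymm le (Nat.le_of_dvd pos dv)] at eq
  have e2 : p + 1 = 2 * q := Nat.eq_of_mul_eq_mul_left su.pp.pos (by linarith)
  have d : q ∣ 2 := su.qp.dvd_of_dvd_pow (hm ▸ e2 ▸ Dvd.intro_left 2 rfl : q ∣ 2 ^ m)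
  exact absurd (Nat.le_of_dvd two_pos d) (not_le.2 su.q2)

end Cfsg.Agent.E2Q
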