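import Mathlib
import Cfsg.Agent.E2Q.Def
import Cfsg.Agent.E2Q.Bas

set_option autoImplicit false

namespace Cfsg.Agent.E2Q

open MulAction

variable {G : Type*} [Group G] {Ω : Type*} [MulAction G Ω]

/-- **Burnside's normal complement**, ambient form. `B` Sylow in `H`, centralised by its normaliser
in `H`. Proof: in the group `↥H` let `S` be the Sylow subgroup `B.subgroupOf H`
(`IsPGroup.toSylow`), `hS : normalizer S ≤ centralizer S`; take
`K = (MonoidHom.transferSylow S hS).ker.map H.subtype` and use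
`MonoidHom.ker_transferSylow_isComplement'`, `MonoidHom.not_dvd_card_ker_transferSylow`. `K` is the
set of `p'`-elements of `H`: `H/K ≅ S` is a `p`-group, so a `p'`-element has trivial image; this
description gives the invariance under the normaliser of `H`. -/
theorem burn [Finite G] {p : ℕ} (hp : p.Prime) {B H : Subgroup G} (hB : Syl p B H)
    (hN : ∀ n ∈ H, n ∈ Subgroup.normalizer (B : Set G) → ∀ u ∈ B, n * u = u * n) :
    ∃ K : Subgroup G, K ≤ H ∧ ¬ p ∣ Nat.card K ∧ (∀ g ∈ H, g ∈ K ↔ ¬ p ∣ orderOf g) ∧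
      Subgroup.normalizer (H : Set G) ≤ Subgroup.normalizer (K : Set G) ∧
      (∀ h ∈ H, ∃ k ∈ K, ∃ u ∈ B, h = k * u) ∧ Nat.card H = Nat.card K * Nat.card B := by
  classical
  have := Fact.mk hp
  have hpg : IsPGroup p (B.subgroupOf H) :=
    hB.pg.of_equiv (Subgroup.subgroupOfEquivOfLe hB.le).symm
  let S : Sylow p H := hpg.toSylow hB.nd
  have hSm : ∀ x : H, x ∈ (S : Subgroup H) ↔ (x : G) ∈ B := fun x => Iff.rfl
  have hS : Subgroup.normalizer ((S : Subgroup H) : Set H) ≤
      Subgroup.centralizer ((S : Subgroup H) : Set H) := by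
    intro n hn
    rw [Subgroup.mem_centralizer_iff]
    intro u hu
    have hn' : (n : G) ∈ Subgroup.normalizer (B : Set G) := by
      rw [Subgroup.mem_normalizer_iff] at hn ⊢
      intro x
      constructor
      · intro hx
        exact (hn ⟨x, hB.le hx⟩).1 hx
      · intro hx
        have hxH : x ∈ H := by
          have := H.mul_mem (H.mul_mem (H.inv_mem n.2) (hB.le hx)) n.2
          simpa [mul_assoc] using this
        exact (hn ⟨x, hxH⟩).2 hx
    exact Subtype.ext (hN n n.2 hn' u hu).symm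
  set f := MonoidHom.transferSylow S hS with hf
  have hc := MonoidHom.ker_transferSylow_isComplement' S hS
  have hnd := MonoidHom.not_dvd_card_ker_transferSylow S hS
  have cK : Nat.card (f.ker.map H.subtype) = Nat.card f.ker :=
    Subgroup.card_map_of_injective H.subtype_injective
  have key : ∀ g ∈ H, g ∈ f.ker.map H.subtype ↔ ¬ p ∣ orderOf g := by
    intro g hg
    constructor
    · intro hk hd
      apply hnd
      rw [← cK]
      exact hd.trans (Subgroup.orderOf_dvd_natCard _ hk)
    · intro hd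
      refine ⟨⟨g, hg⟩, ?_, rfl⟩
      show f ⟨g, hg⟩ = 1
      obtain ⟨k, hk⟩ := IsPGroup.iff_orderOf.1 S.2 (f ⟨g, hg⟩)
      have h1 : orderOf (f ⟨g, hg⟩) ∣ orderOf g := by
        have := orderOf_map_dvd f ⟨g, hg⟩
        rwa [← Subgroup.orderOf_coe (⟨g, hg⟩ : H)] at this
      rw [hk] at h1
      rcases k with _ | k
      · exact orderOf_eq_one_iff.1 (by simpa using hk)
      · exact absurd ((dvd_pow_self p (Nat.succ_ne_zero k)).trans h1) hd
  have hKH : f.ker.map H.subtype ≤ H := Subgroup.map_subtype_le _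
  refine ⟨f.ker.map H.subtype, hKH, cK ▸ hnd, key, ?_, ?_, ?_⟩
  · intro n hn
    rw [Subgroup.mem_normalizer_iff] at hn ⊢
    intro x
    have ho : orderOf (n * x * n⁻¹) = orderOf x := by
      have := (MulAut.conj n).orderOf_eq x
      simpa using this
    constructor
    · intro hx
      have hxH := hKH hx
      exact (key _ ((hn x).1 hxH)).2 (ho ▸ (key x hxH).1 hx)
    · intro hx
      have hxH := (hn x).2 (hKH hx)
      exact (key x hxH).2 (ho ▸ (key _ (hKH hx)).1 hx)
  · intro h hh
    obtain ⟨⟨k, u⟩, e⟩ := hc.2 ⟨h, hh⟩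
    exact ⟨k.1, ⟨k.1, k.2, rfl⟩, u.1, u.2, (congrArg Subtype.val e).symm⟩
  · rw [cK, ← hc.card_mul_card]
    congr 1
    exact Nat.card_congr (Subgroup.subgroupOfEquivOfLe hB.le).toEquiv

end Cfsg.Agent.E2Q
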