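import Mathlib
import Cfsg.Agent.E2Q.Def
import Cfsg.Agent.Char.PermRank
import Cfsg.Agent.Char.Quot

set_option autoImplicit false

namespace Cfsg.Agent.E2Q

open MulAction Cfsg Cfsg.Agent.Char Subgroup

variable {G : Type*} [Group G] {Ω : Type*} [MulAction G Ω]

open Classical in
theorem a1_perm [Fintype Ω] (g : G) : permChar G Ω g = ∑ ω : Ω, if g • ω = ω then (1 : ℂ) else 0 := by
  rw [permChar_apply, Finset.sum_boole, Nat.card_eq_fintype_card, Fintype.card_subtype]
  rfl

/-- a constituent of `π` whose kernel contains a transitive subgroup is principal -/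
theorem a1_ker [Fintype G] [Finite Ω] {N : Subgroup G} (htr : ∀ a c : Ω, ∃ n ∈ N, n • a = c)
    {χ : G → ℂ} (hχ : IsIrrCharacter G χ) (h1 : χ ≠ fun _ => 1) (hN : N ≤ charKer χ) :
    classInner (permChar G Ω) χ = 0 := by
  classical
  have := Fintype.ofFinite Ω
  have k : ∀ g : G, ∑ n : N, permChar G Ω (g * n) = ∑ n : N, permChar G Ω n := fun g => by
    simp only [a1_perm]
    rw [Finset.sum_comm, Finset.sum_comm (f := fun (n : N) (ω : Ω) => if (n : G) • ω = ω then (1 : ℂ) else 0)]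
    refine Finset.sum_congr rfl fun ω _ => ?_
    obtain ⟨n₀, hn, e⟩ := htr ω (g⁻¹ • ω)
    refine (Fintype.sum_equiv (Equiv.mulLeft (⟨n₀, hn⟩ : N)) _ _ fun n => ?_).symm
    refine if_congr ?_ rfl rfl
    show (n : G) • ω = ω ↔ (g * (n₀ * n)) • ω = ω
    rw [mul_smul, ← eq_inv_smul_iff (g := g), ← e, mul_smul, smul_left_cancel_iff]
  have h2 : ∑ g : G, (starRingEnd ℂ) (χ g) = 0 := by
    rw [← map_sum, hχ.sum_eq_zero h1, map_zero]
  have h3 : ∑ _n : N, ∑ g : G, permChar G Ω g * (starRingEnd ℂ) (χ g) = 0 := by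
    calc _ = ∑ n : N, ∑ g : G, permChar G Ω (g * n) * (starRingEnd ℂ) (χ g) := by
          refine Finset.sum_congr rfl fun n _ => ?_
          refine (Fintype.sum_equiv (Equiv.mulRight (n : G)) _ _ fun g => ?_).symm
          show _ = permChar G Ω (g * n) * (starRingEnd ℂ) (χ (g * n))
          rw [apply_mul_of_mem_charKer hχ.isClassFunction (hN n.2)]
      _ = (∑ n : N, permChar G Ω n) * ∑ g : G, (starRingEnd ℂ) (χ g) := by
          rw [Finset.sum_comm, Finset.mul_sum]
          exact Finset.sum_congr rfl fun g _ => by rw [← Finset.sum_mul, k]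
      _ = 0 := by rw [h2, mul_zero]
  rw [Finset.sum_const, nsmul_eq_mul, mul_eq_zero] at h3
  rw [classInner_def, h3.resolve_left (Nat.cast_ne_zero.2 Finset.univ_nonempty.card_pos.ne'), mul_zero]

theorem a1_one [Finite Ω] {P : Subgroup G} [Fintype P] (hc : ∀ a b : P, a * b = b * a) {b : Ω}
    (hb : (orbit P b).ncard = Nat.card P) {y : P} (hfix : ∀ a, a ∉ orbit P b → (y : G) • a = a)
    {l : P → ℂ} (hl : IsIrrCharacter P l) (hy : l y ≠ 1) :
    classInner (fun h : P => permChar G Ω h) l = 1 := by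
  classical
  have := Fintype.ofFinite Ω
  obtain ⟨lam, rfl⟩ := hl.exists_linear_of_comm hc
  have hs : stabilizer P b = ⊥ := by
    have h1 := (stabilizer P b).index_mul_card
    rw [index_stabilizer, hb, mul_eq_left₀ Nat.card_pos.ne'] at h1
    exact card_eq_one.1 h1
  have reg : ∀ ω ∈ orbit P b, ∀ h : P, (h : G) • ω = ω ↔ h = 1 := by
    rintro _ ⟨k, rfl⟩ h
    refine ⟨fun e => mem_bot.1 (hs ▸ mem_stabilizer_iff.2 ?_), by rintro rfl; exact one_smul _ _⟩
    have e' : h • k • b = k • b := e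
    rwa [← mul_smul, hc, mul_smul, smul_left_cancel_iff] at e'
  have k : ∀ ω : Ω, ∑ h : P, (if (h : G) • ω = ω then (1 : ℂ) else 0) * (starRingEnd ℂ) (lam h : ℂ) =
      if ω ∈ orbit P b then 1 else 0 := fun ω => by
    split_ifs with hω
    · simp only [reg ω hω, ite_mul, one_mul, zero_mul, Finset.sum_ite_eq', Finset.mem_univ, if_true,
        map_one, Units.val_one]
    · set T := ∑ h : P, (if (h : G) • ω = ω then (1 : ℂ) else 0) * (starRingEnd ℂ) (lam h : ℂ) with hT
      have e : T * (starRingEnd ℂ) (lam y : ℂ) = T := by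
        rw [hT, Finset.sum_mul]
        refine Fintype.sum_equiv (Equiv.mulRight y) _ _ fun h => ?_
        show _ = (if ((h : G) * y) • ω = ω then (1 : ℂ) else 0) * (starRingEnd ℂ) (lam (h * y) : ℂ)
        rw [mul_smul, hfix ω hω, map_mul, Units.val_mul, map_mul, mul_assoc]
      by_contra h0
      apply hy
      have := (mul_eq_left₀ h0).1 e
      simpa using congrArg (starRingEnd ℂ) this
  rw [classInner_def]
  simp only [a1_perm, Finset.sum_mul]
  rw [Finset.sum_comm]
  simp only [k]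
  rw [Finset.sum_boole, show (Finset.univ.filter fun ω => ω ∈ orbit P b).card = Nat.card P by
    rw [← hb, Set.ncard_eq_toFinset_card']; congr 1; ext; simp]
  exact inv_mul_cancel₀ (card_ne_zero _)

/-- `P = zpowers x` cyclic of order `p²`, regular on `Δ = orbit P b`, `y = x ^ p` fixes the rest, and
the normal closure `N` of `y` is transitive. Then `π = permChar G Ω` is multiplicity free, and each
faithful linear character of `P` (`l y ≠ 1`) lies under exactly one constituent.

Proof. Irreducible characters of `P` are linear (`IsIrrCharacter.exists_linear_of_comm`). For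
`l y ≠ 1`: `⟨π|_P, l⟩ = 1`: `π h = #Fix_Δ h + #Fix_Γ h`, the first is `p²` at `h = 1` and `0`
otherwise (abelian, transitive on `p² = |P|` points), the second `f` has `f (h y) = f h`, so
`∑ f h conj (l h) = conj (l y) ∑ …` vanishes. Write `π = ∑ c χ • χ` (`IsCharacter.exists_coeff`),
`c 1 = 1` (transitive), `S = {χ ≠ 1 | c χ ≠ 0}`. `1 = ∑ c χ ⟨χ|_P, l⟩` with natural numbers
(`IsCharacter.exists_nat_inner`, `IsCharacter.restrict`) gives uniqueness, and `c χ = 1` as soon as
`⟨χ|_P, l⟩ ≠ 0` for some such `l`. If `χ ∈ S` had no such `l`, then `χ y = χ 1` (expand `χ|_P`), so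
`χ (g n) = χ g` for `n ∈ N` (kernel of `χ` is a normal subgroup; see `Char/Quot`, `Char/Basic`), and
`∑_{n ∈ N} π (g n) = |N|` (for each `ω` there are `|N_ω| = |N| / |Ω|` elements `n` with
`n • ω = g⁻¹ • ω`); so `|N| ⟨π, χ⟩ = |N| ⟨1, χ⟩ = 0`: contradiction. -/
theorem chrA1 [Fintype G] [Finite Ω] {p : ℕ} (hp : p.Prime) {x : G} [Fintype (zpowers x)]
    (hx : orderOf x = p ^ 2) {b : Ω} (hb : (orbit (zpowers x) b).ncard = p ^ 2)
    (hfix : ∀ a, a ∉ orbit (zpowers x) b → x ^ p • a = a)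
    (htr : ∀ a c : Ω, ∃ n ∈ normalClosure ({x ^ p} : Set G), n • a = c) :
    ∃ S : Finset (IrrCharacter G), (∀ g, permChar G Ω g = 1 + ∑ χ ∈ S, (χ : G → ℂ) g) ∧
      irrOne G ∉ S ∧
      (∀ χ ∈ S, ∃ l : zpowers x → ℂ, IsIrrCharacter _ l ∧ l ⟨x ^ p, npow_mem_zpowers x p⟩ ≠ 1 ∧
        classInner (fun h : zpowers x => (χ : G → ℂ) h) l ≠ 0) ∧
      (∀ l : zpowers x → ℂ, IsIrrCharacter _ l → l ⟨x ^ p, npow_mem_zpowers x p⟩ ≠ 1 →
        ∀ χ ∈ S, ∀ ψ ∈ S, classInner (fun h : zpowers x => (χ : G → ℂ) h) l ≠ 0 →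
          classInner (fun h : zpowers x => (ψ : G → ℂ) h) l ≠ 0 → χ = ψ) := by
  classical
  have hc : ∀ a b : zpowers x, a * b = b * a := fun a b => mul_comm' a b
  have hcard : (orbit (zpowers x) b).ncard = Nat.card (zpowers x) := by rw [hb, Nat.card_zpowers, hx]
  have : IsPretransitive G Ω := ⟨fun a c => (htr a c).imp fun _ h => h.2⟩
  have : Nonempty Ω := ⟨b⟩
  obtain ⟨c, hc1, hc2⟩ := (isCharacter_permChar (G := G) Ω).exists_coeff
  have c1 : c (irrOne G) = 1 := by
    have := hc1 (irrOne G)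
    rw [show ((irrOne G : IrrCharacter G) : G → ℂ) = fun _ => 1 from rfl,
      classInner_permChar_one_of_isPretransitive] at this
    exact_mod_cast this.symm
  have ev : ∀ g, permChar G Ω g = ∑ χ : IrrCharacter G, (c χ : ℂ) * (χ : G → ℂ) g := fun g => by
    conv_lhs => rw [hc2]
    rw [Finset.sum_apply]; rfl
  have key : ∀ l : zpowers x → ℂ, IsIrrCharacter _ l → l ⟨x ^ p, npow_mem_zpowers x p⟩ ≠ 1 →
      ∃ m : IrrCharacter G → ℕ, (∀ χ : IrrCharacter G,
        classInner (fun h : zpowers x => (χ : G → ℂ) h) l = m χ) ∧ ∑ χ, c χ * m χ = 1 := by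
    intro l hl hy
    choose m hm using fun χ : IrrCharacter G =>
      (χ.2.isCharacter.restrict (zpowers x)).exists_nat_inner hl.isCharacter
    refine ⟨m, hm, ?_⟩
    have h1 := a1_one hc hcard (y := ⟨x ^ p, npow_mem_zpowers x p⟩) hfix hl hy
    have h2 : (fun h : zpowers x => permChar G Ω h) =
        ∑ χ : IrrCharacter G, (c χ : ℂ) • fun h : zpowers x => (χ : G → ℂ) h := by
      funext h
      rw [ev, Finset.sum_apply]; rfl
    rw [h2, classInner_sum_left] at h1
    simp only [classInner_smul_left, hm] at h1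
    exact_mod_cast h1
  have ex : ∀ χ : IrrCharacter G, χ ≠ irrOne G → c χ ≠ 0 →
      ∃ l : zpowers x → ℂ, IsIrrCharacter _ l ∧ l ⟨x ^ p, npow_mem_zpowers x p⟩ ≠ 1 ∧
        classInner (fun h : zpowers x => (χ : G → ℂ) h) l ≠ 0 := by
    intro χ h1 h0
    by_contra hn
    push Not at hn
    have hk : x ^ p ∈ charKer (χ : G → ℂ) := by
      rw [mem_charKer_irr]
      have hr := (χ.2.isCharacter.restrict (zpowers x)).isClassFunction
      refine (hr.apply_eq_sum_irr ⟨x ^ p, npow_mem_zpowers x p⟩).trans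
        (Eq.trans ?_ (hr.apply_eq_sum_irr 1).symm)
      refine Finset.sum_congr rfl fun l _ => ?_
      by_cases e : (l : zpowers x → ℂ) ⟨x ^ p, npow_mem_zpowers x p⟩ = 1
      · rw [e, l.2.one_eq_one_of_comm hc]
      · rw [hn l l.2 e, zero_mul, zero_mul]
    have := a1_ker htr χ.2 (fun e => h1 (Subtype.ext e))
      (normalClosure_le_normal (Set.singleton_subset_iff.2 hk))
    rw [hc1] at this
    exact h0 (by exact_mod_cast this)
  refine ⟨Finset.univ.filter fun χ => χ ≠ irrOne G ∧ c χ ≠ 0, fun g => ?_, by simp,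
    fun χ hχ => ex χ (Finset.mem_filter.1 hχ).2.1 (Finset.mem_filter.1 hχ).2.2, ?_⟩
  · rw [ev, ← Finset.add_sum_erase _ _ (Finset.mem_univ (irrOne G)), c1, irrOne_apply, Nat.cast_one,
      one_mul, Finset.sum_filter, ← Finset.add_sum_erase _ _ (Finset.mem_univ (irrOne G)),
      if_neg (by simp), zero_add]
    congr 1
    refine Finset.sum_congr rfl fun χ hχ => ?_
    have h1 := Finset.ne_of_mem_erase hχ
    by_cases h0 : c χ = 0
    · rw [if_neg (by simp [h0]), h0, Nat.cast_zero, zero_mul]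
    · obtain ⟨l, hl, hy, hn⟩ := ex χ h1 h0
      obtain ⟨m, hm, hs⟩ := key l hl hy
      have h2 : m χ ≠ 0 := fun e => hn (by rw [hm, e, Nat.cast_zero])
      have h3 : c χ * m χ ≤ 1 := hs ▸ Finset.single_le_sum (f := fun χ => c χ * m χ)
        (fun _ _ => Nat.zero_le _) (Finset.mem_univ χ)
      have h4 : c χ = 1 := by
        have := Nat.le_mul_of_pos_right (c χ) (Nat.pos_of_ne_zero h2)
        omega
      rw [if_pos ⟨h1, h0⟩, h4, Nat.cast_one, one_mul]
  · intro l hl hy χ hχ ψ hψ n1 n2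
    obtain ⟨m, hm, hs⟩ := key l hl hy
    by_contra hne
    have h1 : 0 < c χ * m χ := Nat.mul_pos (Nat.pos_of_ne_zero (Finset.mem_filter.1 hχ).2.2)
      (Nat.pos_of_ne_zero fun e => n1 (by rw [hm, e, Nat.cast_zero]))
    have h2 : 0 < c ψ * m ψ := Nat.mul_pos (Nat.pos_of_ne_zero (Finset.mem_filter.1 hψ).2.2)
      (Nat.pos_of_ne_zero fun e => n2 (by rw [hm, e, Nat.cast_zero]))
    have h3 := Finset.add_le_sum (f := fun χ => c χ * m χ) (fun _ _ => Nat.zero_le _)
      (Finset.mem_univ χ) (Finset.mem_univ ψ) hne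
    simp only [hs] at h3
    omega

end Cfsg.Agent.E2Q
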