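import Mathlib
import Cfsg.Agent.E2Q.Def
import Cfsg.Agent.Char.PermRank
import Cfsg.Agent.Char.GalOdd

set_option autoImplicit false

namespace Cfsg.Agent.E2Q

open MulAction Cfsg Cfsg.Agent.Char Subgroup

variable {G : Type*} [Group G] {Ω : Type*} [MulAction G Ω]

theorem chrA2_fix [Finite G] {k : ℕ} (hk : k.Coprime (Nat.card G)) (g : G) :
    permChar G Ω (g ^ k) = permChar G Ω g := by
  have hp : ∀ (a : G) (m : ℕ), fixedBy Ω a ⊆ fixedBy Ω (a ^ m) := fun a m => by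
    have := fixedBy_subset_fixedBy_zpow Ω a (m : ℤ)
    rwa [zpow_natCast] at this
  have e : fixedBy Ω (g ^ k) = fixedBy Ω g := by
    refine Set.Subset.antisymm ?_ (hp g k)
    obtain ⟨m, hm⟩ := exists_pow_eq_self_of_coprime (hk.coprime_dvd_right (orderOf_dvd_natCard g))
    have := hp (g ^ k) m
    rwa [hm] at this
  rw [permChar_apply, permChar_apply, e]

theorem chrA2_lin [Finite G] {p : ℕ} (hp : p.Prime) {x : G} (hx : orderOf x = p ^ 2)
    (l m : zpowers x →* ℂˣ) (hl : (l ⟨x ^ p, npow_mem_zpowers x p⟩ : ℂ) ≠ 1)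
    (hm : (m ⟨x ^ p, npow_mem_zpowers x p⟩ : ℂ) ≠ 1) :
    ∃ k : ℕ, k.Coprime (Nat.card G) ∧ ∀ h : zpowers x, (m h : ℂ) = l (h ^ k) := by
  haveI := Fact.mk hp
  set y : zpowers x := ⟨x, mem_zpowers x⟩ with hy
  have hyp : (⟨x ^ p, npow_mem_zpowers x p⟩ : zpowers x) = y ^ p := rfl
  have hy2 : y ^ p ^ 2 = 1 := Subtype.ext (by
    show x ^ p ^ 2 = 1
    rw [← hx, pow_orderOf_eq_one])
  rw [hyp, map_pow, Units.val_pow_eq_pow_val] at hl hm
  have hl2 : (l y : ℂ) ^ p ^ 2 = 1 := by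
    rw [← Units.val_pow_eq_pow_val, ← map_pow, hy2, map_one, Units.val_one]
  have hm2 : (m y : ℂ) ^ p ^ 2 = 1 := by
    rw [← Units.val_pow_eq_pow_val, ← map_pow, hy2, map_one, Units.val_one]
  have ho : orderOf (l y : ℂ) = p ^ 2 :=
    orderOf_eq_prime_pow (n := 1) (by rwa [pow_one]) hl2
  have hprim : IsPrimitiveRoot (l y : ℂ) (p ^ 2) := ho ▸ IsPrimitiveRoot.orderOf _
  haveI : NeZero (p ^ 2) := ⟨pow_ne_zero 2 hp.ne_zero⟩
  obtain ⟨k0, -, hk0⟩ := hprim.eq_pow_of_pow_eq_one hm2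
  have hnd : ¬ p ∣ k0 := by
    rintro ⟨c, rfl⟩
    apply hm
    rw [← hk0, ← pow_mul, show p * c * p = p ^ 2 * c by ring, pow_mul, hl2, one_pow]
  have hco : k0.Coprime (p ^ 2) := ((Nat.Prime.coprime_iff_not_dvd hp).2 hnd).symm.pow_right 2
  obtain ⟨k, hk1, hk2, hk3⟩ := Nat.forall_exists_prime_gt_and_modEq (Nat.card G)
    (pow_ne_zero 2 hp.ne_zero) hco
  refine ⟨k, (Nat.Prime.coprime_iff_not_dvd hk2).2 fun hd =>
    absurd (Nat.le_of_dvd Nat.card_pos hd) (by omega), fun h => ?_⟩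
  have hk : (l y : ℂ) ^ k = m y := by
    rw [← hk0, ← pow_mod_orderOf _ k, ← pow_mod_orderOf _ k0, ho, hk3]
  obtain ⟨i, hi⟩ : ∃ i : ℕ, h = y ^ i := by
    obtain ⟨i, hi⟩ := (mem_powers_iff_mem_zpowers (x := x) (y := (h : G))).2 h.2
    exact ⟨i, Subtype.ext hi.symm⟩
  rw [hi, ← pow_mul, mul_comm, map_pow, map_pow, Units.val_pow_eq_pow_val,
    Units.val_pow_eq_pow_val, pow_mul, hk]

/-- The constituents from `chrA1` are Galois conjugate, and count the orbitals.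

Proof. `π = 1 + ∑_{S} χ` with distinct irreducibles gives `⟨π, π⟩ = 1 + |S|`
(`classInner_permChar_permChar`, `irr_inner`), and `χ ∈ S ↔ χ ≠ 1 ∧ ⟨π, χ⟩ ≠ 0`. Let `l`, `l'` be
the linear characters of `P = zpowers x` for `χ`, `ψ` (`IsIrrCharacter.exists_linear_of_comm`).
`l x` and `l' x` are primitive `p²`-th roots of unity (`(l x)^(p²) = 1`, `(l x)^p ≠ 1`), so
`l' x = (l x) ^ k₀` with `p ∤ k₀`; choose `k ≡ k₀ (mod p²)` coprime to `|G|` (e.g. surjectivity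
`ZMod.unitsMap_surjective` for `p² ∣ |G|`); then `l' h = l (h ^ k)`. `χ' g = χ (g ^ k)` is irreducible
(`IsIrrCharacter.comp_pow`), not `1` , `π (g ^ k) = π g` (same fixed points), so `⟨π, χ'⟩ ≠ 0`
(reindex by the bijection `g ↦ g ^ k`, or `classInner_restrict_comp_pow`), `χ' ∈ S`;
`classInner_restrict_comp_pow` gives `⟨χ'|_P, l'⟩ ≠ 0`; uniqueness gives `ψ = χ'`. -/
theorem chrA2 [Fintype G] [Finite Ω] {p : ℕ} (hp : p.Prime) {x : G} [Fintype (zpowers x)]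
    (hx : orderOf x = p ^ 2) {S : Finset (IrrCharacter G)}
    (h1 : ∀ g, permChar G Ω g = 1 + ∑ χ ∈ S, (χ : G → ℂ) g) (h2 : irrOne G ∉ S)
    (h3 : ∀ χ ∈ S, ∃ l : zpowers x → ℂ, IsIrrCharacter _ l ∧ l ⟨x ^ p, npow_mem_zpowers x p⟩ ≠ 1 ∧
        classInner (fun h : zpowers x => (χ : G → ℂ) h) l ≠ 0)
    (h4 : ∀ l : zpowers x → ℂ, IsIrrCharacter _ l → l ⟨x ^ p, npow_mem_zpowers x p⟩ ≠ 1 →
        ∀ χ ∈ S, ∀ ψ ∈ S, classInner (fun h : zpowers x => (χ : G → ℂ) h) l ≠ 0 →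
          classInner (fun h : zpowers x => (ψ : G → ℂ) h) l ≠ 0 → χ = ψ) :
    Nat.card (orbitRel.Quotient G (Ω × Ω)) = S.card + 1 ∧
      ∀ χ ∈ S, ∀ ψ ∈ S, ∃ k : ℕ, k.Coprime (Nat.card G) ∧
        ∀ g, (ψ : G → ℂ) g = (χ : G → ℂ) (g ^ k) := by
  classical
  have hπ : permChar G Ω = (irrOne G : G → ℂ) + ∑ χ ∈ S, (χ : G → ℂ) := by
    funext g
    rw [h1, Pi.add_apply, Finset.sum_apply, irrOne_apply]
  have hin : ∀ ψ : IrrCharacter G, classInner (permChar G Ω) (ψ : G → ℂ) =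
      (if irrOne G = ψ then 1 else 0) + if ψ ∈ S then 1 else 0 := by
    intro ψ
    rw [hπ, classInner_add_left, classInner_sum_left, irr_inner]
    simp only [irr_inner, Finset.sum_ite_eq']
  refine ⟨?_, fun χ hχ ψ hψ => ?_⟩
  · have h := classInner_permChar_permChar (G := G) Ω Ω
    have h' : classInner (permChar G Ω) (permChar G Ω) = 1 + S.card := by
      conv_lhs => rw [show classInner (permChar G Ω) (permChar G Ω) =
        classInner (permChar G Ω) ((irrOne G : G → ℂ) + ∑ χ ∈ S, (χ : G → ℂ)) by rw [← hπ]]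
      rw [classInner_add_right, classInner_sum_right, hin, if_pos rfl, if_neg h2, add_zero,
        Finset.sum_congr rfl (g := fun _ => (1 : ℂ)) fun ψ hψ => by
          rw [hin, if_pos hψ, if_neg (fun e : irrOne G = ψ => h2 (e ▸ hψ)), zero_add]]
      simp
    rw [h'] at h
    have : (Nat.card (orbitRel.Quotient G (Ω × Ω)) : ℂ) = ((S.card + 1 : ℕ) : ℂ) := by
      rw [← h]; push_cast; ring
    exact_mod_cast this
  obtain ⟨l, hl1, hl2, hl3⟩ := h3 χ hχ
  obtain ⟨m, hm1, hm2, hm3⟩ := h3 ψ hψ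
  have hc : ∀ a b : zpowers x, a * b = b * a := fun a b => Subtype.ext (by
    obtain ⟨i, hi⟩ := a.2
    obtain ⟨j, hj⟩ := b.2
    show (a : G) * b = b * a
    rw [← hi, ← hj]
    exact zpow_mul_comm x i j)
  obtain ⟨l0, hl0⟩ := hl1.exists_linear_of_comm hc
  obtain ⟨m0, hm0⟩ := hm1.exists_linear_of_comm hc
  obtain ⟨k, hk, hkm⟩ := chrA2_lin hp hx l0 m0 (by rwa [hl0] at hl2) (by rwa [hm0] at hm2)
  refine ⟨k, hk, fun g => ?_⟩
  let χ' : IrrCharacter G := ⟨fun g => (χ : G → ℂ) (g ^ k), χ.2.comp_pow hk⟩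
  have e1 : classInner (permChar G Ω) (χ' : G → ℂ) = classInner (permChar G Ω) (χ : G → ℂ) := by
    unfold classInner
    congr 1
    rw [← Equiv.sum_comp (powCoprime hk.symm) fun g => permChar G Ω g * (starRingEnd ℂ) ((χ : G → ℂ) g)]
    refine Finset.sum_congr rfl fun a _ => ?_
    show permChar G Ω a * _ = permChar G Ω (a ^ k) * _
    rw [chrA2_fix hk]
    rfl
  have n1 : irrOne G ≠ χ' := by
    intro e
    apply h2
    have : irrOne G = χ := Subtype.ext (funext fun a => by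
      obtain ⟨b, rfl⟩ := (powCoprime hk.symm).surjective a
      exact congrFun (congrArg Subtype.val e) b)
    rw [this]; exact hχ
  have hS : χ' ∈ S := by
    by_contra hn
    rw [hin, hin, if_neg n1, if_neg hn, if_pos hχ, if_neg (fun e : irrOne G = χ => h2 (e ▸ hχ))] at e1
    simp at e1
  have h5 := classInner_restrict_comp_pow (zpowers x) hk χ.2.isCharacter hl1.isCharacter hl3
  have e2 : (fun n : zpowers x => l (n ^ k)) = m := by
    funext n
    rw [hl0, hm0]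
    exact (hkm n).symm
  rw [e2] at h5
  have := h4 m hm1 hm2 χ' hS ψ hψ h5 hm3
  rw [← this]

end Cfsg.Agent.E2Q
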