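import Mathlib
import Cfsg.Agent.E2Q.Def
import Cfsg.Agent.Char.Irr

set_option autoImplicit false

namespace Cfsg.Agent.E2Q

open MulAction Cfsg Cfsg.Agent.Char Subgroup

variable {G : Type*} [Group G] {Ω : Type*} [MulAction G Ω]

/-- A finite group acting freely on a set: its order divides the sum of an invariant function. -/
theorem chrC_dvd_sum {U X : Type*} [Group U] [Finite U] [MulAction U X] (s : Finset X)
    (m : X → ℕ) (hs : ∀ (u : U) x, x ∈ s → u • x ∈ s)
    (hfree : ∀ (u : U) x, x ∈ s → u • x = x → u = 1) (hm : ∀ (u : U) x, m (u • x) = m x) :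
    Nat.card U ∣ ∑ x ∈ s, m x := by
  classical
  haveI := Fintype.ofFinite U
  rw [← Finset.sum_fiberwise_of_maps_to (s := s)
    (t := s.image (fun x => (Quotient.mk (orbitRel U X) x)))
    (g := fun x => (Quotient.mk (orbitRel U X) x)) (fun x hx => Finset.mem_image_of_mem _ hx)]
  refine Finset.dvd_sum fun q hq => ?_
  obtain ⟨x0, hx0, rfl⟩ := Finset.mem_image.1 hq
  have hinj : Function.Injective (fun u : U => u • x0) := by
    intro u v h
    have h1 : (v⁻¹ * u) • x0 = x0 := by
      have h' : u • x0 = v • x0 := h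
      rw [mul_smul, h', inv_smul_smul]
    have := hfree _ _ hx0 h1
    rw [inv_mul_eq_one] at this
    exact this.symm
  have he : s.filter (fun x => (Quotient.mk (orbitRel U X) x) = Quotient.mk (orbitRel U X) x0)
      = Finset.univ.image (fun u : U => u • x0) := by
    ext x
    simp only [Finset.mem_filter, Finset.mem_image, Finset.mem_univ, true_and, Quotient.eq]
    constructor
    · rintro ⟨_, h⟩
      obtain ⟨u, hu⟩ := (orbitRel_apply.1 h)
      exact ⟨u, hu⟩
    · rintro ⟨u, rfl⟩
      exact ⟨hs u x0 hx0, orbitRel_apply.2 ⟨u, rfl⟩⟩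
  rw [he, Finset.sum_image (fun a _ b _ h => hinj h)]
  simp only [hm, Finset.sum_const, Finset.card_univ, smul_eq_mul, Nat.card_eq_fintype_card]
  exact Dvd.intro _ rfl

theorem chrC_relIndex_eq (y : G) :
    (centralizer ({y} : Set G)).relIndex (normalizer (zpowers y : Set G))
      = Nat.card (zpowers y).normalizerMonoidHom.range := by
  rw [← index_ker, normalizerMonoidHom_ker, relIndex, zpowers_eq_closure, centralizer_closure]

/-- Automorphisms act on the irreducible characters. -/
@[reducible] noncomputable def chrCAct {B : Type*} [Group B] (U : Subgroup (MulAut B)) :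
    MulAction U (IrrCharacter B) where
  smul σ μ := ⟨fun b => μ.1 ((σ.1⁻¹ : MulAut B) b), μ.2.comp_mulEquiv (σ.1⁻¹ : MulAut B)⟩
  one_smul μ := by
    apply Subtype.ext
    funext b
    change μ.1 (((1 : MulAut B)⁻¹ : MulAut B) b) = μ.1 b
    simp
  mul_smul σ τ μ := by
    apply Subtype.ext
    funext b
    change μ.1 (((σ.1 * τ.1)⁻¹ : MulAut B) b) = μ.1 ((τ.1⁻¹ : MulAut B) ((σ.1⁻¹ : MulAut B) b))
    simp

/-- `N(⟨y⟩)/C(y)` embeds in `Aut(C_p)`: the homomorphism `N → (ZMod p)ˣ`, `n y n⁻¹ = y ^ k`, has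
kernel `C(y)` (or `Subgroup.normalizerMonoidHom`, `IsCyclic.card_mulAut`). -/
theorem relIndex_dvd [Finite G] {p : ℕ} (hp : p.Prime) {y : G} (hy : orderOf y = p) :
    (centralizer ({y} : Set G)).relIndex (normalizer (zpowers y : Set G)) ∣ p - 1 := by
  rw [chrC_relIndex_eq]
  have h := card_subgroup_dvd_card (zpowers y).normalizerMonoidHom.range
  rwa [IsCyclic.card_mulAut, Nat.card_zpowers, hy, Nat.totient_prime hp] at h

/-- The number `t` of eigenvalues `≠ 1` of `y` in `χ` is divisible by `f = |N(⟨y⟩) : C(y)|`.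
Proof. `B = zpowers y`; for `μ : IrrCharacter B` (linear) `m μ = ⟨χ|_B, μ⟩ ∈ ℕ`, `χ 1 = ∑ m μ`,
`p * m 1 = ∑_{i<p} χ (y ^ i)`; `t = ∑_{μ ≠ 1} m μ`. `N` acts on `Irr B` by conjugation
(`Char/ConjChar`, or directly), `m` is invariant (`χ` is a class function), the stabiliser of
`μ ≠ 1` is `C(y)` (`μ` is injective on `B`), so all orbits on `{μ ≠ 1}` have length `f`. Explicit
alternative: `ζ` a primitive `p`-th root, `m j = p⁻¹ ∑_i χ (y^i) ζ^(-i j)` for `j : ZMod p`,
`U ≤ (ZMod p)ˣ` the image of `N` (order `f`), `m (j k) = m j` for `k ∈ U`; sum over cosets of `U`. -/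
theorem chrC [Finite G] {p : ℕ} (hp : p.Prime) {y : G} (hy : orderOf y = p) {χ : G → ℂ}
    (hχ : IsCharacter G χ) :
    ∃ t : ℕ, (centralizer ({y} : Set G)).relIndex (normalizer (zpowers y : Set G)) ∣ t ∧
      (p : ℂ) * t = p * χ 1 - ∑ i ∈ Finset.range p, χ (y ^ i) := by
  classical
  haveI : Fact p.Prime := ⟨hp⟩
  haveI := Fintype.ofFinite (zpowers y)
  have hcard : Nat.card (zpowers y) = p := by rw [Nat.card_zpowers, hy]
  have hcomm : ∀ a b : zpowers y, a * b = b * a := by
    rintro ⟨_, i, rfl⟩ ⟨_, j, rfl⟩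
    apply Subtype.ext
    exact (zpow_mul_comm y i j)
  obtain ⟨c, hc, hsum⟩ := (hχ.restrict (zpowers y)).exists_coeff
  have h1 : χ 1 = ∑ μ : IrrCharacter (zpowers y), (c μ : ℂ) := by
    have := congrFun hsum 1
    simp only [OneMemClass.coe_one, Finset.sum_apply, Pi.smul_apply, smul_eq_mul] at this
    rw [this]
    refine Finset.sum_congr rfl fun μ _ => ?_
    rw [μ.2.one_eq_one_of_comm hcomm, mul_one]
  have h2 : ∑ i ∈ Finset.range p, χ (y ^ i) = p * c (irrOne (zpowers y)) := by
    have h3 := hc (irrOne (zpowers y))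
    have h4 : ((irrOne (zpowers y) : IrrCharacter (zpowers y)) : zpowers y → ℂ) = fun _ => 1 := by
      funext g; simp
    rw [h4, classInner_one_right, hcard] at h3
    have hp0 : (p : ℂ) ≠ 0 := by exact_mod_cast hp.ne_zero
    rw [← h3, ← mul_assoc, mul_inv_cancel₀ hp0, one_mul,
      ← Equiv.sum_comp (finEquivZPowers (isOfFinOrder_of_finite y)), ← hy, Finset.sum_range]
    rfl
  refine ⟨∑ μ ∈ Finset.univ.erase (irrOne (zpowers y)), c μ, ?_, ?_⟩
  · rw [chrC_relIndex_eq]
    letI := chrCAct (zpowers y).normalizerMonoidHom.range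
    have hsm : ∀ (σ : (zpowers y).normalizerMonoidHom.range) (μ : IrrCharacter (zpowers y))
        (b : zpowers y), (σ • μ).1 b = μ.1 ((σ.1⁻¹ : MulAut (zpowers y)) b) := fun _ _ _ => rfl
    refine chrC_dvd_sum _ c ?_ ?_ ?_
    · intro σ μ hμ
      simp only [Finset.mem_erase, ne_eq, Finset.mem_univ, and_true] at hμ ⊢
      intro h
      apply hμ
      apply Subtype.ext
      funext b
      have := congrFun (congrArg Subtype.val h) (σ.1 b)
      rw [hsm] at this
      simpa using this
    · intro σ μ hμ h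
      simp only [Finset.mem_erase, ne_eq, Finset.mem_univ, and_true] at hμ
      obtain ⟨lam, hlam⟩ := μ.2.exists_linear_of_comm hcomm
      have hker : lam.ker = ⊥ := by
        haveI : Fact (Nat.card (zpowers y)).Prime := ⟨by rw [hcard]; exact hp⟩
        rcases lam.ker.eq_bot_or_eq_top_of_prime_card with h' | h'
        · exact h'
        · exfalso
          apply hμ
          apply Subtype.ext
          funext b
          have hb : b ∈ lam.ker := h' ▸ mem_top b
          rw [MonoidHom.mem_ker] at hb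
          rw [hlam]
          simp [hb]
      have hinj : Function.Injective lam := (MonoidHom.ker_eq_bot_iff lam).1 hker
      apply Subtype.ext
      ext1 b
      have := congrFun (congrArg Subtype.val h) (σ.1 b)
      rw [hsm, hlam] at this
      have h5 := hinj (Units.ext this)
      simpa using h5.symm
    · intro σ μ
      have h6 : (fun b : zpowers y => χ ((σ.1⁻¹ : MulAut (zpowers y)) b : zpowers y))
          = fun b : zpowers y => χ b := by
        funext b
        obtain ⟨n, hn⟩ := (σ⁻¹).2
        have hn' : (σ.1⁻¹ : MulAut (zpowers y)) = (zpowers y).normalizerMonoidHom n := hn.symm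
        rw [hn']
        exact hχ.isClassFunction b n
      have h7 := classInner_comp_mulEquiv (σ.1⁻¹ : MulAut (zpowers y))
        (fun b : zpowers y => χ b) μ.1
      have h8 := hc (σ • μ)
      have h9 : ((σ • μ : IrrCharacter (zpowers y)) : zpowers y → ℂ)
          = fun b => μ.1 ((σ.1⁻¹ : MulAut (zpowers y)) b) := rfl
      rw [h9, ← h6, h7, hc μ] at h8
      exact_mod_cast h8.symm
  · rw [h1, h2, ← Finset.add_sum_erase Finset.univ _ (Finset.mem_univ (irrOne (zpowers y)))]
    push_cast
    ring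

end Cfsg.Agent.E2Q
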