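import Mathlib
import Cfsg.Agent.E2Q.Def
import Cfsg.Agent.E2Q.ChrA1
import Cfsg.Agent.E2Q.ChrA2
import Cfsg.Agent.E2Q.ChrC

set_option autoImplicit false

namespace Cfsg.Agent.E2Q

open MulAction Cfsg Cfsg.Agent.Char Subgroup

variable {G : Type*} [Group G] {Ω : Type*} [MulAction G Ω]

theorem chr_sum {p k : ℕ} {y : G} (hy : orderOf y = p) (hp : 0 < p) (hk : k.Coprime p) (F : G → ℂ) :
    ∑ i ∈ Finset.range p, F ((y ^ i) ^ k) = ∑ i ∈ Finset.range p, F (y ^ i) := by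
  have hi : Set.InjOn (fun i => i * k % p) (Finset.range p : Set ℕ) := fun a ha b hb e =>
    Nat.ModEq.eq_of_lt_of_lt (Nat.ModEq.cancel_right_of_coprime hk.symm e)
      (Finset.mem_range.1 ha) (Finset.mem_range.1 hb)
  have he : (Finset.range p).image (fun i => i * k % p) = Finset.range p :=
    Finset.eq_of_subset_of_card_le (Finset.image_subset_iff.2 fun i _ =>
      Finset.mem_range.2 (Nat.mod_lt _ hp)) (Finset.card_image_of_injOn hi).ge
  conv_rhs => rw [← he, Finset.sum_image hi]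
  refine Finset.sum_congr rfl fun i _ => ?_
  rw [← pow_mul, ← hy, pow_mod_orderOf]

theorem chr_fix [Finite G] [Finite Ω] {p : ℕ} {x : G}
    (hx : orderOf x = p ^ 2) {b : Ω} (hb : (orbit (zpowers x) b).ncard = p ^ 2)
    (hfix : ∀ a, a ∉ orbit (zpowers x) b → x ^ p • a = a) {i : ℕ} (hi : (x ^ p) ^ i ≠ 1) :
    p ^ 2 + Nat.card (fixedBy Ω ((x ^ p) ^ i)) = Nat.card Ω := by
  have h1 : stabilizer (zpowers x) b = ⊥ := by
    have := (stabilizer (zpowers x) b).card_mul_index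
    rw [index_stabilizer, hb, Nat.card_zpowers, hx] at this
    exact card_eq_one.1 ((Nat.mul_eq_right (hx ▸ (orderOf_pos x).ne')).1 this)
  have h2 : fixedBy Ω ((x ^ p) ^ i) = (orbit (zpowers x) b)ᶜ := by
    ext a
    refine ⟨fun h ha => hi ?_, fun h => (stabilizer G a).pow_mem (hfix a h) i⟩
    obtain ⟨_, ⟨n, rfl⟩, rfl⟩ := mem_orbit_sub.1 ha
    have c : (x ^ p) ^ i * x ^ n = x ^ n * (x ^ p) ^ i :=
      (((Commute.refl x).zpow_right n).pow_left p).pow_left i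
    rw [mem_fixedBy, ← mul_smul, c, mul_smul, smul_left_cancel_iff] at h
    exact congrArg Subtype.val
      (h1.le (show (⟨_, pow_mem (npow_mem_zpowers x p) i⟩ : zpowers x) ∈ stabilizer _ b from h))
  rw [h2, ← hb]
  exact Set.ncard_add_ncard_compl _

/-- The rank `ρ + 1` satisfies `ρ ∣ n - 1` and `ρ f ∣ p - 1`.

Proof. `S` from `chrA1`, `ρ = |S|`, `chrA2`. All `χ ∈ S` have one degree `d ∈ ℕ`, so `n = 1 + ρ d`.
`y = x ^ p` has order `p`. `t χ` from `chrC` is the same for all `χ ∈ S`: `i ↦ y^(i k)` permutes the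
powers of `y` (`p ∤ k`), so `∑_{i<p} ψ (y^i) = ∑_{i<p} χ (y^i)`. `π (y^i) = n - p²` for `0 < i < p`
(`y^i` fixes `Δᶜ`, and no point of `Δ` since `zpowers x` is abelian and transitive on `p² = |P|`
points). Summing `chrC` over `S`: `p ρ t = p (n - 1) - (∑_i π (y^i) - p) = (p - 1) p²`, so
`ρ t = p (p - 1)`; `f ∣ t`, so `ρ f ∣ p (p - 1)`; `p ∤ ρ` (`ρ ∣ n - 1`, `p ∣ n`), `p ∤ f`
(`relIndex_dvd`). (`S ≠ ∅` as `n ≥ p² > 1`.) -/
theorem chr [Finite G] [Finite Ω] {p : ℕ} (hp : p.Prime) {x : G}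
    (hx : orderOf x = p ^ 2) {b : Ω} (hb : (orbit (zpowers x) b).ncard = p ^ 2)
    (hfix : ∀ a, a ∉ orbit (zpowers x) b → x ^ p • a = a)
    (htr : ∀ a c : Ω, ∃ n ∈ normalClosure ({x ^ p} : Set G), n • a = c) (hn : p ∣ Nat.card Ω) :
    ∃ ρ : ℕ, Nat.card (orbitRel.Quotient G (Ω × Ω)) = ρ + 1 ∧ ρ ∣ Nat.card Ω - 1 ∧
      ρ * (centralizer ({x ^ p} : Set G)).relIndex (normalizer (zpowers (x ^ p) : Set G)) ∣
        p - 1 := by
  classical
  have := Fintype.ofFinite G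
  obtain ⟨S, h1, h2, h3, h4⟩ := chrA1 hp hx hb hfix htr
  obtain ⟨h5, h6⟩ := chrA2 hp hx h1 h2 h3 h4
  have hy : orderOf (x ^ p) = p := by
    rw [orderOf_pow_of_dvd hp.ne_zero (hx ▸ dvd_pow_self p two_ne_zero), hx, sq,
      Nat.mul_div_cancel _ hp.pos]
  have e1 := h1 1
  rw [permChar_one] at e1
  obtain ⟨χ, hχ⟩ : S.Nonempty := Finset.nonempty_iff_ne_empty.2 fun e => by
    rw [e, Finset.sum_empty, add_zero, Nat.cast_eq_one] at e1
    exact hp.one_lt.ne' (Nat.dvd_one.1 (e1 ▸ hn))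
  obtain ⟨d, -, hd⟩ := χ.2.exists_nat_one
  obtain ⟨t, t1, t2⟩ := chrC hp hy χ.2.isCharacter
  have e2 : ∑ ψ ∈ S, (ψ : G → ℂ) 1 = S.card * d := by
    rw [← nsmul_eq_mul]
    refine Finset.sum_eq_card_nsmul fun ψ hψ => ?_
    obtain ⟨k, -, hk⟩ := h6 χ hχ ψ hψ
    rw [hk, one_pow, hd]
  have e3 : ∑ ψ ∈ S, ∑ i ∈ Finset.range p, (ψ : G → ℂ) ((x ^ p) ^ i) =
      S.card * ∑ i ∈ Finset.range p, (χ : G → ℂ) ((x ^ p) ^ i) := by
    rw [← nsmul_eq_mul]
    refine Finset.sum_eq_card_nsmul fun ψ hψ => ?_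
    obtain ⟨k, k1, hk⟩ := h6 χ hχ ψ hψ
    simp only [hk]
    exact chr_sum hy hp.pos (k1.coprime_dvd_right (hy ▸ orderOf_dvd_natCard _)) _
  have e4 : ∑ i ∈ Finset.range p, permChar G Ω ((x ^ p) ^ i) =
      p + S.card * ∑ i ∈ Finset.range p, (χ : G → ℂ) ((x ^ p) ^ i) := by
    simp only [h1]
    rw [Finset.sum_add_distrib, Finset.sum_comm, e3]
    simp
  obtain ⟨r, rfl⟩ : ∃ r, p = r + 1 := ⟨p - 1, (Nat.sub_add_cancel hp.pos).symm⟩
  have e5 : ∑ i ∈ Finset.range (r + 1), permChar G Ω ((x ^ (r + 1)) ^ i) =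
      r * (Nat.card Ω - ((r + 1 : ℕ) : ℂ) ^ 2) + Nat.card Ω := by
    rw [Finset.sum_range_succ', pow_zero, permChar_one, ← nsmul_eq_mul]
    congr 1
    refine (Finset.sum_eq_card_nsmul fun i hi => ?_).trans (by rw [Finset.card_range])
    have := chr_fix hx hb hfix (i := i + 1)
      (pow_ne_one_of_lt_orderOf (by omega) (by rw [hy]; simpa using hi))
    rw [permChar_apply, ← this]
    push_cast
    ring
  rw [e2] at e1
  have e6 : S.card * t = (r + 1) * r := by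
    have k : ((r + 1 : ℕ) : ℂ) ≠ 0 := Nat.cast_ne_zero.2 hp.ne_zero
    have : ((S.card * t : ℕ) : ℂ) = ((r + 1) * r : ℕ) := by
      refine mul_left_cancel₀ k ?_
      rw [hd] at t2
      push_cast at *
      linear_combination S.card * t2 + e4 - e5 - (r + 1) * e1
    exact_mod_cast this
  have e7 : Nat.card Ω = 1 + S.card * d := by exact_mod_cast e1
  refine ⟨S.card, h5, ⟨d, by omega⟩, ?_⟩
  refine Nat.Coprime.dvd_of_dvd_mul_left (Nat.Coprime.symm ((Nat.Prime.coprime_iff_not_dvd hp).2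
    fun k => ?_)) (e6 ▸ Nat.mul_dvd_mul_left _ t1)
  rcases (Nat.Prime.dvd_mul hp).1 k with k | k
  · rw [e7] at hn
    exact hp.one_lt.ne' (Nat.dvd_one.1 ((Nat.dvd_add_left (k.mul_right d)).1 hn))
  · have := Nat.le_of_dvd (by have := hp.two_le; omega) (k.trans (relIndex_dvd hp hy))
    omega

end Cfsg.Agent.E2Q
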