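import Mathlib
import Cfsg.Agent.E2Q.Def
import Cfsg.Agent.E2Q.Cov
import Cfsg.Agent.E2Q.Bas

set_option autoImplicit false
set_option linter.style.haveILetI false

namespace Cfsg.Agent.E2Q

open MulAction

variable {G : Type*} [Group G] {Ω : Type*} [MulAction G Ω]

theorem uFib [Finite Ω] {β : Type*} (A : Set Ω) (f : Ω → β) (m : ℕ)
    (h : ∀ a ∈ A, {ω | ω ∈ A ∧ f ω = f a}.ncard = m) : A.ncard = (f '' A).ncard * m := by
  classical
  have hA := Set.toFinite A
  rw [Set.ncard_eq_toFinset_card A hA, Finset.card_eq_sum_card_image f,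
    Finset.sum_const_nat (m := m), ← Set.ncard_coe_finset, Finset.coe_image, hA.coe_toFinset]
  intro b hb
  obtain ⟨a, ha, rfl⟩ := Finset.mem_image.1 hb
  rw [← h a (hA.mem_toFinset.1 ha), ← Set.ncard_coe_finset]
  congr 1; ext; simp

/-- An `s`-element normalising `B` and fixing the orbit of `ω` fixes `ω` unless `s ∣ r - 1`. -/
theorem uFix [Finite G] [Finite Ω] {r s : ℕ} (hr : r.Prime) (hs : s.Prime) (hrs : r ≠ s)
    (hd : ¬ s ∣ r - 1) {B : Subgroup G} (hB : IsPGroup r B) (hol : ∀ ω : Ω, ol B ω = r)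
    (hc : ∀ u ∈ B, ∀ v ∈ B, u * v = v * u) {h : G} (hh : IsPGroup s (Subgroup.zpowers h))
    (hN : ∀ u ∈ B, h * u * h⁻¹ ∈ B) (ω : Ω)
    (hO : ∀ x ∈ Subgroup.zpowers h, ∀ a ∈ orbit B ω, x • a ∈ orbit B ω) : h • ω = ω := by
  haveI := Fact.mk hs
  let O : SubMulAction (Subgroup.zpowers h) Ω := ⟨orbit B ω, fun x a ha => hO x x.2 a ha⟩
  have h1 : Nat.card O = r := (Nat.card_coe_set_eq _).trans ((ol_eq_ncard B ω).symm.trans (hol ω))
  have h2 := hh.card_modEq_card_fixedPoints O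
  obtain ⟨a, ha⟩ := hh.nonempty_fixed_point_of_prime_not_dvd_card O
    (by rw [h1, Nat.prime_dvd_prime_iff_eq hs hr]; exact hrs.symm)
  have ha' : h • (a : Ω) = a := congrArg Subtype.val (ha ⟨h, Subgroup.mem_zpowers h⟩)
  have e : ∀ u : G, h • u • (a : Ω) = (h * u * h⁻¹) • (a : Ω) := fun u => by
    rw [mul_smul, mul_smul, inv_smul_eq_iff.2 ha'.symm]
  let X : Subgroup G :=
    { carrier := {u | u ∈ B ∧ h • u • (a : Ω) = u • (a : Ω)}
      one_mem' := ⟨one_mem _, by simpa using ha'⟩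
      mul_mem' := fun {u v} hu hv => ⟨mul_mem hu.1 hv.1, by
        calc h • (u * v) • (a : Ω) = (h * u * h⁻¹) • h • v • (a : Ω) := by
              simp only [← mul_smul]; congr 1; group
          _ = (u * v) • (a : Ω) := by
              rw [hv.2, ← mul_smul, hc _ (hN u hu.1) v hv.1, mul_smul, ← e, hu.2, ← mul_smul,
                hc v hv.1 u hu.1]⟩
      inv_mem' := fun {u} hu => ⟨inv_mem hu.1, by
        rw [e, eq_inv_smul_iff, ← mul_smul, hc u hu.1 _ (hN _ (inv_mem hu.1)), mul_smul, ← hu.2, e,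
          ← mul_smul]
        simp⟩ }
  have hω : ∀ c ∈ orbit B ω, ∃ u ∈ B, u • (a : Ω) = c := fun c hc => by
    rw [← mem_orbit_sub, orbit_eq_iff.2 (show (a : Ω) ∈ orbit B ω from a.2)]; exact hc
  rcases (idx_prime hr hB (hol a)).2.2.2.1 X
    (fun u hu => ⟨hu.1, by rw [mem_stabilizer_iff.1 hu.2, ha']⟩) (fun u hu => hu.1) with h3 | h3
  · refine (hd ?_).elim
    have h4 : fixedPoints (Subgroup.zpowers h) O = {a} := by
      refine Set.eq_singleton_iff_unique_mem.2 ⟨ha, fun c hc => Subtype.ext ?_⟩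
      obtain ⟨u, hu, e⟩ := hω c c.2
      have h5 : u ∈ X := ⟨hu, by
        rw [e]; exact congrArg Subtype.val (hc ⟨h, Subgroup.mem_zpowers h⟩)⟩
      rw [h3] at h5
      rw [← e, mem_stabilizer_iff.1 h5.2]
    rw [h1, h4, Nat.card_unique] at h2
    exact (Nat.modEq_iff_dvd' hr.one_le).1 h2.symm
  · obtain ⟨u, hu, e'⟩ := hω ω (mem_orbit_self ω)
    have := (show u ∈ X from h3 ▸ hu).2
    rwa [e'] at this

open Pointwise in
theorem lemU' [Finite G] [Finite Ω] {r s : ℕ} (hr : r.Prime) (hs : s.Prime) (hrs : r ≠ s)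
    (hr2 : 2 < r) (hs2 : 2 < s) (faith : ∀ g : G, (∀ ω : Ω, g • ω = ω) → g = 1)
    (card : Nat.card Ω = 2 * s * r) (el : ∀ g : G, (orderOf g).Prime → ∃ ω : Ω, g • ω = ω)
    {B : Subgroup G} (hB : IsPGroup r B) (hol : ∀ ω : Ω, ol B ω = r)
    (hconj : ∀ a c : Ω, ∃ n ∈ Subgroup.normalizer (B : Set G),
      ∀ x : G, x ∈ B ⊓ stabilizer G a ↔ n * x * n⁻¹ ∈ B ⊓ stabilizer G c) : False := by
  classical
  haveI := Fact.mk hr
  haveI := Fact.mk hs
  obtain ⟨hc, hexp⟩ := elab_of_ol hr faith hB fun ω => (hol ω).le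
  obtain ⟨a₁⟩ : Nonempty Ω := (Nat.card_pos_iff.1 (by rw [card]; positivity)).1
  set N := Subgroup.normalizer (B : Set G) with hN
  letI : MulAction G (Subgroup G) := MulAction.compHom _ (MulAut.conj : G →* MulAut G)
  let f : Ω → Subgroup G := fun ω => B ⊓ stabilizer G ω
  let o : Ω → Set Ω := fun ω => orbit B ω
  have hm : ∀ (n x : G) (H : Subgroup G), x ∈ n • H ↔ n⁻¹ * x * n ∈ H := fun n x H =>
    (Subgroup.mem_pointwise_smul_iff_inv_smul_mem (a := MulAut.conj n)).trans (by simp)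
  have hf : ∀ n ∈ N, ∀ ω, f (n • ω) = n • f ω := fun n hn ω => Subgroup.ext fun x => by
    rw [hm]
    refine and_congr ?_ ?_
    · simpa using Subgroup.mem_normalizer_iff.1 (inv_mem hn) x
    · simp [mul_smul, inv_smul_eq_iff]
  have hfB : ∀ u ∈ B, ∀ ω, f (u • ω) = f ω := fun u hu ω => Subgroup.ext fun x =>
    and_congr_right fun hx => by
      change x • u • ω = u • ω ↔ x • ω = ω
      rw [← mul_smul, hc x hx u hu, mul_smul, smul_left_cancel_iff]
  have hconj' : ∀ a c, ∃ n ∈ N, n • f a = f c := fun a c => by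
    obtain ⟨n, hn, h⟩ := hconj a c
    refine ⟨n, hn, Subgroup.ext fun x => ?_⟩
    rw [hm, h]; simp [f, mul_assoc]
  have ho : ∀ n ∈ N, ∀ ω, o (n • ω) = n • o ω := fun n hn ω => Set.ext fun c => by
    rw [Set.mem_smul_set_iff_inv_smul_mem, mem_orbit_sub, mem_orbit_sub]
    constructor
    · rintro ⟨u, hu, rfl⟩
      exact ⟨n⁻¹ * u * n⁻¹⁻¹, (Subgroup.mem_normalizer_iff.1 (inv_mem hn) u).1 hu, by simp [mul_smul]⟩
    · rintro ⟨u, hu, e⟩
      exact ⟨n * u * n⁻¹, (Subgroup.mem_normalizer_iff.1 hn u).1 hu, by simp [mul_smul, e]⟩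
  have hoc : ∀ A : Set Ω, (∀ u ∈ B, ∀ ω ∈ A, u • ω ∈ A) → A.ncard = (o '' A).ncard * r :=
    fun A hA => uFib A o r fun a ha => by
      rw [← hol a, ol_eq_ncard]
      congr 1; ext c
      refine ⟨fun h => orbit_eq_iff.1 h.2, fun h => ⟨?_, orbit_eq_iff.2 h⟩⟩
      obtain ⟨u, hu, rfl⟩ := mem_orbit_sub.1 h
      exact hA u hu a ha
  have hX : (Set.range o).ncard = 2 * s := by
    have := hoc Set.univ fun _ _ _ _ => trivial
    rw [Set.ncard_univ, card, Set.image_univ] at this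
    exact (Nat.eq_of_mul_eq_mul_right hr.pos this).symm
  have hH : (Set.range f).ncard ∣ 2 * s := by
    have h1 := uFib Set.univ f {ω | f ω = f a₁}.ncard fun a _ => by
      obtain ⟨n, hn, e⟩ := hconj' a₁ a
      rw [← Set.ncard_smul_set n {ω | f ω = f a₁}]
      congr 1; ext c
      rw [Set.mem_smul_set_iff_inv_smul_mem]
      simp only [Set.mem_univ, true_and, Set.mem_ofPred_eq, hf _ (inv_mem hn), inv_smul_eq_iff, e]
    rw [Set.ncard_univ, card, Set.image_univ, hoc {ω | f ω = f a₁} fun u hu ω hω =>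
      (hfB u hu ω).trans hω, ← mul_assoc] at h1
    exact ⟨_, Nat.eq_of_mul_eq_mul_right hr.pos h1⟩
  have hH2 : r < (Set.range f).ncard := by
    by_contra h
    obtain ⟨g, hg, h1⟩ := cov B hr.two_le (Set.toFinite (Set.range f)).toFinset id
      (by rw [← Set.ncard_eq_toFinset_card]; omega) fun H hH => by
        obtain ⟨ω, rfl⟩ := (Set.Finite.mem_toFinset _).1 hH
        exact ((Subgroup.inf_relIndex_left _ _).trans (hol ω)).ge
    have h2 : ∀ ω, g ∉ f ω := fun ω => h1 _ ((Set.Finite.mem_toFinset _).2 ⟨ω, rfl⟩)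
    obtain ⟨ω, hω⟩ := el g (by
      rw [orderOf_eq_prime (hexp g hg) fun e => h2 a₁ (e ▸ one_mem _)]; exact hr)
    exact h2 ω ⟨hg, hω⟩
  have hH3 : s ∣ (Set.range f).ncard := by
    by_contra h
    have := Nat.le_of_dvd two_pos
      ((hs.coprime_iff_not_dvd.2 h).symm.dvd_of_dvd_mul_right hH)
    omega
  have hd : ¬ s ∣ r - 1 := fun h => by
    have h1 := Nat.le_of_dvd (by omega) hH
    have h2 : 2 ∣ r - 1 := (hr.even_sub_one (by omega)).two_dvd
    have := Nat.le_of_dvd (by omega)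
      (((Nat.coprime_primes Nat.prime_two hs).2 (by omega)).mul_dvd_of_dvd_of_dvd h2 h)
    omega
  obtain ⟨S, hS, -⟩ := Syl.exists_ge hs (IsPGroup.of_bot (p := s)) (bot_le : ⊥ ≤ N)
  have hsub : ∀ ω, orbit S (o ω) ⊆ Set.range o := fun ω O hO => by
    obtain ⟨x, hx, rfl⟩ := mem_orbit_sub.1 hO
    exact ⟨x • ω, ho x (hS.le hx) ω⟩
  have hSo : ∀ ω, ol S (o ω) = s := fun ω => by
    have h1 : s ∣ ol S (f ω) := hS.dvd_ol hs (by
      rw [ol_eq_ncard, show orbit N (f ω) = Set.range f from Set.ext fun H => ⟨fun h => by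
        obtain ⟨n, hn, rfl⟩ := mem_orbit_sub.1 h
        exact ⟨n • ω, hf n hn ω⟩, fun ⟨c, e⟩ => e ▸ mem_orbit_sub.2 (hconj' ω c)⟩]
      exact hH3)
    have h2 : s ∣ ol S (o ω) := by
      refine h1.trans ?_
      rw [ol, ol, ← Subgroup.inf_relIndex_right (stabilizer G (o ω))]
      refine Subgroup.relIndex_dvd_of_le_left _ fun x hx => mem_stabilizer_iff.2 ?_
      have h3 : x • ω ∈ o ω := by
        rw [← mem_stabilizer_iff.1 hx.1]; exact Set.smul_mem_smul_set (mem_orbit_self ω)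
      obtain ⟨u, hu, e⟩ := mem_orbit_sub.1 h3
      rw [← hf x (hS.le hx.2), ← e, hfB u hu]
    have h3 : ol S (o ω) ≤ 2 * s := by
      rw [ol_eq_ncard, ← hX]; exact Set.ncard_le_ncard (hsub ω)
    obtain ⟨i, hi⟩ := ol_pow hs hS.pg (o ω)
    rw [hi] at h2 h3 ⊢
    match i with
    | 0 => exact absurd (Nat.le_of_dvd one_pos h2) (by omega)
    | 1 => exact pow_one s
    | i + 2 =>
      have : s ^ 2 ≤ s ^ (i + 2) := Nat.pow_le_pow_right hs.pos (by omega)
      nlinarith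
  have hD : (Set.range o \ orbit S (o a₁)).ncard = s := by
    rw [Set.ncard_sdiff (hsub a₁), hX, ← ol_eq_ncard, hSo]; omega
  obtain ⟨_, ⟨a₂, rfl⟩, h₂⟩ := Set.nonempty_of_ncard_ne_zero (hD ▸ hs.ne_zero :
    (Set.range o \ orbit S (o a₁)).ncard ≠ 0)
  have hE : orbit S (o a₂) = Set.range o \ orbit S (o a₁) :=
    Set.eq_of_subset_of_ncard_le (fun O hO => ⟨hsub a₂ hO, fun h => h₂ (by
      rw [← orbit_eq_iff.2 h, orbit_eq_iff.2 hO]; exact mem_orbit_self _)⟩)
      (by rw [hD, ← ol_eq_ncard, hSo])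
  obtain ⟨g, hg, h1⟩ := cov S hs.two_le {a₁, a₂} (fun a => stabilizer G (o a))
    (Finset.card_le_two.trans hs.two_le) fun a _ => (hSo a).ge
  have h2 : ∀ ω, g • ω ≠ ω := fun ω e => by
    obtain ⟨a, ha, h3⟩ : ∃ a ∈ ({a₁, a₂} : Finset Ω), o ω ∈ orbit S (o a) := by
      by_cases h : o ω ∈ orbit S (o a₁)
      · exact ⟨a₁, by simp, h⟩
      · exact ⟨a₂, by simp, hE ▸ ⟨⟨ω, rfl⟩, h⟩⟩
    obtain ⟨x, hx, e'⟩ := mem_orbit_sub.1 h3
    have h4 : x⁻¹ * g * x ∈ stabilizer G (o a) := mem_stabilizer_iff.2 (by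
      rw [mul_smul, mul_smul, e', ← ho g (hS.le hg), e, inv_smul_eq_iff, e'])
    refine h1 a ha ?_
    simpa [mul_assoc] using (idx_prime hs hS.pg (hSo a)).1 x hx _
      (mul_mem (mul_mem (inv_mem hx) hg) hx) h4
  have h3 : g ^ s = 1 := faith _ fun ω => uFix hr hs hrs hd hB hol hc
    (hS.pg.to_le ((Subgroup.zpowers_le).2 (pow_mem hg s)))
    (fun u hu => (Subgroup.mem_normalizer_iff.1 (hS.le (pow_mem hg s)) u).1 hu) ω fun x hx a ha => by
      have h4 := mem_stabilizer_iff.1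
        (Subgroup.zpowers_le.2 ((idx_prime hs hS.pg (hSo ω)).2.1 g hg) hx)
      exact (h4 ▸ Set.smul_mem_smul_set ha : x • a ∈ o ω)
  obtain ⟨ω, hω⟩ := el g (by
    rw [orderOf_eq_prime h3 fun e => h2 a₁ (by rw [e, one_smul])]; exact hs)
  exact h2 ω hω

/-- **Lemma U.** `r` is one of `p, q`, and `s` is the other. `B` is an abelian `r`-group all of whose
orbits have length `r`, and the point stabilisers `B_ω = B ⊓ stabilizer G ω` are all conjugate
under `N = normalizer B`. Contradiction.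

Proof. `B` has exponent `r` (`elab_of_ol`), so by `el` every element of `B` lies in some `B_ω`.
Let `𝓗 = {B_ω}` (a finite set of subgroups of index `r` in `B`); by `cov`, `|𝓗| ≥ r + 1 ≥ 4`.
`N` acts on `Ω`, the map `ω ↦ B_ω` is `N`-equivariant and constant on `B`-orbits (`B` abelian), `N`
is transitive on `𝓗`; so all fibres `F_H = {ω | B_ω = H}` have one size `m`, `r ∣ m` (unions of
`B`-orbits), `|𝓗| m = 2 r s`. So `|𝓗| ∣ 2 s`, `|𝓗| ≥ 4`, hence `s ∣ |𝓗|` and `r + 1 ≤ 2 s`.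
For every `ω`: `s ∣ |𝓗| = |N : N ⊓ N(B_ω)|`, and the stabiliser in `N` of the set `orbit B ω` lies in
`N(B_ω)`. Let `S` be a Sylow `s`-subgroup of `N`. `S` acts on the `2 s` orbits of `B`, each
`S`-orbit has length a power of `s`, divisible by `s` (as in `Syl.dvd_ol`), at most `2 s < s²`:
exactly `s`. So there are exactly two `S`-orbits; the stabiliser in `S` of a `B`-orbit has index
`s`, is normal in `S` (`idx_prime`), so is constant along an `S`-orbit: two subgroups `S₁, S₂` of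
index `s`. By `cov` there is `g ∈ S` outside `S₁ ∪ S₂`: `g` fixes no `B`-orbit, so no point, and
`h = g ^ s ∈ S₁ ⊓ S₂` fixes every `B`-orbit `O` as a set. The `s`-group `⟨h⟩` acts on `O`, `|O| = r`,
so fixes a point `a ∈ O`; `u ↦ h u h⁻¹ u⁻¹` is an endomorphism of the abelian group `B`, so
`{u ∈ B | h • u • a = u • a}` is a subgroup between `B_a` and `B`, i.e. `B_a` or `B`; so `h` fixes
`1` or `r` points of `O`, and `r ≡ #fixed (mod s)`. In the first case `s ∣ r - 1`; both primes are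
odd so `2 s ≤ r - 1`, against `r + 1 ≤ 2 s`. So `h` fixes every point, `h = 1`, `g` has prime order
`s` and no fixed point: against `el`.
Tip: let `N` act on `X = {O : Set Ω // ∃ ω, O = orbit B ω}` or use the action of `G` on `Set Ω`
(`open Pointwise`) with `ol S (orbit B ω : Set Ω)`. -/
theorem lemU [Finite G] [Finite Ω] {p q r : ℕ} (su : Su G Ω p q) (hr : r = p ∨ r = q)
    {B : Subgroup G} (hB : IsPGroup r B) (hol : ∀ ω : Ω, ol B ω = r)
    (hconj : ∀ a c : Ω, ∃ n ∈ Subgroup.normalizer (B : Set G),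
      ∀ x : G, x ∈ B ⊓ stabilizer G a ↔ n * x * n⁻¹ ∈ B ⊓ stabilizer G c) : False := by
  have := su.q2
  have := su.qlt
  rcases hr with rfl | rfl
  · exact lemU' su.pp su.qp (by omega) (by omega) (by omega) su.faith
      (su.card.trans (by ring)) su.el hB hol hconj
  · exact lemU' su.qp su.pp (by omega) (by omega) (by omega) su.faith su.card su.el hB hol hconj

end Cfsg.Agent.E2Q
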