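import Mathlib
import Cfsg.Agent.E2Q.Def
import Cfsg.Agent.E2Q.Bas

set_option autoImplicit false

namespace Cfsg.Agent.E2Q

open MulAction

variable {G : Type*} [Group G] {Ω : Type*} [MulAction G Ω]

theorem v_surj [Finite G] {X Y : Subgroup G} {k : G} (hc : Nat.card Y ≤ Nat.card X)
    (e : ∀ x ∈ X, k * x * k⁻¹ ∈ Y) (x : G) : x ∈ X ↔ k * x * k⁻¹ ∈ Y := by
  refine ⟨e x, fun hx => ?_⟩
  have hi : Function.Injective (fun x : X => (⟨_, e x x.2⟩ : Y)) := fun a b e' =>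
    Subtype.ext (by simpa using e')
  obtain ⟨y, hy⟩ := (hi.bijective_of_nat_card_le hc).2 ⟨_, hx⟩
  have : (y : G) = x := by simpa using hy
  exact this ▸ y.2

/-- a conjugate of an `r`-subgroup lying in `L` is conjugate in `L` into a Sylow subgroup -/
theorem v_into [Finite G] {r : ℕ} (hr : r.Prime) {T L X : Subgroup G} (h : Syl r T L) (hX : IsPGroup r X)
    {g : G} (hg : ∀ x ∈ X, g * x * g⁻¹ ∈ L) : ∃ k ∈ L, ∀ x ∈ X, k * g * x * (k * g)⁻¹ ∈ T := by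
  obtain ⟨k, hk, e⟩ := h.conj_into hr (hX.map (MulAut.conj g).toMonoidHom) (by
    rintro _ ⟨x, hx, rfl⟩; exact hg x hx)
  refine ⟨k, hk, fun x hx => ?_⟩
  have := e _ ⟨x, hx, rfl⟩
  simpa [mul_assoc] using this

theorem v_stab {g x : G} {a : Ω} (h : x ∈ stabilizer G a) : g * x * g⁻¹ ∈ stabilizer G (g • a) := by
  rw [mem_stabilizer_iff, mul_smul, mul_smul, inv_smul_smul, h]

/-- **Lemma V.** `K ⊴ G`, `P` Sylow `r` in `K`, `B = {g ∈ P | g ^ r = 1}` is an abelian subgroup all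
of whose orbits have length `r`. Then the `B_ω = B ⊓ stabilizer G ω` are conjugate under `N(B)`.

Proof. (1) For `ω` let `R` be Sylow in `K_ω = K ⊓ stabilizer G ω` with `P ⊓ stabilizer ω ≤ R`
(`Syl.exists_ge`). Claim `B_ω = {x ∈ R | x ^ r = 1}`: `⊆` clear. `k R k⁻¹ ≤ P` for some `k ∈ K`
(`Syl.conj_into`), and `x ↦ k x k⁻¹` injects `{x ∈ R | x ^ r = 1}` into `B_{k • ω}`, which has
`|B| / r = |B_ω|` elements. (2) For `a, c` take `g • a = c`; `g R_a g⁻¹` and `R_c` are Sylow in `K_c`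
(`K` normal), so conjugate; hence `X' = B_c = g X g⁻¹` for `X = B_a` and some `g ∈ G`.
(3) `B` and `g B g⁻¹` are `r`-subgroups of `C = K ⊓ centralizer X'`. Take `T` Sylow in `C` with
`B ≤ T`, `c₁ ∈ C` with `c₁ (g B g⁻¹) c₁⁻¹ ≤ T`, and `h ∈ K` with `h T h⁻¹ ≤ P`. Then `h B h⁻¹` and
`h c₁ g B (h c₁ g)⁻¹` consist of elements of `P` with `x ^ r = 1`, so lie in `B`, so both equal `B`
(cardinality). Hence `n = c₁ g` normalises `B`, and `n X n⁻¹ = c₁ X' c₁⁻¹ = X'`. -/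
theorem lemV [Finite G] {r : ℕ} (hr : r.Prime) (trans : IsPretransitive G Ω) {K P B : Subgroup G}
    [K.Normal] (hP : Syl r P K) (hB : ∀ g : G, g ∈ B ↔ g ∈ P ∧ g ^ r = 1)
    (hcomm : ∀ u ∈ B, ∀ v ∈ B, u * v = v * u) (hol : ∀ ω : Ω, ol B ω = r) (a c : Ω) :
    ∃ n ∈ Subgroup.normalizer (B : Set G),
      ∀ x : G, x ∈ B ⊓ stabilizer G a ↔ n * x * n⁻¹ ∈ B ⊓ stabilizer G c := by
  have BP : B ≤ P := fun x hx => ((hB x).1 hx).1
  have BK : B ≤ K := BP.trans hP.le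
  have pB : IsPGroup r B := hP.pg.to_le BP
  have cj : ∀ {g x : G}, x ^ r = 1 → g * x * g⁻¹ ∈ P → g * x * g⁻¹ ∈ B := fun h1 h2 =>
    (hB _).2 ⟨h2, by rw [conj_pow, h1, mul_one, mul_inv_cancel]⟩
  have pw : ∀ {x : G}, x ∈ B → x ^ r = 1 := fun hx => ((hB _).1 hx).2
  have hc1 : ∀ ω : Ω, Nat.card (B ⊓ stabilizer G ω : Subgroup G) * r = Nat.card B := fun ω => by
    rw [← hol ω, ← Subgroup.relIndex_bot_left, ← Subgroup.relIndex_bot_left,
      ← Subgroup.relIndex_mul_relIndex ⊥ (B ⊓ stabilizer G ω) B bot_le inf_le_left,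
      Subgroup.inf_relIndex_left]
  have hc : ∀ ω ω' : Ω, Nat.card (B ⊓ stabilizer G ω : Subgroup G) ≤
      Nat.card (B ⊓ stabilizer G ω' : Subgroup G) := fun ω ω' =>
    (Nat.eq_of_mul_eq_mul_right hr.pos ((hc1 ω).trans (hc1 ω').symm)).le
  obtain ⟨R, hR, BR⟩ := Syl.exists_ge hr (pB.to_inf_left (K := stabilizer G c))
    (inf_le_inf_right _ BK)
  have h1 : ∀ x ∈ R, x ^ r = 1 → x ∈ B ⊓ stabilizer G c := by
    obtain ⟨k, -, e⟩ := hP.conj_into hr hR.pg (hR.le.trans inf_le_left)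
    exact fun x hx x1 => (v_surj (hc (k • c) c) (fun y hy => ⟨cj (pw hy.1) (e y (BR hy)), v_stab hy.2⟩) x).2
      ⟨cj x1 (e x hx), v_stab (hR.le hx).2⟩
  obtain ⟨g, hg⟩ : ∃ g : G, ∀ x, x ∈ B ⊓ stabilizer G a ↔ g * x * g⁻¹ ∈ B ⊓ stabilizer G c := by
    obtain ⟨g, rfl⟩ := trans.exists_smul_eq a c
    obtain ⟨k, -, e⟩ := v_into hr hR (pB.to_inf_left (K := stabilizer G a)) (g := g) fun x hx =>
      ⟨Subgroup.Normal.conj_mem ‹_› _ (BK hx.1) g, v_stab hx.2⟩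
    exact ⟨k * g, v_surj (hc _ _) fun x hx => h1 _ (e x hx) (by
      rw [conj_pow, pw hx.1, mul_one, mul_inv_cancel])⟩
  obtain ⟨T, hT, BT⟩ := Syl.exists_ge hr pB (K := K ⊓ Subgroup.centralizer (B ⊓ stabilizer G c : Subgroup G))
    (le_inf BK fun u hu x hx => hcomm x hx.1 u hu)
  obtain ⟨k, hk, e⟩ := v_into hr hT pB (g := g) fun u hu =>
    ⟨Subgroup.Normal.conj_mem ‹_› _ (BK hu) g, fun x hx => by
      have h2 := (hg (g⁻¹ * x * g)).2 (by simpa [mul_assoc] using hx)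
      have h3 := hcomm _ h2.1 u hu
      calc x * (g * u * g⁻¹) = g * (g⁻¹ * x * g * u) * g⁻¹ := by group
        _ = _ := by rw [h3]; group⟩
  obtain ⟨h, -, e'⟩ := hP.conj_into hr hT.pg (hT.le.trans inf_le_left)
  have h4 := v_surj le_rfl fun u hu => cj (pw hu) (e' u (BT hu))
  refine ⟨k * g, Subgroup.mem_normalizer_iff.2 (v_surj le_rfl fun u hu => (h4 _).2
    (cj (by rw [conj_pow, pw hu, mul_one, mul_inv_cancel]) (e' _ (e u hu)))),
    v_surj (hc _ _) fun x hx => ?_⟩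
  have h5 := (hg x).1 hx
  have h6 := hk.2 _ h5
  rwa [show k * g * x * (k * g)⁻¹ = k * (g * x * g⁻¹) * k⁻¹ by group, ← h6, mul_inv_cancel_right]

end Cfsg.Agent.E2Q
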