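import Mathlib
import Cfsg.Agent.E2Q.U
import Cfsg.Agent.E2Q.V

set_option autoImplicit false

namespace Cfsg.Agent.E2Q

open MulAction

variable {G : Type*} [Group G] {Ω : Type*} [MulAction G Ω]

/-- Lemmas U and V together. -/
theorem lemUV [Finite G] [Finite Ω] {p q r : ℕ} (su : Su G Ω p q) (hr : r = p ∨ r = q)
    {K P B : Subgroup G} [K.Normal] (hP : Syl r P K) (hB : ∀ g : G, g ∈ B ↔ g ∈ P ∧ g ^ r = 1)
    (hol : ∀ ω : Ω, ol B ω = r) : False := by
  have hrp : r.Prime := by rcases hr with rfl | rfl; exacts [su.pp, su.qp]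
  have hBp : IsPGroup r B := hP.pg.to_le fun g hg => ((hB g).1 hg).1
  exact lemU su hr hBp hol (lemV hrp su.trans hP hB
    (elab_of_ol hrp su.faith hBp fun ω => (hol ω).le).1 hol)

end Cfsg.Agent.E2Q
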