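import Mathlib
import Cfsg.Agent.E2Q.Def
import Cfsg.Agent.E2Q.Bas
import Cfsg.Agent.E2Q.UV

set_option autoImplicit false

namespace Cfsg.Agent.E2Q

open MulAction

variable {G : Type*} [Group G] {Ω : Type*} [MulAction G Ω]

theorem cyc_mono [Finite Ω] {H K : Subgroup G} (h : H ≤ K) (ω : Ω) : ol H ω ≤ ol K ω := by
  rw [ol_eq_ncard, ol_eq_ncard]
  exact Set.ncard_le_ncard fun c hc => by
    obtain ⟨g, hg, e⟩ := mem_orbit_sub.1 hc
    exact mem_orbit_sub.2 ⟨g, h hg, e⟩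

open Pointwise in
theorem cyc_const (t : IsPretransitive G Ω) (N : Subgroup G) [N.Normal] (a c : Ω) : ol N a = ol N c := by
  obtain ⟨g, rfl⟩ := exists_smul_eq G a c
  rw [ol_eq_ncard, ol_eq_ncard, ← smul_orbit_eq_orbit_smul, Set.ncard_smul_set]

/-- If `B ⊓ G_b = ⊥` then `|B| = p` (`olB`), `|P| = p²` (`idx`); `x ∈ P \ B` has `x ^ p ≠ 1`, so order
`p²`, and generates `P`; `x ^ p ∈ B` generates `B`; `P` is abelian and transitive on `Δ` with
`P ⊓ G_b ≤ B ⊓ G_b = ⊥`, so regular. -/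
theorem cyc1 [Finite G] [Finite Ω] {p q : ℕ} (su : Su G Ω p q) {P B : Subgroup G} {b : Ω}
    (h : CB p q P B b) (hK : B ⊓ stabilizer G b = ⊥) : ∃ x : G, CC p q P B b x := by
  have := Fact.mk su.pp
  have cB : Nat.card B = p := by
    rw [← h.olB b (mem_orbit_self b), ol, ← Subgroup.inf_relIndex_right, inf_comm, hK, Subgroup.relIndex_bot_left]
  have cP : Nat.card P = p ^ 2 := by
    rw [← Subgroup.relIndex_bot_left, ← Subgroup.relIndex_mul_relIndex ⊥ B P bot_le h.le,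
      Subgroup.relIndex_bot_left, cB, h.idx, sq]
  obtain ⟨x, hx, hx'⟩ := h.exP
  have y1 := h.nexp x hx hx'
  have yp := h.expo _ (h.pow_mem x hx)
  have ox : orderOf x = p ^ 2 := orderOf_eq_prime_pow (n := 1) (by rwa [pow_one]) (by rwa [sq, pow_mul])
  have oy : orderOf (x ^ p) = p := orderOf_eq_prime yp y1
  have eP : P = Subgroup.zpowers x := (Subgroup.eq_of_le_of_card_ge (Subgroup.zpowers_le.2 hx)
    (by rw [Nat.card_zpowers, ox, cP])).symm
  refine ⟨x, h, eP, ox, (Subgroup.eq_of_le_of_card_ge (Subgroup.zpowers_le.2 (h.pow_mem x hx))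
    (by rw [Nat.card_zpowers, oy, cB])).symm, oy, fun z hz c hc e => ?_⟩
  obtain ⟨g, hg, rfl⟩ := mem_orbit_sub.1 hc
  have cm : z * g = g * z := by
    rw [eP] at hz hg
    obtain ⟨i, rfl⟩ := hz
    obtain ⟨j, rfl⟩ := hg
    exact zpow_mul_comm x i j
  rw [← mul_smul, cm, mul_smul, smul_left_cancel_iff] at e
  exact Subgroup.mem_bot.1 (hK ▸ ⟨h.stab b ⟨hz, e⟩, e⟩)

/-- The normal closure `N` of `y = x ^ p` is transitive. Proof. `N ⊴ G`, `G` transitive: all
`N`-orbits have one length `s`, `s ∣ 2pq` (`ol N ω = |N : N_ω|`; `|G : N_ω| = |G : N| s`; or blocks,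
`IsBlock.orbit_of_normal`). Suppose `s < 2pq`, so `s ≤ pq < p²`. `P ≰ N` (else `s ≥ |Δ| = p²`), so
`P ⊓ N = B` (`B ≤ P ⊓ N`, `gen`), Sylow in `N` (`Syl.inf_normal`). `B` fixes `a ∈ Γ`, so `p ∤ s`
(`s ∣ |N : B|`), `s ∣ 2q`; `s ≥ ol B b = p > q`, so `s = 2q`. Let `Q` be Sylow `q` in `N`:
`q ∣ ol Q ω ≤ 2q < q²`, a power of `q`, so `ol Q ω = q`; `Q` has exponent `q` (`elab_of_ol`), and
`lemUV` (`r = q`, `K = N`, `P = B = Q`) gives a contradiction. -/
theorem cyc0 [Finite G] [Finite Ω] {p q : ℕ} (su : Su G Ω p q) {P B : Subgroup G} {b : Ω} {x : G}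
    (h : CC p q P B b x) (a c : Ω) :
    ∃ n ∈ Subgroup.normalClosure ({x ^ p} : Set G), n • a = c := by
  by_contra hn
  have BN : B ≤ Subgroup.normalClosure ({x ^ p} : Set G) :=
    h.eB ▸ Subgroup.zpowers_le.2 (Subgroup.subset_normalClosure rfl)
  generalize hN : Subgroup.normalClosure ({x ^ p} : Set G) = N at hn BN
  have : N.Normal := hN ▸ Subgroup.normalClosure_normal
  have t := su.trans
  have p0 := su.pp.pos
  have q2 := su.q2
  have qp := su.qlt
  obtain ⟨k, hk⟩ : ol N a ∣ 2 * p * q := by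
    rw [ol_eq_ncard, ← su.card]
    exact (IsBlock.orbit_of_normal (N := N) a).ncard_dvd_card (nonempty_orbit a)
  have lt : ol N a < 2 * p * q := by
    rw [ol_eq_ncard, ← su.card, ← Set.ncard_univ]
    exact Set.ncard_lt_ncard (Set.ssubset_univ_iff.2 fun e => hn (mem_orbit_sub.1 (e ▸ Set.mem_univ c)))
  have k2 : 2 ≤ k := by
    by_contra! k1
    obtain rfl | rfl : k = 0 ∨ k = 1 := by omega
    · omega
    · omega
  have PN : ¬ P ≤ N := fun e => by
    have := cyc_mono e b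
    rw [h.cb.olb, cyc_const t N b a] at this
    nlinarith
  have e1 : P ⊓ N = B := le_antisymm (fun z hz => by_contra fun hz' => PN fun w hw => by
    obtain ⟨i, u, hu, rfl⟩ := h.cb.gen z hz.1 hz' w hw
    exact mul_mem (pow_mem hz.2 i) (BN hu)) (le_inf h.cb.le BN)
  have sB : Syl p B N := e1 ▸ h.cb.syl.inf_normal su.pp
  have np : ¬ p ∣ ol N a := fun e => by
    obtain ⟨a', ha⟩ := h.cb.ne
    have := sB.dvd_ol su.pp (cyc_const t N a a' ▸ e)
    rw [show ol B a' = 1 from Subgroup.relIndex_eq_one.2 fun u hu => (h.cb.mem_fix a').1 ha u hu] at this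
    exact su.pp.one_lt.ne' (Nat.dvd_one.1 this)
  obtain ⟨m, hm⟩ : ol N a ∣ 2 * q := ((su.pp.coprime_iff_not_dvd.2 np).symm).dvd_of_dvd_mul_left
    ⟨k, by rw [← hk]; ring⟩
  have ge : p ≤ ol N a := by
    have := cyc_mono BN b
    rwa [h.cb.olB b (mem_orbit_self b), cyc_const t N b a] at this
  have s2 : ol N a = 2 * q := by
    obtain rfl | rfl | m2 : m = 0 ∨ m = 1 ∨ 2 ≤ m := by omega
    · omega
    · omega
    · nlinarith
  obtain ⟨Q, hQ, -⟩ := Syl.exists_ge su.qp (R := ⊥) (K := N) IsPGroup.of_bot bot_le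
  have hol : ∀ ω : Ω, ol Q ω = q := fun ω => by
    have a1 := hQ.dvd_ol su.qp (ω := ω) (by rw [cyc_const t N ω a, s2]; exact dvd_mul_left _ _)
    have a2 := cyc_mono hQ.le ω
    rw [cyc_const t N ω a, s2] at a2
    obtain ⟨i, hi⟩ := ol_pow su.qp hQ.pg ω
    rw [hi] at a1 a2 ⊢
    obtain rfl | rfl | i2 : i = 0 ∨ i = 1 ∨ 2 ≤ i := by omega
    · exact absurd (Nat.le_of_dvd one_pos a1) (by omega)
    · exact pow_one q
    · have := Nat.pow_le_pow_right su.qp.pos i2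
      nlinarith
  exact lemUV su (.inr rfl) hQ (B := Q) (fun g => ⟨fun hg =>
    ⟨hg, (elab_of_ol su.qp su.faith hQ.pg fun ω => (hol ω).le).2 g hg⟩, And.left⟩) hol

end Cfsg.Agent.E2Q
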