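import Mathlib
import Cfsg.Agent.E2Q.Def
import Cfsg.Agent.E2Q.Bas
import Cfsg.Agent.E2Q.Burn
import Cfsg.Agent.Char.Irr

set_option autoImplicit false

namespace Cfsg.Agent.E2Q

open MulAction Cfsg Cfsg.Agent.Char Subgroup

variable {G : Type*} [Group G] {Ω : Type*} [MulAction G Ω]

theorem end1_card (H : Subgroup G) (ω : Ω) :
    Nat.card H = Nat.card (stabilizer G ω ⊓ H : Subgroup G) * ol H ω := by
  rw [← relIndex_bot_left, ← relIndex_bot_left, ol, ← inf_relIndex_right (stabilizer G ω) H,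
    relIndex_mul_relIndex _ _ _ bot_le inf_le_right]

theorem end1_mod [Finite G] {p q : ℕ} (hp : p.Prime) (hq : q.Prime) (hpq : p ≠ q)
    {P B X : Subgroup G} {y : G} (hP : IsPGroup p P) (hB : IsPGroup p B) (hy : y ∈ B)
    (hC : centralizer ({y} : Set G) = P) (hX : IsPGroup q X) (hBX : B ≤ normalizer (X : Set G)) :
    Nat.card X ≡ 1 [MOD p] := by
  have := Fact.mk hp
  have := Fact.mk hq
  let _ : MulAction B X := MulAction.compHom X ((normalizerMonoidHom X).comp (inclusion hBX))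
  have h1 := hB.card_modEq_card_fixedPoints X
  have h2 : Nat.card (fixedPoints B X) = 1 := by
    rw [Nat.card_eq_one_iff_unique]
    refine ⟨⟨fun z w => ?_⟩, ⟨⟨1, fun u => map_one ((normalizerMonoidHom X) (inclusion hBX u))⟩⟩⟩
    have key : ∀ z : fixedPoints B X, z.1 = 1 := by
      intro z
      have e : y * (z.1 : G) * y⁻¹ = z.1 := congrArg Subtype.val (z.2 ⟨y, hy⟩)
      have hzP : (z.1 : G) ∈ P := by
        rw [← hC, mem_centralizer_iff]
        rintro _ rfl
        rw [mul_inv_eq_iff_eq_mul] at e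
        exact e
      have hd := IsPGroup.disjoint_of_ne p q hpq P X hP hX
      exact Subtype.ext ((disjoint_def.1 hd) hzP z.1.2)
    exact Subtype.ext ((key z).trans (key w).symm)
  rwa [h2] at h1

theorem end1_num {p q i : ℕ} (hp : p.Prime) (hq : q.Prime) (q2 : 2 < q) (qlt : q < p)
    (e : 2 * q = p + 1) (hle : q ^ i ≤ 2 * p * q) (hm : q ^ i ≡ 1 [MOD p]) : i = 0 := by
  have h4 : i < 4 := by
    by_contra hi
    have h1 : q ^ 4 ≤ q ^ i := Nat.pow_le_pow_right (by omega) (by omega)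
    have h2 : 9 ≤ q * q := by nlinarith
    have h3 : q ^ 4 = q * q * (q * q) := by ring
    nlinarith
  have h1 : (2 * q) ^ i ≡ 1 ^ i [MOD p] := Nat.ModEq.pow i (by rw [e]; simp [Nat.ModEq])
  have h2 : 2 ^ i ≡ 1 [MOD p] := by
    have := (Nat.ModEq.refl (2 ^ i)).mul hm
    rw [mul_one, ← mul_pow] at this
    simpa using this.symm.trans h1
  have h3 : p ∣ 2 ^ i - 1 := (Nat.modEq_iff_dvd' (Nat.one_le_two_pow)).1 h2.symm
  interval_cases i
  · rfl
  · have := Nat.le_of_dvd (by norm_num) h3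
    omega
  · have := Nat.le_of_dvd (by norm_num) h3
    omega
  · have := (Nat.prime_dvd_prime_iff_eq hp (by norm_num)).1 h3
    have h5 : q = 4 := by omega
    rw [h5] at hq
    exact absurd hq (by norm_num)

/-- An element of order `q` fixes `Γ = (orbit P b)ᶜ` pointwise.

Proof. `n = p² + p = 2pq`, so `2q = p + 1`. Take `a ≠ c` in `Γ`, `H = G_a ⊓ G_c`. An element of order
`q` (Cauchy, `q ∣ n ∣ |G|`) fixes a point, so `q ∣ |G_a| = (n - 1) |H|` (`is_two_pretransitive_iff`: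
`ol G_a c = n - 1`), so `q ∣ |H|`. `B` is Sylow in `H` (`sylB`, `Syl.mono`), `burn` (by `hN`, `comm`)
gives `K`, `|H| = |K| p`, `q ∣ |K|`; `B ≤ H ≤ N(H) ≤ N(K)`; `exists_inv_syl` gives a Sylow
`q`-subgroup `R ≠ ⊥` of `K` normalised by `B`. If `X ≤ R` is normalised by `y = x ^ p` then
`|X| ≡ 1 (mod p)`: `B = ⟨y⟩` acts on `X` by conjugation (`IsPGroup.card_modEq_card_fixedPoints`), a
fixed element lies in `C(y) = P`, a `p`-group, and in the `q`-group `R`. For `e ∈ Γ` apply this to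
`R` and `R ⊓ G_e`: `ol R e = q ^ i ≡ 1 (mod p)`, `q ^ i ≤ n = 2q (2q - 1) < 4q²`, so `i ≤ 3`;
`2q ≡ 1`, so `2 ^ i ≡ 1 (mod p)`; for `i = 1, 2, 3`, `p ∣ 1, 3, 7`, so `p = 7`, `q = 4`: not prime.
So `i = 0`: `R` fixes `Γ` pointwise; take an element of order `q` in `R`. -/
theorem end1 [Finite G] [Finite Ω] {p q : ℕ} (su : Su G Ω p q) {P B : Subgroup G} {b : Ω} {x : G}
    (h : CC p q P B b x) (hG : (orbit P b)ᶜ.ncard = p) (hC : centralizer ({x ^ p} : Set G) = P)
    (h2 : IsMultiplyPretransitive G Ω 2)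
    (hN : ∀ a c, a ∉ orbit P b → c ∉ orbit P b → a ≠ c →
        ∀ n ∈ normalizer (B : Set G), n • a = a → n • c = c → n ∈ B) :
    ∃ g : G, orderOf g = q ∧ ∀ a, a ∉ orbit P b → g • a = a := by
  have hp := su.pp
  have hq := su.qp
  have := Fact.mk hp
  have := Fact.mk hq
  have := su.trans
  have cb := h.cb
  have hpq : p ≠ q := su.qlt.ne'
  have e2 : 2 * q = p + 1 := by
    have := cb.cardG
    rw [hG] at this
    refine Nat.eq_of_mul_eq_mul_left hp.pos ?_
    nlinarith
  obtain ⟨a, ha, c, hc, hac⟩ := (Set.one_lt_ncard (s := (orbit P b)ᶜ)).1 (by rw [hG]; exact hp.one_lt)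
  have hqn : q ∣ Nat.card Ω := by rw [su.card]; exact Dvd.intro_left _ rfl
  have hst : ∀ ω : Ω, Nat.card (stabilizer G ω) * Nat.card Ω = Nat.card G := fun ω => by
    rw [← index_stabilizer_of_transitive G ω, card_mul_index]
  have hn0 : 0 < Nat.card Ω := by
    rw [su.card]; exact Nat.mul_pos (Nat.mul_pos two_pos hp.pos) hq.pos
  obtain ⟨g, hg⟩ := exists_prime_orderOf_dvd_card' (G := G) q
    (hqn.trans (Dvd.intro_left _ (hst a)))
  obtain ⟨ω, hω⟩ := su.el g (hg ▸ hq)
  have hqa : q ∣ Nat.card (stabilizer G a) := by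
    rw [Nat.eq_of_mul_eq_mul_right hn0 ((hst a).trans (hst ω).symm), ← hg]
    exact orderOf_dvd_natCard _ (mem_stabilizer_iff.2 hω)
  have horb : orbit (stabilizer G a) c = ({a} : Set Ω)ᶜ := by
    ext d
    rw [mem_orbit_sub, Set.mem_compl_singleton_iff]
    constructor
    · rintro ⟨k, hk, rfl⟩ e
      exact hac (smul_left_cancel k (by rw [e, mem_stabilizer_iff.1 hk])).symm
    · intro hd
      obtain ⟨k, k1, k2⟩ := is_two_pretransitive_iff.1 h2 hac (Ne.symm hd)
      exact ⟨k, k1, k2⟩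
  have hol : 1 + ol (stabilizer G a) c = Nat.card Ω := by
    rw [ol_eq_ncard, horb, ← Set.ncard_add_ncard_compl ({a} : Set Ω), Set.ncard_singleton]
  set H : Subgroup G := stabilizer G c ⊓ stabilizer G a with hH
  have hqH : q ∣ Nat.card H := by
    rw [end1_card _ c] at hqa
    refine ((Nat.Prime.dvd_mul hq).1 hqa).resolve_right fun hd => ?_
    rw [← hol] at hqn
    exact hq.one_lt.ne' (Nat.dvd_one.1 ((Nat.dvd_add_left hd).1 hqn))
  have hBe : ∀ e, e ∉ orbit P b → B ≤ stabilizer G e := fun e he u hu => (cb.mem_fix e).1 he u hu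
  have hBH : B ≤ H := le_inf (hBe c hc) (hBe a ha)
  have hB : Syl p B H := (cb.sylB a ha).mono hBH inf_le_right
  obtain ⟨K, -, hK, -, hNK, -, hcK⟩ := burn hp hB fun n hn hnN u hu =>
    cb.comm n (hN a c ha hc hac n hnN hn.2 hn.1) u hu
  have hcB : Nat.card B = p := by rw [h.eB, Nat.card_zpowers, h.oy]
  have hqK : q ∣ Nat.card K := by
    rw [hcK, hcB] at hqH
    exact ((Nat.Prime.dvd_mul hq).1 hqH).resolve_right fun hd =>
      hpq ((Nat.prime_dvd_prime_iff_eq hq hp).1 hd).symm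
  obtain ⟨R, hR, hBR⟩ := exists_inv_syl hp hq hB.pg ((hBH.trans le_normalizer).trans hNK) hK
  have hy : x ^ p ∈ B := by rw [h.eB]; exact mem_zpowers _
  have hR1 := end1_mod hp hq hpq cb.syl.pg hB.pg hy hC hR.pg hBR
  have hfix : ∀ e, e ∉ orbit P b → R ≤ stabilizer G e := by
    intro e he
    have hBX : B ≤ normalizer ((stabilizer G e ⊓ R : Subgroup G) : Set G) := by
      intro u hu
      have u1 := mem_normalizer_iff.1 (le_normalizer (hBe e he hu))
      have u2 := mem_normalizer_iff.1 (hBR hu)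
      exact mem_normalizer_iff.2 fun z => and_congr (u1 z) (u2 z)
    have hX1 := end1_mod hp hq hpq cb.syl.pg hB.pg hy hC (hR.pg.to_le inf_le_right) hBX
    obtain ⟨i, hi⟩ := ol_pow hq hR.pg e
    have hm : q ^ i ≡ 1 [MOD p] := by
      have := hX1.mul (Nat.ModEq.refl (ol R e))
      rw [← end1_card, one_mul, hi] at this
      exact this.symm.trans hR1
    have hle : q ^ i ≤ 2 * p * q := by
      rw [← hi, ol_eq_ncard, ← su.card, ← Set.ncard_univ]
      exact Set.ncard_le_ncard (Set.subset_univ _)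
    rw [end1_num hp hq su.q2 su.qlt e2 hle hm, pow_zero] at hi
    exact relIndex_eq_one.1 hi
  have hqR : q ∣ Nat.card R := by
    refine hR.pg.card_eq_or_dvd.resolve_left fun h1 => hR.nd ?_
    rwa [card_eq_one.1 h1, relIndex_bot_left]
  obtain ⟨r, hr⟩ := exists_prime_orderOf_dvd_card' (G := R) q hqR
  exact ⟨r, by rw [Subgroup.orderOf_coe, hr], fun e he => hfix e he r.2⟩

end Cfsg.Agent.E2Q
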