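import Mathlib
import Cfsg.Agent.E2Q.Def
import Cfsg.Agent.E2Q.Bas
import Cfsg.Agent.E2Q.Burn
import Cfsg.Agent.Char.Irr

set_option autoImplicit false

namespace Cfsg.Agent.E2Q

open MulAction Cfsg Cfsg.Agent.Char Subgroup

variable {G : Type*} [Group G] {Ω : Type*} [MulAction G Ω]

/-- The final contradiction. `Z = fixingSubgroup G Γ`, `Γ = (orbit P b)ᶜ`; `B ≤ Z ≤ G_a`, so `B` is
Sylow in `Z`; `burn` (by `hN` for two points of `Γ`, `comm`) gives `K`, `g ∈ K`,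
`P ≤ N(Z) ≤ N(K)` (`P` preserves `Γ`). `exists_inv_syl` gives a Sylow `q`-subgroup `R` of `K`
normalised by `P`; `R ≠ ⊥` (`Syl.card_le` for `zpowers g`). The fixed points of `R` are
`P`-invariant; if `R` fixed a point of `Δ` it would fix `Δ` and `Γ`, so `R = ⊥`. So the `q`-group `R`
acts on `Δ` (`p²` points) without fixed points (or: on `Ω` with exactly `p` fixed points,
`2pq ≡ p (mod q)`, `IsPGroup.card_modEq_card_fixedPoints`): `q ∣ p`, contradiction. -/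
theorem end2 [Finite G] [Finite Ω] {p q : ℕ} (su : Su G Ω p q) {P B : Subgroup G} {b : Ω} {x : G}
    (h : CC p q P B b x) (hG : (orbit P b)ᶜ.ncard = p)
    (hN : ∀ a c, a ∉ orbit P b → c ∉ orbit P b → a ≠ c →
        ∀ n ∈ normalizer (B : Set G), n • a = a → n • c = c → n ∈ B)
    {g : G} (hg : orderOf g = q) (hfix : ∀ a, a ∉ orbit P b → g • a = a) : False := by
  have := Fact.mk su.qp
  have hp := su.pp
  have inv : ∀ y ∈ P, ∀ a, a ∉ orbit P b → y • a ∉ orbit P b := fun y hy a ha hc => by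
    obtain ⟨z, hz, e⟩ := mem_orbit_sub.1 hc
    exact ha (mem_orbit_sub.2 ⟨y⁻¹ * z, P.mul_mem (P.inv_mem hy) hz, by rw [mul_smul, e, inv_smul_smul]⟩)
  obtain ⟨a, ha, c, hc, hac⟩ := (Set.one_lt_ncard (Set.toFinite (orbit P b)ᶜ)).1 (by rw [hG]; exact hp.one_lt)
  let Z : Subgroup G := fixingSubgroup G (orbit P b)ᶜ
  have mZ : ∀ z, z ∈ Z ↔ ∀ y, y ∉ orbit P b → z • y = y := fun z => mem_fixingSubgroup_iff G
  have hB : Syl p B Z := (h.cb.sylB a ha).mono (fun u hu => (mZ u).2 fun y hy => (h.cb.mem_fix y).1 hy u hu)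
    fun z hz => (mZ z).1 hz a ha
  obtain ⟨K, hKZ, hK, hmem, hnorm, -, -⟩ := burn hp hB fun n hn hn' u hu =>
    h.cb.comm n (hN a c ha hc hac n hn' ((mZ n).1 hn a ha) ((mZ n).1 hn c hc)) u hu
  have hgK : g ∈ K := (hmem g ((mZ g).2 hfix)).2 fun hd => by
    rw [hg] at hd
    exact absurd (Nat.le_of_dvd su.qp.pos hd) (not_le.2 su.qlt)
  have cZ : ∀ y ∈ P, ∀ z ∈ Z, y * z * y⁻¹ ∈ Z := fun y hy z hz => (mZ _).2 fun a ha => by
    rw [mul_smul, mul_smul, (mZ z).1 hz _ (inv _ (P.inv_mem hy) a ha), smul_inv_smul]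
  have hPZ : P ≤ normalizer (Z : Set G) := fun y hy => mem_normalizer_iff.2 fun z =>
    ⟨cZ y hy z, fun hz => by simpa [mul_assoc] using cZ y⁻¹ (P.inv_mem hy) _ hz⟩
  obtain ⟨R, hR, hPR⟩ := exists_inv_syl hp su.qp h.cb.syl.pg (hPZ.trans hnorm) hK
  have cg : Nat.card (zpowers g) = q := by rw [Nat.card_zpowers, hg]
  have hq : q ≤ Nat.card R := cg ▸ hR.card_le su.qp (IsPGroup.of_card (n := 1) (by rw [cg, pow_one]))
    (zpowers_le_of_mem hgK)
  have hF : fixedPoints R Ω = (orbit P b)ᶜ := by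
    ext ω
    refine ⟨fun hω hb => ?_, fun hω r => (mZ r).1 (hKZ (hR.le r.2)) ω hω⟩
    have hbot : R = ⊥ := eq_bot_iff.2 fun r hr => su.faith r fun d => by
      by_cases hd : d ∈ orbit P b
      · obtain ⟨y, hy, rfl⟩ := mem_orbit_sub.1 ((orbit_eq_iff.2 hb).ge hd)
        have hr' : y⁻¹ * r * y⁻¹⁻¹ ∈ R := (mem_normalizer_iff.1 (hPR (P.inv_mem hy)) r).1 hr
        have e : (y⁻¹ * r * y⁻¹⁻¹) • ω = ω := hω ⟨_, hr'⟩
        rw [inv_inv, mul_smul, mul_smul, inv_smul_eq_iff] at e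
        exact e
      · exact (mZ r).1 (hKZ (hR.le hr)) d hd
    rw [hbot, card_bot] at hq
    exact absurd su.qp.one_lt (not_lt.2 hq)
  have hm := hR.pg.card_modEq_card_fixedPoints Ω
  rw [hF, su.card, Nat.card_coe_set_eq, hG] at hm
  have hd : q ∣ p := (hm.dvd_iff dvd_rfl).1 (dvd_mul_left q (2 * p))
  exact su.qlt.ne ((Nat.prime_dvd_prime_iff_eq su.qp hp).1 hd)

end Cfsg.Agent.E2Q
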