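import Mathlib
import Cfsg.Agent.E2Q.Def
import Cfsg.Agent.E2Q.Bas

set_option autoImplicit false

namespace Cfsg.Agent.E2Q

open MulAction

variable {G : Type*} [Group G] {Ω : Type*} [MulAction G Ω]

theorem o1_const [Finite G] {p : ℕ} (hp : p.Prime) {P : Subgroup G} (hP : IsPGroup p P) {a : Ω}
    (ha : ol P a = p) {h : G} (hh : h ∈ P) : P ⊓ stabilizer G (h • a) = P ⊓ stabilizer G a := by
  have k := (idx_prime hp hP ha).1
  ext u
  refine and_congr_right fun hu => ⟨fun e => ?_, fun e => ?_⟩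
  · have := k h hh (h⁻¹ * u * h) (mul_mem (mul_mem (inv_mem hh) hu) hh) (by
      rw [mem_stabilizer_iff, mul_smul, mul_smul, mem_stabilizer_iff.1 e, inv_smul_smul])
    simpa [mul_assoc] using this
  · have := mem_stabilizer_iff.1 (k h⁻¹ (inv_mem hh) u hu e)
    rw [inv_inv, mul_smul, mul_smul, inv_smul_eq_iff] at this
    exact this

theorem o1_idx {p : ℕ} {P : Subgroup G} {a : Ω} (ha : ol P a = p) :
    (P ⊓ stabilizer G a).index = p * P.index := by
  rw [← Subgroup.relIndex_mul_index (inf_le_left : P ⊓ stabilizer G a ≤ P), Subgroup.inf_relIndex_left]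
  exact congrArg (· * _) ha

theorem o1_syl [Finite G] {p q : ℕ} (su : Su G Ω p q) {P : Subgroup G} (hP : Syl p P ⊤) {a : Ω}
    (ha : ol P a = p) : Syl p (P ⊓ stabilizer G a) (stabilizer G a) := by
  refine ⟨hP.pg.to_inf_left, inf_le_right, fun k => hP.nd ?_⟩
  have := su.trans
  have e := Subgroup.relIndex_mul_index (inf_le_right : P ⊓ stabilizer G a ≤ stabilizer G a)
  rw [o1_idx ha, index_stabilizer_of_transitive, su.card] at e
  rw [Subgroup.relIndex_top_right, Nat.eq_of_mul_eq_mul_left su.pp.pos (show p * P.index =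
    p * ((P ⊓ stabilizer G a).relIndex (stabilizer G a) * (2 * q)) by rw [← e]; ring)]
  exact k.mul_right _

/-- Orbits of a Sylow `p`-subgroup. Proof. `ol ⊤ ω = 2pq`, so `p ∣ ol P ω` (`Syl.dvd_ol`), a power
of `p` (`ol_pow`), at most `2pq < 2p² < p³`: it is `p` or `p²`. If `ol P b = p²`: a point `a` outside
`orbit P b` has an orbit disjoint from it, of length `≤ 2pq - p² < p²`, so `p`. `2pq ≠ p²` (parity)
gives `ne`. `few`: the complement of `orbit P b` has `p (2q - p)` points and is a union of orbits of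
length `p`; take `s` = one representative for each (`s.card = 2q - p ≤ p - 2` since `q + 1 ≤ p`),
and `P ⊓ stabilizer a` is constant along an orbit of length `p` (normal in `P`, `idx_prime`).
`conj`: `P_a = P ⊓ stabilizer a` is Sylow in `stabilizer G a`
(`|G : P_a| = |G : P| p = 2pq |G_a : P_a|`), and `g • a = c` conjugates the stabilisers; use
`Syl.conj`. -/
theorem orb1 [Finite G] [Finite Ω] {p q : ℕ} (su : Su G Ω p q) {P : Subgroup G}
    (hP : Syl p P ⊤) : (∀ ω : Ω, ol P ω = p) ∨ ∃ b : Ω, C2 p P b := by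
  classical
  have := su.trans
  have := Fintype.ofFinite Ω
  have p0 := su.pp.pos
  have qp := su.qlt
  have pw : ∀ ω : Ω, ol P ω = p ∨ ol P ω = p ^ 2 := fun ω => by
    have h1 : p ∣ ol P ω := hP.dvd_ol su.pp (by
      rw [ol, Subgroup.relIndex_top_right, index_stabilizer_of_transitive, su.card]
      exact ⟨2 * q, by ring⟩)
    have h2 : ol P ω ≤ 2 * p * q := by rw [ol_eq_ncard, ← su.card]; exact Set.ncard_le_card _
    obtain ⟨i, hi⟩ := ol_pow su.pp hP.pg ω
    rw [hi] at h1 h2 ⊢
    have h3 : i < 3 := (Nat.pow_lt_pow_iff_right su.pp.one_lt).1 (h2.trans_lt (by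
      have := su.q2
      calc 2 * p * q < p * p * p := by gcongr; omega
        _ = p ^ 3 := by ring))
    interval_cases i
    · exact absurd (Nat.dvd_one.1 (by simpa using h1)) su.pp.one_lt.ne'
    · exact Or.inl (pow_one p)
    · exact Or.inr rfl
  refine or_iff_not_imp_left.2 fun hn => ?_
  obtain ⟨b, hb⟩ := not_forall.1 hn
  have hb2 := (pw b).resolve_left hb
  have hc : (orbit P b)ᶜ.ncard + p ^ 2 = 2 * p * q := by
    rw [← hb2, ol_eq_ncard, add_comm, Set.ncard_add_ncard_compl, su.card]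
  have sub : ∀ a, a ∉ orbit P b → ∀ c ∈ orbit P a, c ∉ orbit P b := fun a ha c h1 h2 =>
    ha ((orbit_eq_iff.2 h2) ▸ (orbit_eq_iff.2 h1).symm ▸ mem_orbit_self a)
  have olo : ∀ a, a ∉ orbit P b → ol P a = p := fun a ha => (pw a).resolve_right fun e => by
    have : (orbit P a).ncard ≤ (orbit P b)ᶜ.ncard := Set.ncard_le_ncard (sub a ha)
    rw [← ol_eq_ncard, e] at this
    nlinarith
  refine ⟨b, hP, hb2, olo, ?_, ?_, fun a c ha hc => ?_⟩
  · by_contra! k
    rw [Set.eq_univ_of_forall k, Set.compl_univ, Set.ncard_empty, zero_add, pow_two, mul_comm 2,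
      mul_assoc] at hc
    have := (su.pp.eq_two_or_odd).resolve_left (by have := su.q2; omega)
    have := Nat.eq_of_mul_eq_mul_left p0 hc
    omega
  · let f : Ω → Ω := fun a => (Quotient.mk (orbitRel P Ω) a).out
    have hf : ∀ a, f a ∈ orbit P a := fun a => orbitRel_apply.1 (Quotient.mk_out (s := orbitRel P Ω) a)
    have hf2 : ∀ a c, c ∈ orbit P a → f c = f a := fun a c h =>
      congrArg Quotient.out (Quotient.sound (orbitRel_apply.2 h))
    refine ⟨(orbit P b)ᶜ.toFinset.image f, ?_, fun a ha => ?_, fun a ha =>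
      ⟨f a, Finset.mem_image_of_mem f (Set.mem_toFinset.2 ha), ?_⟩⟩
    · have k := Finset.mul_card_image_le_card (f := f) (orbit P b)ᶜ.toFinset p fun c hc => by
        obtain ⟨a, ha, rfl⟩ := Finset.mem_image.1 hc
        have ha := Set.mem_toFinset.1 ha
        rw [← olo a ha, ol_eq_ncard, Set.ncard_eq_toFinset_card']
        exact Finset.card_le_card fun x hx => Finset.mem_filter.2
          ⟨Set.mem_toFinset.2 (sub a ha x (Set.mem_toFinset.1 hx)), hf2 a x (Set.mem_toFinset.1 hx)⟩
      rw [← Set.ncard_eq_toFinset_card'] at k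
      generalize ((orbit P b)ᶜ.toFinset.image f).card = m at k ⊢
      have : p * (m + p) ≤ p * (2 * q) := by nlinarith
      have := Nat.le_of_mul_le_mul_left this p0
      omega
    · obtain ⟨c, hc, rfl⟩ := Finset.mem_image.1 ha
      exact sub c (Set.mem_toFinset.1 hc) _ (hf c)
    · obtain ⟨h, hh, e⟩ := mem_orbit_sub.1 (hf a)
      rw [← e, o1_const su.pp hP.pg (olo a ha) hh]
  · obtain ⟨g, rfl⟩ := exists_smul_eq G a c
    have s2 := o1_syl su hP (olo _ hc)
    have s1 : Syl p ((P ⊓ stabilizer G a).map (MulAut.conj g).toMonoidHom) (stabilizer G (g • a)) := by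
      refine s2.of_card_le su.pp (hP.pg.to_inf_left.map _) ?_ ?_
      · rw [stabilizer_smul_eq_stabilizer_map_conj]
        exact Subgroup.map_mono inf_le_right
      · rw [Subgroup.card_map_of_injective (MulAut.conj g).injective]
        have e1 := (P ⊓ stabilizer G a).card_mul_index
        have e2 := (P ⊓ stabilizer G (g • a)).card_mul_index
        rw [o1_idx (olo _ ha)] at e1
        rw [o1_idx (olo _ hc), ← e1] at e2
        exact (Nat.eq_of_mul_eq_mul_right (Nat.mul_pos p0 (Nat.pos_of_ne_zero P.index_ne_zero_of_finite)) e2).le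
    obtain ⟨k, -, hk⟩ := s2.conj su.pp s1
    refine ⟨k * g, fun x => ?_⟩
    rw [← Subgroup.mem_map_iff_mem (f := (MulAut.conj g).toMonoidHom) (MulAut.conj g).injective, hk]
    simp [mul_assoc]

end Cfsg.Agent.E2Q
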