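import Mathlib
import Cfsg.Agent.E2Q.Def
import Cfsg.Agent.E2Q.Cov
import Cfsg.Agent.E2Q.Bas
import Cfsg.Agent.E2Q.U
import Cfsg.Agent.E2Q.V
import Cfsg.Agent.E2Q.A0

set_option autoImplicit false

namespace Cfsg.Agent.E2Q

open MulAction

variable {G : Type*} [Group G] {Ω : Type*} [MulAction G Ω]

theorem orb2_conj {H H' : Subgroup G} {g : G} (e : ∀ x : G, x ∈ H ↔ g * x * g⁻¹ ∈ H') (ω : Ω) :
    ol H' (g • ω) = ol H ω := by
  rw [ol_eq_ncard, ol_eq_ncard, ← Set.ncard_image_of_injective (orbit H ω) (MulAction.injective g)]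
  congr 1
  ext c
  simp only [Set.mem_image, mem_orbit_sub]
  constructor
  · rintro ⟨k, hk, rfl⟩
    refine ⟨_, ⟨g⁻¹ * k * g, (e _).2 (by simpa [mul_assoc] using hk), rfl⟩, ?_⟩
    simp [mul_smul]
  · rintro ⟨_, ⟨k, hk, rfl⟩, rfl⟩
    exact ⟨g * k * g⁻¹, (e k).1 hk, by simp [mul_smul]⟩

theorem orb2_sym (P : Subgroup G) (b c : Ω) :
    ol (P ⊓ stabilizer G c) b * ol P c = ol (P ⊓ stabilizer G b) c * ol P b := by
  unfold ol
  rw [inf_comm P, inf_comm P, Subgroup.relIndex_inf_mul_relIndex, Subgroup.relIndex_inf_mul_relIndex,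
    inf_comm]

theorem orb2_eq [Finite G] {p : ℕ} (hp : p.Prime) {P B : Subgroup G} (hP : IsPGroup p P) (hle : B ≤ P)
    {a : Ω} (ha : ol P a = p) (hB : ¬ B ≤ stabilizer G a) : ol B a = p := by
  obtain ⟨i, hi⟩ := ol_pow hp (hP.to_le hle) a
  have h1 : ol B a ≤ ol P a :=
    Subgroup.relIndex_le_of_le_right hle (ha.trans_ne hp.ne_zero)
  have h2 : ol B a ≠ 1 := fun e => hB (Subgroup.relIndex_eq_one.1 e)
  rw [hi] at h2 ⊢
  rw [hi, ha] at h1
  have h3 : i ≤ 1 := (Nat.pow_le_pow_iff_right hp.one_lt).1 (by simpa using h1)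
  interval_cases i
  · simp at h2
  · simp

theorem orb2_exB [Finite G] {p : ℕ} (hp : p.Prime) {P K : Subgroup G} (hP : IsPGroup p P)
    (hK : K.relIndex P = p ^ 2) : ∃ B : Subgroup G, P ⊓ K ≤ B ∧ B ≤ P ∧ B.relIndex P = p := by
  have := Fact.mk hp
  obtain ⟨n, hn⟩ := IsPGroup.iff_card.1 (hP.to_subgroup (K.subgroupOf P))
  have hc : Nat.card P = p ^ n * p ^ 2 := by
    rw [← hn, ← hK, Subgroup.relIndex, Subgroup.card_mul_index]
  obtain ⟨B, hB, hle⟩ := Sylow.exists_subgroup_card_pow_succ (G := P) (p := p) (n := n)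
    ⟨p, by rw [hc]; ring⟩ hn
  refine ⟨B.map P.subtype, fun x hx => ⟨⟨x, hx.1⟩, hle hx.2, rfl⟩, Subgroup.map_subtype_le _, ?_⟩
  rw [Subgroup.relIndex, Subgroup.subgroupOf,
    Subgroup.comap_map_eq_self_of_injective P.subtype_injective]
  have := B.card_mul_index
  rw [hB, hc] at this
  exact Nat.eq_of_mul_eq_mul_left (pow_pos hp.pos (n + 1)) (by rw [this]; ring)

/-- a normal subgroup containing `P_b` contains the stabilisers of all points of the orbit -/
theorem orb2_stab {P M : Subgroup G} {b : Ω} (hn : ∀ x ∈ P, ∀ u ∈ P, u ∈ M → x * u * x⁻¹ ∈ M)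
    (hK : P ⊓ stabilizer G b ≤ M) {c : Ω} (hc : c ∈ orbit P b) : P ⊓ stabilizer G c ≤ M := by
  obtain ⟨x, hx, rfl⟩ := mem_orbit_sub.1 hc
  intro u hu
  have h1 : x⁻¹ * u * x ∈ P := mul_mem (mul_mem (inv_mem hx) hu.1) hx
  have h2 : x⁻¹ * u * x ∈ M := hK ⟨h1, by
    have : u • x • b = x • b := hu.2
    change (x⁻¹ * u * x) • b = b
    rw [mul_smul, mul_smul, this, inv_smul_smul]⟩
  simpa [mul_assoc] using hn x hx _ h1 h2

/-- Case II reduces to II B. `Δ = orbit P b`, `M_a = P ⊓ G_a` (`a ∉ Δ`), `K = P ⊓ G_b` (index `p²`).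

Proof. (A) `K ≰ M_a` for all `a ∉ Δ`. Take `B` with `K ≤ B ≤ P`, of index `p` in `P`
(e.g. `Sylow.exists_subgroup_card_pow_succ` in `↥P`, or: a maximal subgroup `B` of `P` above `K` is
normal of prime index). `B` is normal in `P`, so contains all `P_c`, `c ∈ Δ`, and `ol B c = p`; for
`a ∉ Δ`, `B ≠ M_a`, so `B ⊓ M_a` has index `p` in `B` (a power of `p`, `≤ p`, not `1`). If all
`g ∈ P` with `g ^ p = 1` lie in `B`, then `lemUV` (`K = ⊤`; `B` has exponent `p` by `elab_of_ol`);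
otherwise `lemA0`. (B) `K ≤ M_a` for some `a`. `M_a` is normal in `P`, so contains all `P_c`
(`c ∈ Δ`), so all its orbits have length `≤ p`; the same holds for the `G`-conjugate `M_c`
(`conj`; `ol (g H g⁻¹) (g • ω) = ol H ω`), so `ol M_c b ≤ p`; if `K ≰ M_c` then `K M_c = P` and
`ol M_c b = p²`; so `K ≤ M_c` for all `c ∉ Δ`. If `M_a ≠ M_c` for some `c`: `K = M_a ⊓ M_c` (index
`p²`: `M_a ⊓ M_c` is proper in `M_a`) is normal in `P`, so fixes `Δ` and `Δᶜ` pointwise: `K = ⊥`, all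
`P_c = ⊥` (`c ∈ Δ`), and `g ^ p ∈ M_a ⊓ M_c = ⊥` for `g ∈ P`. By `cov` (`few`) some `g ∈ P` lies in no
`M_c`; `g ≠ 1` has order `p` and no fixed point: contradiction. So all `M_c = M_a =: B`. -/
theorem orb2 [Finite G] [Finite Ω] {p q : ℕ} (su : Su G Ω p q) {P : Subgroup G} {b : Ω}
    (h : C2 p P b) : ∃ B : Subgroup G, CB0 p P B b := by
  have hp := su.pp
  have hP := h.syl.pg
  have hD : ∀ c ∈ orbit P b, ol P c = p ^ 2 := fun c hc => by
    obtain ⟨x, hx, rfl⟩ := mem_orbit_sub.1 hc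
    rw [ol_smul P hx, h.olb]
  by_cases hA : ∀ a, a ∉ orbit P b → ¬ P ⊓ stabilizer G b ≤ stabilizer G a
  · exfalso
    obtain ⟨B, hK, hle, hi⟩ := orb2_exB hp hP h.olb
    have hn := (idx_prime hp hP hi).1
    have hol : ∀ ω : Ω, ol B ω = p := fun ω => by
      by_cases hω : ω ∈ orbit P b
      · have h1 := orb2_stab hn hK hω
        have h2 := Subgroup.relIndex_mul_relIndex _ _ _ h1 hle
        have h3 : P ⊓ stabilizer G ω = B ⊓ stabilizer G ω :=
          le_antisymm (le_inf h1 inf_le_right) (inf_le_inf_right _ hle)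
        rw [Subgroup.inf_relIndex_left, hi, h3, Subgroup.inf_relIndex_left] at h2
        have h4 : ol B ω * p = p ^ 2 := h2.trans (hD ω hω)
        exact Nat.eq_of_mul_eq_mul_right hp.pos (by rw [h4]; ring)
      · exact orb2_eq hp hP hle (h.olo ω hω) fun e => hA ω hω (hK.trans e)
    obtain ⟨hcomm, hexp⟩ := elab_of_ol hp su.faith (hP.to_le hle) fun ω => (hol ω).le
    by_cases hx : ∃ x ∈ P, x ∉ B ∧ x ^ p = 1
    · obtain ⟨x, h1, h2, h3⟩ := hx
      exact lemA0 su h hle hi hK hol h1 h2 h3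
    · refine lemU su (Or.inl rfl) (hP.to_le hle) hol
        (lemV hp su.trans (K := ⊤) h.syl (fun g => ⟨fun hg => ⟨hle hg, hexp g hg⟩, fun hg => ?_⟩)
          hcomm hol)
      by_contra hg'
      exact hx ⟨g, hg.1, hg', hg.2⟩
  push Not at hA
  obtain ⟨a, ha, hKa⟩ := hA
  have hia := idx_prime hp hP (h.olo a ha)
  have h1 : ∀ ω : Ω, ol (P ⊓ stabilizer G a) ω ≤ p := fun ω => by
    by_cases hω : ω ∈ orbit P b
    · have e := orb2_sym P ω a
      have e1 : ol (P ⊓ stabilizer G ω) a = 1 :=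
        Subgroup.relIndex_eq_one.2 (orb2_stab hia.1 hKa hω)
      rw [e1, h.olo a ha, hD ω hω] at e
      exact (Nat.eq_of_mul_eq_mul_right hp.pos (by rw [e]; ring)).le
    · have := h.olo ω hω
      rw [← this]
      exact Subgroup.relIndex_le_of_le_right inf_le_left
        (this.trans_ne hp.ne_zero)
  have h2 : ∀ c, c ∉ orbit P b → P ⊓ stabilizer G b ≤ stabilizer G c := fun c hc => by
    by_contra hKc
    obtain ⟨g, hg⟩ := h.conj a c ha hc
    have e1 := orb2_conj hg (g⁻¹ • b)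
    rw [smul_inv_smul] at e1
    have e2 := orb2_sym P b c
    rw [orb2_eq hp hP inf_le_left (h.olo c hc) hKc, h.olo c hc, h.olb, e1] at e2
    have e3 := h1 (g⁻¹ • b)
    have e4 := hp.two_le
    have e5 : ol (P ⊓ stabilizer G a) (g⁻¹ • b) * p ≤ p * p := Nat.mul_le_mul_right _ e3
    rw [e2] at e5
    nlinarith
  refine ⟨P ⊓ stabilizer G a, h, fun c hc => ?_, le_inf inf_le_left hKa⟩
  by_contra hne
  have hic := idx_prime hp hP (h.olo c hc)
  have h3 : ¬ P ⊓ stabilizer G a ≤ stabilizer G c := fun e => by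
    rcases hia.2.2.2.1 (P ⊓ stabilizer G c) (le_inf inf_le_left e) inf_le_left with e' | e'
    · exact hne e'
    · have : ol P c = 1 := Subgroup.relIndex_eq_one.2 (inf_eq_left.1 e')
      rw [h.olo c hc] at this
      exact hp.ne_one this
  have h4 : (stabilizer G c ⊓ stabilizer G a).relIndex P = p ^ 2 := by
    rw [← Subgroup.relIndex_inf_mul_relIndex, inf_comm]
    change ol (P ⊓ stabilizer G a) c * ol P a = _
    rw [orb2_eq hp hP inf_le_left (h.olo c hc) h3, h.olo a ha, pow_two]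
  have h5 : P ⊓ (stabilizer G c ⊓ stabilizer G a) ≤ P ⊓ stabilizer G b := by
    have e := Subgroup.relIndex_mul_relIndex (P ⊓ stabilizer G b)
      (P ⊓ (stabilizer G c ⊓ stabilizer G a)) P (le_inf inf_le_left (le_inf (h2 c hc) hKa)) inf_le_left
    rw [Subgroup.inf_relIndex_left P, Subgroup.inf_relIndex_left P, h4] at e
    have e' : (stabilizer G b).relIndex P = p ^ 2 := h.olb
    rw [e'] at e
    exact Subgroup.relIndex_eq_one.1
      (Nat.eq_of_mul_eq_mul_right (pow_pos hp.pos 2) (e.trans (one_mul _).symm))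
  have h6 : ∀ u ∈ P, u ∈ stabilizer G c → u ∈ stabilizer G a → u = 1 := fun u hu uc ua => by
    refine su.faith u fun ω => ?_
    by_cases hω : ω ∈ orbit P b
    · obtain ⟨x, hx, rfl⟩ := mem_orbit_sub.1 hω
      have e : x⁻¹ * u * x⁻¹⁻¹ ∈ stabilizer G b :=
        (h5 ⟨P.mul_mem (P.mul_mem (P.inv_mem hx) hu) (P.inv_mem (P.inv_mem hx)),
          hic.1 _ (inv_mem hx) u hu uc, hia.1 _ (inv_mem hx) u hu ua⟩).2
      rw [inv_inv, mem_stabilizer_iff, mul_smul, mul_smul, inv_smul_eq_iff] at e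
      exact e
    · exact h2 ω hω (h5 ⟨hu, uc, ua⟩)
  obtain ⟨s, hs, hs1, hs2⟩ := h.few
  obtain ⟨g, hg, hg'⟩ := cov P hp.two_le s (fun i => stabilizer G i) (by omega)
    fun i hi => (h.olo i (hs1 i hi)).ge
  have g1 : g ≠ 1 := by
    rintro rfl
    obtain ⟨i, hi, -⟩ := hs2 a ha
    exact hg' i hi (one_mem _)
  have gp : g ^ p = 1 := h6 _ (pow_mem hg p) (hic.2.1 g hg) (hia.2.1 g hg)
  have := Fact.mk hp
  obtain ⟨ω, hω⟩ := su.el g (by rw [orderOf_eq_prime gp g1]; exact hp)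
  by_cases hω' : ω ∈ orbit P b
  · have e1 := orb2_stab hia.1 hKa hω' ⟨hg, hω⟩
    have e2 := orb2_stab hic.1 (h2 c hc) hω' ⟨hg, hω⟩
    exact g1 (h6 g hg e2 e1)
  · obtain ⟨i, hi, e⟩ := hs2 ω hω'
    have : g ∈ P ⊓ stabilizer G i := e ▸ (⟨hg, hω⟩ : g ∈ P ⊓ stabilizer G ω)
    exact hg' i hi this.2

end Cfsg.Agent.E2Q
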