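import Mathlib
import Cfsg.Agent.E2Q.Def
import Cfsg.Agent.E2Q.Bas
import Cfsg.Agent.Perm.PrimRel

set_option autoImplicit false

namespace Cfsg.Agent.E2Q

open MulAction

variable {G : Type*} [Group G] {Ω : Type*} [MulAction G Ω]

/-- The easy consequences of II B. `idx` from `olo` at a point `a ∉ Δ` (`B = P ⊓ G_a`); `norm`,
`pow_mem`, `gen` from `idx_prime`; `stab`: for `c = z • b ∈ Δ`, `P_c = z P_b z⁻¹ ≤ B`; `olB`:
`|P : P_c| = p² = |P : B| |B : P_c|`; `comm`, `expo` from `elab_of_ol`; `nexp`: `x ∉ B` fixes no point,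
so does not have order `p`; `sylB`: `|G : B| = |G : P| p = 2pq |G_a : B|`; `witt`, `witt2`:
`Cfsg.Agent.Perm.exists_normalizer_agree` with `s = {a}`, `s = {a, c}` (`B` is Sylow in the pointwise
stabiliser of `s` by `Syl.mono`). -/
theorem rich [Finite G] [Finite Ω] {p q : ℕ} (su : Su G Ω p q) {P B : Subgroup G} {b : Ω}
    (h : CB0 p P B b) : CB p q P B b := by
  have := Fact.mk su.pp
  have := su.trans
  have p1 := su.pp.one_lt
  obtain ⟨a0, ha0⟩ := h.c2.ne
  have pg := h.c2.syl.pg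
  have le : B ≤ P := h.fix a0 ha0 ▸ inf_le_left
  have idx : B.relIndex P = p := by
    rw [← h.fix a0 ha0, Subgroup.inf_relIndex_left]
    exact h.c2.olo a0 ha0
  obtain ⟨k1, k2, -, -, k5⟩ := idx_prime su.pp pg idx
  have stab : ∀ ω : Ω, P ⊓ stabilizer G ω ≤ B := by
    intro ω
    by_cases c : ω ∈ orbit P b
    · obtain ⟨z, hz, rfl⟩ := mem_orbit_sub.1 c
      intro u hu
      have m : z⁻¹ * u * z ∈ P := mul_mem (mul_mem (inv_mem hz) hu.1) hz
      have := k1 z hz _ m (h.stb ⟨m, by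
        have : u • z • b = z • b := hu.2
        change (z⁻¹ * u * z) • b = b
        rw [mul_smul, mul_smul, this, inv_smul_smul]⟩)
      rwa [show z * (z⁻¹ * u * z) * z⁻¹ = u by group] at this
    · exact (h.fix ω c).le
  have olB : ∀ c ∈ orbit P b, ol B c = p := by
    intro c hc
    have e1 : ol P c = p ^ 2 := by
      obtain ⟨z, hz, rfl⟩ := mem_orbit_sub.1 hc
      rw [ol_smul P hz, h.c2.olb]
    have e2 := Subgroup.relIndex_mul_relIndex _ _ _ (stab c) le
    have e3 : (P ⊓ stabilizer G c).relIndex B = ol B c := by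
      unfold ol Subgroup.relIndex
      congr 1
      ext u
      simp only [Subgroup.mem_subgroupOf, Subgroup.mem_inf]
      exact ⟨fun k => k.2, fun k => ⟨le u.2, k⟩⟩
    rw [e3, idx, Subgroup.inf_relIndex_left] at e2
    exact Nat.eq_of_mul_eq_mul_right (by omega) (e2.trans (e1.trans (pow_two p)))
  have fx : ∀ ω : Ω, ω ∉ orbit P b → B ≤ stabilizer G ω := fun ω c => h.fix ω c ▸ inf_le_right
  have el := elab_of_ol su.pp su.faith (pg.to_le le) fun ω => by
    by_cases c : ω ∈ orbit P b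
    · exact (olB ω c).le
    · exact (Subgroup.relIndex_eq_one.2 (fx ω c)).le.trans p1.le
  have sylB : ∀ a, a ∉ orbit P b → Syl p B (stabilizer G a) := by
    refine fun a c => ⟨pg.to_le le, fx a c, fun d => h.c2.syl.nd ?_⟩
    have e1 := Subgroup.relIndex_mul_index (fx a c)
    have e2 := Subgroup.relIndex_mul_index le
    rw [index_stabilizer_of_transitive, su.card, ← e2, idx] at e1
    rw [Subgroup.relIndex_top_right, ← Nat.eq_of_mul_eq_mul_left su.pp.pos
      (show p * (B.relIndex (stabilizer G a) * (2 * q)) = p * P.index by rw [← e1]; ring)]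
    exact d.mul_right _
  have witt2 : ∀ a c a' c', a ∉ orbit P b → c ∉ orbit P b → a' ∉ orbit P b → c' ∉ orbit P b →
      ∀ g : G, g • a = a' → g • c = c' →
        ∃ n ∈ Subgroup.normalizer (B : Set G), n • a = a' ∧ n • c = c' := by
    intro a c a' c' ha hc ha' hc' g e1 e2
    have l1 : B ≤ fixingSubgroup G ({a, c} : Set Ω) := fun u hu => (mem_fixingSubgroup_iff G).2 (by
      rintro y (rfl | rfl)
      · exact fx _ ha hu
      · exact fx _ hc hu)
    obtain ⟨n, hn, e⟩ := Cfsg.Agent.Perm.exists_normalizer_agree ({a, c} : Set Ω) B (pg.to_le le) l1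
      ((sylB a ha).mono l1 fun u hu => (mem_fixingSubgroup_iff G).1 hu a (by simp)).nd g (by
        rintro y (rfl | rfl) u hu
        · rw [e1]; exact fx _ ha' hu
        · rw [e2]; exact fx _ hc' hu)
    exact ⟨n, hn, (e a (by simp)).trans e1, (e c (by simp)).trans e2⟩
  have cD : (orbit P b).ncard = p ^ 2 := (ol_eq_ncard P b).symm.trans h.c2.olb
  refine ⟨h.c2.syl, le, idx, fun x hx => Subgroup.mem_normalizer_iff.2 fun u =>
    ⟨fun hu => k1 x hx u (le hu) hu, fun hu => ?_⟩, k2, el.1, el.2, fun x hx n e => ?_, ?_,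
    fun x hx n z hz => ?_, h.c2.olb, cD, ?_, ⟨a0, ha0⟩, olB, stab,
    fun ω => ⟨fun c u hu => fx ω c hu, fun k c => ?_⟩, sylB, fun a c ha hc => ?_, witt2⟩
  · have := k1 x⁻¹ (inv_mem hx) _ (le hu) hu
    rwa [show x⁻¹ * (x * u * x⁻¹) * x⁻¹⁻¹ = u by group] at this
  · obtain ⟨ω, hω⟩ := su.el x (by
      rw [orderOf_eq_prime e fun c => n (c ▸ one_mem _)]
      exact su.pp)
    exact n (stab ω ⟨hx, hω⟩)
  · by_contra! c
    rw [Subgroup.relIndex_eq_one.2 c] at idx
    omega
  · obtain ⟨i, u, -, hu, e⟩ := k5 x hx n z hz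
    exact ⟨i, u, hu, e⟩
  · rw [← cD, add_comm, Set.ncard_add_ncard_compl, su.card]
  · have := olB ω c
    rw [ol, Subgroup.relIndex_eq_one.2 (show B ≤ stabilizer G ω from k)] at this
    omega
  · obtain ⟨g, hg⟩ := exists_smul_eq G a c
    obtain ⟨n, hn, e, -⟩ := witt2 a a c c ha ha hc hc g hg hg
    exact ⟨n, hn, e⟩

end Cfsg.Agent.E2Q
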