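import Mathlib
import Cfsg.Agent.E2Q.Def
import Cfsg.Agent.E2Q.Bas
import Cfsg.Agent.E2Q.Burn
import Cfsg.Agent.Char.Irr

set_option autoImplicit false

namespace Cfsg.Agent.E2Q

open MulAction Cfsg Cfsg.Agent.Char Subgroup

variable {G : Type*} [Group G] {Ω : Type*} [MulAction G Ω]

/-- `C = C(y)`, `y = x ^ p`, has a normal `p`-complement `D`. Proof: `burn` with `H = C` and the
Sylow subgroup `P` (`Syl.mono`). If `n ∈ C` normalises `P = ⟨x⟩`, `n x n⁻¹ = x ^ k`, `y = y ^ k`, so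
`k ≡ 1 (mod p)`, `k ^ p ≡ 1 (mod p²)`, so `n ^ p ∈ C(P)`; also `n ^ m ∈ C(P)` for
`m = |N(P) : C(P)|`, which divides `|N(P) : P|`, so `|G : P|`, so is prime to `p`; so `n ∈ C(P)`.
`N(B) ≤ N(C)` since `C = C(B)`, `B = ⟨y⟩`. -/
theorem rk1 [Finite G] {p q : ℕ} (hp : p.Prime) {P B : Subgroup G} {b : Ω} {x : G}
    (h : CC p q P B b x) :
    ∃ D : Subgroup G, D ≤ centralizer ({x ^ p} : Set G) ∧ ¬ p ∣ Nat.card D ∧
      normalizer (B : Set G) ≤ normalizer (D : Set G) ∧
      ∀ c ∈ centralizer ({x ^ p} : Set G), ∃ d ∈ D, ∃ z ∈ P, c = d * z := by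
  have := Fact.mk hp
  have xP : x ∈ P := h.eP ▸ mem_zpowers x
  have cP : ∀ z ∈ P, Commute x z := fun z hz => by
    obtain ⟨i, rfl⟩ := mem_zpowers_iff.1 (h.eP ▸ hz)
    exact (Commute.refl x).zpow_right i
  have PC : P ≤ centralizer ({x ^ p} : Set G) := fun z hz =>
    mem_centralizer_singleton_iff.2 ((cP z hz).pow_left p).symm
  obtain ⟨D, h1, h2, -, h3, h4, -⟩ := burn hp (h.cb.syl.mono PC le_top) fun n hn nP => by
    have ny : Commute n (x ^ p) := mem_centralizer_singleton_iff.1 hn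
    obtain ⟨u, hu, e⟩ : ∃ u ∈ P, n * x * n⁻¹ = x * u :=
      ⟨_, mul_mem (inv_mem xP) ((mem_normalizer_iff.1 nP x).1 xP), (mul_inv_cancel_left x _).symm⟩
    have up : u ^ p = 1 := by
      have := congrArg (· ^ p) e
      simp only [conj_pow, (cP u hu).mul_pow, ny.eq, mul_inv_cancel_right] at this
      exact left_eq_mul.1 this
    have nu : Commute n u := by
      obtain ⟨i, rfl⟩ := mem_zpowers_iff.1 (h.eB ▸ by_contra fun k => h.cb.nexp u hu k up)
      exact ny.zpow_right i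
    have it : ∀ i : ℕ, n ^ i * x * (n ^ i)⁻¹ = x * u ^ i := fun i => by
      induction i with
      | zero => simp
      | succ i ih =>
        calc n ^ (i + 1) * x * (n ^ (i + 1))⁻¹ = n * (n ^ i * x * (n ^ i)⁻¹) * n⁻¹ := by group
          _ = n * x * n⁻¹ * (n * u ^ i * n⁻¹) := by rw [ih]; group
          _ = _ := by rw [e, (nu.pow_right i).eq]; group
    obtain ⟨a, m, hm, ho⟩ := Nat.exists_eq_pow_mul_and_not_dvd (orderOf_pos n).ne' p hp.ne_one
    have hw : IsPGroup p (zpowers (n ^ m)) := by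
      obtain ⟨j, -, hj⟩ := (Nat.dvd_prime_pow hp).1 (orderOf_dvd_of_pow_eq_one (x := n ^ m) (n := p ^ a) (by
        rw [← pow_mul, mul_comm, ← ho, pow_orderOf_eq_one]))
      exact IsPGroup.of_card (by rw [Nat.card_zpowers, hj])
    have wP : n ^ m ∈ P := (h.cb.syl.eq_of_le hp (h.cb.syl.pg.to_sup_of_normal_left' hw
      (zpowers_le.2 (pow_mem nP m))) le_sup_left le_top).le (mem_sup_right (mem_zpowers _))
    have um : u ^ m = 1 := by
      have := it m
      rw [← (cP _ wP).eq, mul_inv_cancel_right] at this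
      exact left_eq_mul.1 this
    have u1 : u = 1 := orderOf_eq_one_iff.1 (Nat.eq_one_of_dvd_coprimes
      ((Nat.Prime.coprime_iff_not_dvd hp).2 hm) (orderOf_dvd_of_pow_eq_one up) (orderOf_dvd_of_pow_eq_one um))
    rw [u1, mul_one, mul_inv_eq_iff_eq_mul] at e
    intro z hz
    obtain ⟨i, rfl⟩ := mem_zpowers_iff.1 (h.eP ▸ hz)
    exact (Commute.zpow_right e i).eq
  refine ⟨D, h1, h2, le_trans ?_ h3, h4⟩
  rw [show centralizer {x ^ p} = centralizer (B : Set G) by
    rw [h.eB, zpowers_eq_closure, centralizer_closure]]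
  have k : ∀ n ∈ normalizer (B : Set G), ∀ c ∈ centralizer (B : Set G),
      n * c * n⁻¹ ∈ centralizer (B : Set G) := fun n hn c hc u hu => by
    have := hc _ ((mem_normalizer_iff.1 (inv_mem hn) u).1 hu)
    calc u * (n * c * n⁻¹) = n * (n⁻¹ * u * n⁻¹⁻¹ * c) * n⁻¹ := by group
      _ = _ := by rw [this]; group
  exact fun n hn => mem_normalizer_iff.2 fun c => ⟨k n hn c, fun hc => by
    simpa [mul_assoc] using k _ (inv_mem hn) _ hc⟩

end Cfsg.Agent.E2Q
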