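import Mathlib
import Cfsg.Agent.E2Q.Def
import Cfsg.Agent.E2Q.Bas
import Cfsg.Agent.Char.Irr

set_option autoImplicit false

namespace Cfsg.Agent.E2Q

open MulAction Cfsg Cfsg.Agent.Char Subgroup

variable {G : Type*} [Group G] {Ω : Type*} [MulAction G Ω]

theorem rk2_orb {D : Subgroup G} {n : G} (hn : n ∈ normalizer (D : Set G)) {c e : Ω}
    (he : e ∈ orbit D c) : n • e ∈ orbit D (n • c) := by
  obtain ⟨d, hd, rfl⟩ := mem_orbit_sub.1 he
  refine mem_orbit_sub.2 ⟨n * d * n⁻¹, (mem_normalizer_iff.1 hn d).1 hd, ?_⟩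
  simp [mul_smul]

theorem rk2_ncard [Finite Ω] {D : Subgroup G} {n : G} (hn : n ∈ normalizer (D : Set G)) (c : Ω) :
    (orbit D (n • c)).ncard = (orbit D c).ncard := by
  have key : ∀ (m : G), m ∈ normalizer (D : Set G) → ∀ c : Ω,
      (orbit D c).ncard ≤ (orbit D (m • c)).ncard := fun m hm c =>
    Set.ncard_le_ncard_of_injOn (fun e => m • e) (fun e he => rk2_orb hm he)
      (fun u _ v _ e => MulAction.injective m e)
  refine le_antisymm ?_ (key n hn c)
  have := key n⁻¹ (inv_mem hn) (n • c)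
  rwa [inv_smul_smul] at this

theorem rk2_star [Finite G] [Finite Ω] {p : ℕ} (hp : p.Prime) {P D : Subgroup G} (hP : IsPGroup p P)
    (hD : ¬ p ∣ Nat.card D) (hPD : P ≤ normalizer (D : Set G)) {c : Ω} {z : G} (hz : z ∈ P)
    (hzc : z • c ∈ orbit D c) : ∃ e : Ω, z • e = e := by
  haveI := Fact.mk hp
  let K : Subgroup G :=
    { carrier := {g | g ∈ P ∧ g • c ∈ orbit D c}
      one_mem' := ⟨P.one_mem, by rw [one_smul]; exact mem_orbit_self c⟩
      mul_mem' := by
        rintro g h ⟨hg, hgc⟩ ⟨hh, hhc⟩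
        refine ⟨P.mul_mem hg hh, ?_⟩
        rw [mul_smul, ← orbit_eq_iff.2 hgc]
        exact rk2_orb (hPD hg) hhc
      inv_mem' := by
        rintro g ⟨hg, hgc⟩
        refine ⟨P.inv_mem hg, ?_⟩
        have := rk2_orb (hPD (P.inv_mem hg)) hgc
        rw [inv_smul_smul] at this
        exact mem_orbit_symm.1 this }
  have hK : IsPGroup p K := hP.to_le (fun g hg => hg.1)
  let S : SubMulAction K Ω :=
    { carrier := orbit D c
      smul_mem' := by
        rintro ⟨g, hg, hgc⟩ e he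
        have := rk2_orb (hPD hg) he
        rw [orbit_eq_iff.2 hgc] at this
        exact this }
  have hS : ¬ p ∣ Nat.card S := by
    intro h
    apply hD
    have e1 : Nat.card S = (orbit D c).ncard := rfl
    rw [e1, ← ol_eq_ncard] at h
    exact h.trans (Subgroup.index_dvd_card _)
  obtain ⟨e, he⟩ := hK.nonempty_fixed_point_of_prime_not_dvd_card S hS
  exact ⟨e, congrArg Subtype.val (he ⟨z, hz, hzc⟩)⟩

/-- Counting orbitals on `Γ = (orbit P b)ᶜ = Fix B`. `N = N(B) ≥ C = C(y) ≥ D, P`; `f = |N : C|`.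

Proof. `N` preserves `Γ` (`mem_fix`). Fix `a ∈ Γ`, `Γ₀ = orbit D a`. All `D`-orbits in `Γ` have one
length `d₀` (`witt`, `hND`), `p ∤ d₀`. (*) If `z ∈ P` has `z • a ∈ Γ₀` then `z ∈ B`: the `p`-group
`zpowers z` normalises `D`, acts on `Γ₀`, so has a fixed point; use `stab`. So the sets
`x^j • Γ₀ = orbit D (x^j • a)`, `j < p`, are pairwise disjoint: `p d₀ ≤ |Γ|`. Let `N_a = N ⊓ G_a`. For
`c ∈ Γ`: `ol N_a c ≤ f d₀`, because `|N_a : N_a ⊓ C| ≤ f` and `orbit (N_a ⊓ C) c ⊆ orbit D c`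
(`w = d z` fixing `a` gives `z ∈ B` by (*), so `w • c = d • c`). The fibres in `Γ` of
`c ↦ ⟦(a, c)⟧ ∈ orbitRel.Quotient G (Ω × Ω)` are `N_a`-orbits (`witt2`); the fibre of `⟦(a,a)⟧` is
`{a}`. If `d₀ = 1`: `|Γ| - 1 ≤ ρ f ≤ p - 1`, so `|Γ| = p`. If `d₀ > 1` take `a' ∈ Γ₀`, `a' ≠ a`; its fibre
lies in `Γ₀` (`N_a` preserves `Γ₀`), so `Γ \ Γ₀` is covered by `ρ - 1` fibres:
`(p - 1) d₀ ≤ (ρ - 1) f d₀ < (p - 1) d₀`. -/
theorem rk2 [Finite G] [Finite Ω] {p q : ℕ} (hp : p.Prime) {P B : Subgroup G} {b : Ω} {x : G}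
    (h : CC p q P B b x) {ρ : ℕ} (hρ : Nat.card (orbitRel.Quotient G (Ω × Ω)) = ρ + 1)
    (hρf : ρ * (centralizer ({x ^ p} : Set G)).relIndex (normalizer (B : Set G)) ≤ p - 1)
    {D : Subgroup G} (hDC : D ≤ centralizer ({x ^ p} : Set G)) (hD : ¬ p ∣ Nat.card D)
    (hND : normalizer (B : Set G) ≤ normalizer (D : Set G))
    (hC : ∀ c ∈ centralizer ({x ^ p} : Set G), ∃ d ∈ D, ∃ z ∈ P, c = d * z) :
    (orbit P b)ᶜ.ncard = p ∧ ∀ d ∈ D, ∀ a, a ∉ orbit P b → d • a = a := by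
  classical
  haveI := Fintype.ofFinite Ω
  haveI := Fintype.ofFinite (orbitRel.Quotient G (Ω × Ω))
  have cb := h.cb
  set C := centralizer ({x ^ p} : Set G) with hCdef
  set N := normalizer (B : Set G) with hNdef
  set f := C.relIndex N with hf
  have hf0 : f ≠ 0 := Subgroup.index_ne_zero_of_finite
  have hNΓ : ∀ n ∈ N, ∀ c, c ∉ orbit P b → n • c ∉ orbit P b := by
    intro n hn c hc
    rw [cb.mem_fix] at hc ⊢
    intro u hu
    have := hc _ ((mem_normalizer_iff.1 (inv_mem hn) u).1 hu)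
    rw [inv_inv, mul_smul, mul_smul, inv_smul_eq_iff] at this
    exact this
  have hCN : C ≤ N := by
    intro c hc
    have hc' : ∀ u ∈ B, c * u * c⁻¹ = u := by
      intro u hu
      rw [h.eB] at hu
      obtain ⟨k, rfl⟩ := mem_zpowers_iff.1 hu
      have : Commute (x ^ p) c := mem_centralizer_iff.1 hc _ rfl
      rw [← (this.zpow_left k).eq, mul_inv_cancel_right]
    rw [hNdef]
    refine mem_normalizer_fintype ?_
    intro u hu
    rw [hc' u hu]; exact hu
  have hPD : P ≤ normalizer (D : Set G) := cb.norm.trans hND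
  have star : ∀ {c : Ω} {z : G}, z ∈ P → z • c ∈ orbit D c → z ∈ B := fun hz hzc => by
    obtain ⟨e, he⟩ := rk2_star hp cb.syl.pg hD hPD hz hzc
    exact cb.stab e ⟨hz, he⟩
  obtain ⟨a, ha⟩ := cb.ne
  set d0 := (orbit D a).ncard with hd0
  have hd : ∀ c, c ∉ orbit P b → (orbit D c).ncard = d0 := fun c hc => by
    obtain ⟨n, hn, rfl⟩ := cb.witt a c ha hc
    exact rk2_ncard (hND hn) a
  have hd1 : 1 ≤ d0 := (Set.ncard_pos (Set.toFinite _)).2 ⟨a, mem_orbit_self a⟩
  have hOΓ : ∀ e ∈ orbit D a, e ∉ orbit P b := fun e he => by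
    obtain ⟨d, hdD, rfl⟩ := mem_orbit_sub.1 he
    exact hNΓ d (hCN (hDC hdD)) a ha
  have hxP : x ∈ P := by rw [h.eP]; exact mem_zpowers x
  set Γ : Finset Ω := (orbit P b)ᶜ.toFinset with hΓ
  have mΓ : ∀ c, c ∈ Γ ↔ c ∉ orbit P b := fun c => by simp [hΓ]
  have cΓ : (orbit P b)ᶜ.ncard = Γ.card := Set.ncard_eq_toFinset_card' _
  set O : Finset Ω := (orbit D a).toFinset with hO
  have mO : ∀ c, c ∈ O ↔ c ∈ orbit D a := fun c => by simp [hO]
  have cO : O.card = d0 := (Set.ncard_eq_toFinset_card' _).symm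
  have low : p * d0 ≤ Γ.card := by
    have key : ∀ (i k : ℕ) (e e' : Ω), i + k < p → e ∈ orbit D a → e' ∈ orbit D a →
        x ^ i • e = x ^ (i + k) • e' → k = 0 ∧ e = e' := by
      intro i k e e' hik he he' heq
      rw [pow_add, mul_smul, smul_left_cancel_iff] at heq
      have h1 : x ^ k ∈ B := star (P.pow_mem hxP k) (c := e') (by
        rw [← heq, orbit_eq_iff.2 he']; exact he)
      have h2 := cb.expo _ h1
      rw [← pow_mul, ← orderOf_dvd_iff_pow_eq_one, h.ox, pow_two] at h2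
      have h3 := Nat.dvd_of_mul_dvd_mul_right hp.pos h2
      have h4 : k = 0 := Nat.eq_zero_of_dvd_of_lt h3 (by omega)
      subst h4
      exact ⟨rfl, by simpa using heq⟩
    rw [← cO, ← Finset.card_range p, ← Finset.card_product]
    refine Finset.card_le_card_of_injOn (fun t => x ^ t.1 • t.2) ?_ ?_
    · rintro ⟨i, e⟩ ht
      simp only [Finset.coe_product, Set.mem_prod, Finset.mem_coe, mO] at ht
      simp only [Finset.mem_coe, mΓ]
      exact hNΓ _ (cb.norm (P.pow_mem hxP i)) e (hOΓ e ht.2)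
    · rintro ⟨i, e⟩ ht ⟨j, e'⟩ ht' heq
      simp only [Finset.coe_product, Set.mem_prod, Finset.mem_coe, mO, Finset.mem_range] at ht ht'
      rcases le_total i j with hij | hij
      · obtain ⟨k, rfl⟩ := Nat.exists_eq_add_of_le hij
        obtain ⟨rfl, rfl⟩ := key i k e e' ht'.1 ht.2 ht'.2 heq
        rfl
      · obtain ⟨k, rfl⟩ := Nat.exists_eq_add_of_le hij
        obtain ⟨rfl, rfl⟩ := key j k e' e ht.1 ht'.2 ht.2 heq.symm
        rfl
  let φ : Ω → orbitRel.Quotient G (Ω × Ω) := fun c => Quotient.mk (orbitRel G (Ω × Ω)) (a, c)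
  have hφ : ∀ c c', c ∉ orbit P b → c' ∉ orbit P b → φ c = φ c' →
      ∃ n ∈ N, n • a = a ∧ n • c' = c := by
    intro c c' hc hc' e
    obtain ⟨g, hg⟩ : (a, c) ∈ orbit G (a, c') := Quotient.exact e
    exact cb.witt2 a c' a c ha hc' ha hc g (congrArg Prod.fst hg) (congrArg Prod.snd hg)
  have fib : ∀ (s : Finset Ω), s ⊆ Γ → ∀ t, (s.filter fun c => φ c = t).card ≤ f * d0 := by
    intro s hs t
    rcases (s.filter fun c => φ c = t).eq_empty_or_nonempty with h0 | ⟨c0, hc0⟩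
    · rw [h0]; exact Nat.zero_le _
    rw [Finset.mem_filter] at hc0
    have hc0Γ := (mΓ _).1 (hs hc0.1)
    set A := N ⊓ stabilizer G a with hA
    have s1 : (s.filter fun c => φ c = t).card ≤ (orbit A c0).ncard := by
      rw [← Set.ncard_coe_finset]
      refine Set.ncard_le_ncard (fun c hc => ?_) (Set.toFinite _)
      rw [Finset.mem_coe, Finset.mem_filter] at hc
      obtain ⟨n, hn, e1, e2⟩ := hφ c c0 ((mΓ _).1 (hs hc.1)) hc0Γ (hc.2.trans hc0.2.symm)
      exact mem_orbit_sub.2 ⟨n, ⟨hn, e1⟩, e2⟩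
    have s2 : (orbit (C ⊓ A : Subgroup G) c0).ncard ≤ d0 := by
      rw [← hd c0 hc0Γ]
      refine Set.ncard_le_ncard (fun c hc => ?_) (Set.toFinite _)
      obtain ⟨w, ⟨hwC, _, hwa⟩, rfl⟩ := mem_orbit_sub.1 hc
      obtain ⟨d, hdD, z, hz, rfl⟩ := hC w hwC
      have e1 : (d * z) • a = a := hwa
      have hzB : z ∈ B := star hz (c := a) (mem_orbit_sub.2 ⟨d⁻¹, D.inv_mem hdD, by
        rw [inv_smul_eq_iff, ← mul_smul, e1]⟩)
      rw [mul_smul, (cb.mem_fix c0).1 hc0Γ z hzB]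
      exact mem_orbit_sub.2 ⟨d, hdD, rfl⟩
    have s3 : (C ⊓ A).relIndex A ≤ f := by
      rw [inf_relIndex_right]
      exact relIndex_le_of_le_right inf_le_left hf0
    have s4 : (stabilizer G c0).relIndex A ≤ (stabilizer G c0 ⊓ (C ⊓ A)).relIndex A :=
      relIndex_le_of_le_left inf_le_left Subgroup.index_ne_zero_of_finite
    rw [← relIndex_mul_relIndex _ (C ⊓ A) A inf_le_right inf_le_right, inf_relIndex_right] at s4
    rw [← ol_eq_ncard] at s1 s2
    calc _ ≤ _ := s1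
      _ ≤ _ := s4
      _ ≤ d0 * f := Nat.mul_le_mul s2 s3
      _ = f * d0 := mul_comm _ _
  have hφa : ∀ c, c ∉ orbit P b → c ≠ a → φ c ≠ φ a := fun c hc hca e => by
    obtain ⟨n, _, e1, e2⟩ := hφ c a hc ha e
    exact hca (e2.symm.trans e1)
  have cQ : (Finset.univ.erase (φ a)).card = ρ := by
    rw [Finset.card_erase_of_mem (Finset.mem_univ _), Finset.card_univ, ← Nat.card_eq_fintype_card, hρ]
    rfl
  have hp2 := hp.two_le
  rcases hd1.eq_or_lt with h1 | h1
  · have up : (Γ.erase a).card ≤ f * d0 * (Finset.univ.erase (φ a)).card :=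
      Finset.card_le_mul_card_image_of_maps_to (f := φ)
        (fun c hc => Finset.mem_erase.2 ⟨hφa c ((mΓ _).1 (Finset.mem_of_mem_erase hc))
          (Finset.mem_erase.1 hc).1, Finset.mem_univ _⟩) _
        (fun t _ => fib _ (Finset.erase_subset _ _) t)
    rw [cQ, Finset.card_erase_of_mem ((mΓ _).2 ha), ← h1, mul_one, mul_comm] at up
    rw [← h1, mul_one] at low
    refine ⟨by omega, fun d hdD c hc => ?_⟩
    have := hd c hc
    rw [← h1] at this
    obtain ⟨e, he⟩ := Set.ncard_eq_one.1 this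
    have m1 : c ∈ orbit D c := mem_orbit_self c
    have m2 : d • c ∈ orbit D c := mem_orbit_sub.2 ⟨d, hdD, rfl⟩
    rw [he, Set.mem_singleton_iff] at m1 m2
    rw [m2, m1]
  · exfalso
    obtain ⟨a', ha', haa⟩ : ∃ a' ∈ O, a' ≠ a := Finset.exists_mem_ne (by omega) a
    rw [mO] at ha'
    have hne := hφa a' (hOΓ _ ha') haa
    have hm : φ a' ∈ Finset.univ.erase (φ a) := Finset.mem_erase.2 ⟨hne, Finset.mem_univ _⟩
    have up : (Γ \ O).card ≤ f * d0 * ((Finset.univ.erase (φ a)).erase (φ a')).card := by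
      refine Finset.card_le_mul_card_image_of_maps_to (f := φ) (fun c hc => ?_) _
        (fun t _ => fib _ Finset.sdiff_subset t)
      rw [Finset.mem_sdiff, mΓ, mO] at hc
      refine Finset.mem_erase.2 ⟨fun e => ?_, Finset.mem_erase.2 ⟨hφa c hc.1 fun e => ?_, Finset.mem_univ _⟩⟩
      · obtain ⟨n, hn, e1, e2⟩ := hφ c a' hc.1 (hOΓ _ ha') e
        have := rk2_orb (hND hn) ha'
        rw [e1, e2] at this
        exact hc.2 this
      · exact hc.2 (by rw [e]; exact mem_orbit_self a)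
    have hsub : O ⊆ Γ := fun c hc => (mΓ _).2 (hOΓ c ((mO _).1 hc))
    have hρ1 : 1 ≤ ρ := by rw [← cQ]; exact Finset.card_pos.2 ⟨_, hm⟩
    rw [Finset.card_erase_of_mem hm, cQ, Finset.card_sdiff_of_subset hsub, cO] at up
    obtain ⟨r, rfl⟩ := Nat.exists_eq_add_of_le' hρ1
    obtain ⟨s, rfl⟩ := Nat.exists_eq_add_of_le' hp.one_le
    simp only [Nat.add_sub_cancel] at up hρf
    have hf1 : 1 ≤ f := Nat.pos_of_ne_zero hf0
    have e1 : s * d0 ≤ f * d0 * r := by
      have : (s + 1) * d0 = s * d0 + d0 := by ring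
      omega
    have e2 : r * f + 1 ≤ s := by nlinarith
    nlinarith [Nat.mul_le_mul_right d0 e2]

end Cfsg.Agent.E2Q
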