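import Mathlib
import Cfsg.Agent.E2Q.Def
import Cfsg.Agent.E2Q.Bas
import Cfsg.Agent.E2Q.Rk1
import Cfsg.Agent.E2Q.Rk2
import Cfsg.Agent.Char.PermRank

set_option autoImplicit false

namespace Cfsg.Agent.E2Q

open MulAction Cfsg Cfsg.Agent.Char Subgroup

variable {G : Type*} [Group G] {Ω : Type*} [MulAction G Ω]

theorem rk3_card [Finite G] (H S : Subgroup G) :
    Nat.card H = Nat.card (H ⊓ S : Subgroup G) * S.relIndex H := by
  have e := Subgroup.relIndex_mul_relIndex ⊥ (H ⊓ S) H bot_le inf_le_left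
  rw [Subgroup.relIndex_bot_left, Subgroup.relIndex_bot_left, Subgroup.inf_relIndex_left] at e
  exact e.symm

theorem rk3_dvd [Finite G] {D C : Subgroup G} (hDC : D ≤ C) (hN : C ≤ normalizer (D : Set G))
    (S : Subgroup G) : S.relIndex D ∣ S.relIndex C := by
  haveI : (D.subgroupOf C).Normal := (Subgroup.normal_subgroupOf_iff_le_normalizer hDC).2 hN
  have e1 := Subgroup.relIndex_mul_relIndex (S ⊓ D) D C inf_le_right hDC
  have e2 := Subgroup.relIndex_mul_relIndex (S ⊓ D) (S ⊓ C) C (inf_le_inf_left _ hDC) inf_le_right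
  rw [Subgroup.inf_relIndex_right] at e1
  rw [Subgroup.inf_relIndex_right S C] at e2
  have e3 : (S ⊓ D).relIndex (S ⊓ C) = D.relIndex (S ⊓ C) := by
    rw [← Subgroup.inf_relIndex_right (S ⊓ D), ← Subgroup.inf_relIndex_right D]
    congr 1
    ext g
    simp only [Subgroup.mem_inf]
    tauto
  obtain ⟨u, hu⟩ : D.relIndex (S ⊓ C) ∣ D.relIndex C := by
    have := Subgroup.relIndex_dvd_index_of_normal (D.subgroupOf C) ((S ⊓ C).subgroupOf C)
    rwa [Subgroup.relIndex_subgroupOf inf_le_right] at this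
  have h0 : D.relIndex (S ⊓ C) ≠ 0 := Subgroup.index_ne_zero_of_finite
  refine ⟨u, Nat.eq_of_mul_eq_mul_left (Nat.pos_of_ne_zero h0) ?_⟩
  rw [← e3, e2, ← e1, hu, e3]
  ring

/-- Proof. `D` from `rk1`, `rk2`. `D` preserves `Δ = orbit P b`; `P ≤ N(B) ≤ N(D)` is transitive on
`Δ`, so `D`-orbits in `Δ` have one length dividing `p²` and `|D|`, so `1`. So `D = ⊥`, `C = P`.
`n = p² + p`; `ρ ∣ p² + p - 1 = (p + 2)(p - 1) + 1` and `ρ ∣ p - 1` give `ρ = 1`;
`card_orbits_prod_eq_two_iff`. `|N| = f p²` with `f ≤ p - 1`; `N = N(B)` is transitive on `Γ` and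
`N_a` on `Γ \ {a}` (`witt`, `witt2`, double transitivity), so `|N| = p (p - 1) |N_{a,c}|` with
`B ≤ N_{a,c}`, `|B| = p`; so `N_{a,c} = B`. -/
theorem rk3 [Finite G] [Finite Ω] {p q : ℕ} (su : Su G Ω p q) {P B : Subgroup G} {b : Ω} {x : G}
    (h : CC p q P B b x) {ρ : ℕ} (hρ : Nat.card (orbitRel.Quotient G (Ω × Ω)) = ρ + 1)
    (hρn : ρ ∣ Nat.card Ω - 1)
    (hρf : ρ * (centralizer ({x ^ p} : Set G)).relIndex (normalizer (B : Set G)) ∣ p - 1) :
    (orbit P b)ᶜ.ncard = p ∧ centralizer ({x ^ p} : Set G) = P ∧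
      IsMultiplyPretransitive G Ω 2 ∧
      ∀ a c, a ∉ orbit P b → c ∉ orbit P b → a ≠ c →
        ∀ n ∈ normalizer (B : Set G), n • a = a → n • c = c → n ∈ B := by
  have hp := su.pp
  have cb := h.cb
  have hp1 : 0 < p - 1 := by have := hp.two_le; omega
  have hle := Nat.le_of_dvd hp1 hρf
  obtain ⟨D, hDC, hD, hND, hC⟩ := rk1 hp h
  obtain ⟨hG, hfix⟩ := rk2 hp h hρ hle hDC hD hND hC
  set C := centralizer ({x ^ p} : Set G) with hCdef
  set N := normalizer (B : Set G) with hNdef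
  have hcB : ∀ c ∈ C, ∀ u ∈ B, c * u * c⁻¹ = u := by
    intro c hc u hu
    rw [h.eB] at hu
    obtain ⟨k, rfl⟩ := Subgroup.mem_zpowers_iff.1 hu
    have e : Commute (x ^ p) c := Subgroup.mem_centralizer_iff.1 hc _ rfl
    rw [← (e.zpow_left k).eq, mul_inv_cancel_right]
  have hCN : C ≤ N := by
    intro c hc
    refine Subgroup.mem_normalizer_iff.2 fun u => ⟨fun hu => by rwa [hcB c hc u hu], fun hu => ?_⟩
    have e := hcB c⁻¹ (C.inv_mem hc) _ hu
    have e' : c⁻¹ * (c * u * c⁻¹) * c⁻¹⁻¹ = u := by group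
    rw [e'] at e
    rwa [e]
  have hPC : P ≤ C := by
    intro z hz
    rw [h.eP] at hz
    obtain ⟨k, rfl⟩ := Subgroup.mem_zpowers_iff.1 hz
    refine Subgroup.mem_centralizer_iff.2 ?_
    rintro _ rfl
    exact (((Commute.refl x).pow_left p).zpow_right k).eq
  have hΓ : ∀ n ∈ N, ∀ ω : Ω, ω ∉ orbit P b → n • ω ∉ orbit P b := by
    intro n hn ω hω
    rw [cb.mem_fix] at hω ⊢
    intro u hu
    have hu' : n⁻¹ * u * n⁻¹⁻¹ ∈ B := (Subgroup.mem_normalizer_iff.1 (N.inv_mem hn) u).1 hu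
    have e := hω _ hu'
    rw [inv_inv, mul_smul, mul_smul, inv_smul_eq_iff] at e
    exact e
  have hΔ : ∀ n ∈ N, ∀ ω : Ω, ω ∈ orbit P b → n • ω ∈ orbit P b := by
    intro n hn ω hω
    by_contra hc
    have := hΓ n⁻¹ (N.inv_mem hn) _ hc
    rw [inv_smul_smul] at this
    exact this hω
  have hCb : ol C b = p ^ 2 := by
    rw [ol_eq_ncard, ← cb.cardD]
    congr 1
    ext c
    constructor
    · intro hc
      obtain ⟨k, hk, rfl⟩ := mem_orbit_sub.1 hc
      exact hΔ k (hCN hk) b (mem_orbit_self b)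
    · intro hc
      obtain ⟨k, hk, rfl⟩ := mem_orbit_sub.1 hc
      exact mem_orbit_sub.2 ⟨k, hPC hk, rfl⟩
  have hDb : D ≤ stabilizer G b := by
    have d1 : (stabilizer G b).relIndex D ∣ p ^ 2 := hCb ▸ rk3_dvd hDC (hCN.trans hND) _
    have d2 : (stabilizer G b).relIndex D ∣ Nat.card D := Subgroup.relIndex_dvd_card _ _
    have co : Nat.Coprime (p ^ 2) (Nat.card D) := ((Nat.Prime.coprime_iff_not_dvd hp).2 hD).pow_left 2
    exact Subgroup.relIndex_eq_one.1 (Nat.eq_one_of_dvd_coprimes co d1 d2)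
  have hD1 : ∀ d ∈ D, d = 1 := by
    intro d hd
    refine su.faith d fun ω => ?_
    by_cases hω : ω ∈ orbit P b
    · obtain ⟨z, hz, rfl⟩ := mem_orbit_sub.1 hω
      have hz' : z⁻¹ * d * z⁻¹⁻¹ ∈ D :=
        (Subgroup.mem_normalizer_iff.1 (hND (N.inv_mem (cb.norm hz))) d).1 hd
      have e : (z⁻¹ * d * z⁻¹⁻¹) • b = b := hDb hz'
      rw [inv_inv, mul_smul, mul_smul, inv_smul_eq_iff] at e
      exact e
    · exact hfix d hd ω hω
  have hCP : C = P := by
    refine le_antisymm (fun c hc => ?_) hPC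
    obtain ⟨d, hd, z, hz, rfl⟩ := hC c hc
    rw [hD1 d hd, one_mul]
    exact hz
  have hn : Nat.card Ω = p + p ^ 2 := by rw [su.card, ← cb.cardG, hG]
  have hρ1 : ρ = 1 := by
    have d1 : ρ ∣ p - 1 := (Dvd.intro _ rfl).trans hρf
    obtain ⟨k, rfl⟩ : ∃ k, p = k + 1 := ⟨p - 1, by omega⟩
    have e : Nat.card Ω - 1 = (k + 3) * k + 1 := by
      rw [hn]
      exact Nat.sub_eq_of_eq_add (by ring)
    rw [e] at hρn
    rw [Nat.add_sub_cancel] at d1
    exact Nat.dvd_one.1 ((Nat.dvd_add_right (d1.mul_left _)).1 hρn)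
  obtain ⟨a0, ha0⟩ := cb.ne
  haveI : Nontrivial Ω := ⟨a0, b, fun e => ha0 (by rw [e]; exact mem_orbit_self b)⟩
  haveI := su.trans
  have h2 : IsMultiplyPretransitive G Ω 2 := (card_orbits_prod_eq_two_iff Ω).1 (by rw [hρ, hρ1])
  refine ⟨hG, hCP, h2, fun a c ha hc hac n hn hna hnc => ?_⟩
  have o1 : ol N a = p := by
    rw [ol_eq_ncard, ← hG]
    congr 1
    ext w
    constructor
    · intro hw
      obtain ⟨k, hk, rfl⟩ := mem_orbit_sub.1 hw
      exact hΓ k hk a ha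
    · intro hw
      exact mem_orbit_sub.2 (cb.witt a w ha hw)
  have o2 : ol (N ⊓ stabilizer G a) c = p - 1 := by
    rw [ol_eq_ncard, ← hG, ← Set.ncard_sdiff_singleton_of_mem (s := (orbit P b)ᶜ) (a := a) ha]
    congr 1
    ext w
    constructor
    · intro hw
      obtain ⟨k, hk, rfl⟩ := mem_orbit_sub.1 hw
      refine ⟨hΓ k hk.1 c hc, fun e => hac ?_⟩
      have e1 : k • a = a := hk.2
      have e2 : k • c = a := e
      exact smul_left_cancel k (e1.trans e2.symm)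
    · rintro ⟨hw, hwa⟩
      obtain ⟨g, g1, g2⟩ := (is_two_pretransitive_iff.1 h2) hac (Ne.symm hwa)
      obtain ⟨k, hk, k1, k2⟩ := cb.witt2 a c a w ha hc ha hw g g1 g2
      exact mem_orbit_sub.2 ⟨k, ⟨hk, k1⟩, k2⟩
  have c1 := rk3_card N (stabilizer G a)
  have c2 := rk3_card (N ⊓ stabilizer G a) (stabilizer G c)
  have c3 := rk3_card N C
  have cP : Nat.card P = p ^ 2 := by rw [h.eP, Nat.card_zpowers, h.ox]
  have cB : Nat.card B = p := by rw [h.eB, Nat.card_zpowers, h.oy]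
  rw [inf_of_le_right hCN] at c3
  have cC : Nat.card C = p ^ 2 := by rw [hCP, cP]
  rw [cC] at c3
  rw [hρ1, one_mul] at hle
  change ol N a = p at o1
  unfold ol at o1 o2
  rw [o2] at c2
  rw [o1, c2, c3] at c1
  have hBle : B ≤ N ⊓ stabilizer G a ⊓ stabilizer G c := fun u hu =>
    ⟨⟨Subgroup.le_normalizer hu, (cb.mem_fix a).1 ha u hu⟩, (cb.mem_fix c).1 hc u hu⟩
  have hcard : Nat.card (N ⊓ stabilizer G a ⊓ stabilizer G c : Subgroup G) ≤ Nat.card B := by
    rw [cB]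
    have e : Nat.card (N ⊓ stabilizer G a ⊓ stabilizer G c : Subgroup G) * ((p - 1) * p) ≤
        p * ((p - 1) * p) := by
      calc _ = p ^ 2 * C.relIndex N := by rw [c1]; ring
        _ ≤ p ^ 2 * (p - 1) := Nat.mul_le_mul_left _ hle
        _ = _ := by ring
    exact Nat.le_of_mul_le_mul_right e (Nat.mul_pos hp1 hp.pos)
  rw [Subgroup.eq_of_le_of_card_ge hBle hcard]
  exact ⟨⟨hn, hna⟩, hnc⟩

end Cfsg.Agent.E2Q
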