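import Mathlib
import Cfsg.Agent.E2Q.Def
import Cfsg.Agent.E2Q.Bas
import Cfsg.Agent.E2Q.UV
import Cfsg.Agent.E2Q.Orb1
import Cfsg.Agent.E2Q.Orb2
import Cfsg.Agent.E2Q.Rich
import Cfsg.Agent.E2Q.B2b
import Cfsg.Agent.E2Q.Cyc
import Cfsg.Agent.E2Q.Chr
import Cfsg.Agent.E2Q.Rk3
import Cfsg.Agent.E2Q.End1
import Cfsg.Agent.E2Q.End2

set_option autoImplicit false

namespace Cfsg.Agent.E2Q

open MulAction

variable {G : Type*} [Group G] {Ω : Type*} [MulAction G Ω]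

theorem main [Finite G] [Finite Ω] {p q : ℕ} (su : Su G Ω p q) : False := by
  obtain ⟨P, hP, -⟩ := Syl.exists_ge (G := G) su.pp (R := ⊥) (K := ⊤) IsPGroup.of_bot le_top
  rcases orb1 su hP with h | ⟨b, h⟩
  · exact lemUV su (Or.inl rfl) hP (B := P) (fun g => ⟨fun hg => ⟨hg,
      (elab_of_ol su.pp su.faith hP.pg fun ω => (h ω).le).2 g hg⟩, fun hg => hg.1⟩) h
  obtain ⟨B, h0⟩ := orb2 su h
  have hb := rich su h0
  by_cases hK : B ⊓ stabilizer G b = ⊥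
  · obtain ⟨x, hc⟩ := cyc1 su hb hK
    have hy : x ^ p ∈ B := by rw [hc.eB]; exact Subgroup.mem_zpowers _
    obtain ⟨ρ, h1, h2, h3⟩ := chr (Ω := Ω) su.pp hc.ox (b := b) (by rw [← hc.eP]; exact hb.cardD)
      (fun a ha => (hb.mem_fix a).1 (by rwa [hc.eP]) _ hy) (cyc0 su hc)
      (by rw [su.card]; exact Dvd.dvd.mul_right (dvd_mul_left _ _) _)
    rw [← hc.eB] at h3
    obtain ⟨hG, hC, h2t, hN⟩ := rk3 su hc h1 h2 h3
    obtain ⟨g, hg, hf⟩ := end1 su hc hG hC h2t hN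
    exact end2 su hc hG hN hg hf
  · exact b2b su hb hK

end Cfsg.Agent.E2Q
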